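import Cfsg.Agent.H23.PSolv.StepExt

/-!
Extensions of `θ × β̄` to diagonal groups compose; so the extension exists for an abelian group
of operators.
-/

set_option autoImplicit false
set_option linter.unusedSectionVars false
set_option linter.style.haveILetI false

open Cfsg H87.McKay
open scoped ComplexConjugate

namespace H23.PSolv

universe u

attribute [local instance high] Fintype.ofFinite

/-- The average of a character over the kernel of a surjection is a character. -/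
theorem isCharacter_average {H D : Type*} [Group H] [Finite H] [Group D] (π : H →* D)
    (hπ : Function.Surjective π) {χ : H → ℂ} (hχ : IsCharacter H χ) (f : D → ℂ)
    (hf : ∀ h, f (π h) = (Nat.card π.ker : ℂ)⁻¹ * ∑ n : π.ker, χ (h * n)) :
    IsCharacter D f := by
  classical
  obtain ⟨k, ρ, rfl⟩ := hχ
  let W : Submodule ℂ (Fin k → ℂ) := ⨅ n : π.ker, LinearMap.eqLocus (ρ n) (1 : Module.End ℂ (Fin k → ℂ))
  have hW : ∀ v, v ∈ W ↔ ∀ n : π.ker, ρ n v = v := fun v => by
    rw [Submodule.mem_iInf]; exact Iff.rfl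
  have hWinv : ∀ h, ∀ v ∈ W, ρ h v ∈ W := by
    intro h v hv
    refine (hW _).2 fun n => ?_
    rw [← Module.End.mul_apply, ← map_mul, show (n : H) * h = h * (h⁻¹ * n * h) by group, map_mul,
      Module.End.mul_apply]
    exact congrArg (ρ h) ((hW v).1 hv ⟨h⁻¹ * n * h, by
      rw [MonoidHom.mem_ker, map_mul, map_mul, MonoidHom.mem_ker.1 n.2, mul_one, ← map_mul,
        inv_mul_cancel, map_one]⟩)
  let σ0 : Representation ℂ H W :=
    { toFun := fun h => (ρ h).restrict (hWinv h)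
      map_one' := LinearMap.ext fun v => Subtype.ext (by simp)
      map_mul' := fun a b => LinearMap.ext fun v => Subtype.ext (by
        show ρ (a * b) v = ρ a (ρ b v)
        rw [map_mul]; rfl) }
  have hker : π.ker ≤ σ0.ker := fun n hn =>
    LinearMap.ext fun v => Subtype.ext ((hW _).1 v.2 ⟨n, hn⟩)
  let σ : Representation ℂ D W :=
    (QuotientGroup.lift π.ker σ0 hker).comp
      (QuotientGroup.quotientKerEquivOfSurjective π hπ).symm.toMonoidHom
  have hσ : ∀ h, σ (π h) = σ0 h := fun h => by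
    show QuotientGroup.lift π.ker σ0 hker ((QuotientGroup.quotientKerEquivOfSurjective π hπ).symm (π h)) = _
    rw [show (QuotientGroup.quotientKerEquivOfSurjective π hπ).symm (π h) =
      (h : H ⧸ π.ker) from (MulEquiv.symm_apply_eq _).2 rfl, QuotientGroup.lift_mk]
  suffices σ.character = f by
    rw [← this]; exact H12.isCharacter_character σ
  funext d
  obtain ⟨h, rfl⟩ := hπ d
  rw [hf]
  show LinearMap.trace ℂ W (σ (π h)) = _
  rw [hσ]
  set T : Module.End ℂ (Fin k → ℂ) := (Nat.card π.ker : ℂ)⁻¹ • ∑ n : π.ker, ρ (h * n) with hT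
  have hTW : ∀ v, T v ∈ W := by
    intro v
    refine (hW _).2 fun m => ?_
    simp only [hT, LinearMap.smul_apply, LinearMap.sum_apply, map_smul, map_sum]
    congr 1
    refine Fintype.sum_equiv (Equiv.mulLeft (⟨h⁻¹ * m * h, by
      rw [MonoidHom.mem_ker, map_mul, map_mul, MonoidHom.mem_ker.1 m.2, mul_one, ← map_mul,
        inv_mul_cancel, map_one]⟩ : π.ker)) _ _ fun n => ?_
    rw [← Module.End.mul_apply, ← map_mul]
    show ρ _ v = ρ (h * (h⁻¹ * m * h * n)) v
    congr 2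
    group
  have hres : (T.restrict fun v _ => hTW v : Module.End ℂ W) = σ0 h := by
    refine LinearMap.ext fun v => Subtype.ext ?_
    show T v = ρ h v
    simp only [hT, LinearMap.smul_apply, LinearMap.sum_apply]
    rw [Finset.sum_congr rfl fun (n : π.ker) _ => show ρ (h * (n : H)) (v : Fin k → ℂ) = ρ h v by
      rw [map_mul, Module.End.mul_apply, (hW _).1 v.2 n], Finset.sum_const, Finset.card_univ,
      ← Nat.card_eq_fintype_card, ← Nat.cast_smul_eq_nsmul ℂ, smul_smul, inv_mul_cancel₀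
        (Nat.cast_ne_zero.2 Nat.card_pos.ne'), one_smul]
  rw [← hres, LinearMap.trace_restrict_eq_of_forall_mem _ _ hTW, hT, map_smul, map_sum, smul_eq_mul]
  rfl

/-- A representation with irreducible restriction along a homomorphism is irreducible. -/
theorem isIrreducible_of_comp {A D : Type*} [Group A] [Group D] {V : Type*} [AddCommGroup V]
    [Module ℂ V] [FiniteDimensional ℂ V] (ι : A →* D) (σ : Representation ℂ D V)
    (ρ : Representation ℂ A V) [ρ.IsIrreducible] (h : ∀ a, σ (ι a) = ρ a) : σ.IsIrreducible := by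
  refine @IsSimpleOrder.mk _ _ _ ⟨⊥, ⊤, fun h' => ?_⟩ fun a => ?_
  · have : Nontrivial V := H12.nontrivial_of_isIrreducible ρ
    exact bot_ne_top (α := Submodule ℂ V) (congrArg Subrepresentation.toSubmodule h')
  · rcases eq_bot_or_eq_top (⟨a.toSubmodule, fun r v hv => by
      rw [← h r]; exact a.apply_mem_toSubmodule _ hv⟩ : Subrepresentation ρ) with h' | h'
    · exact Or.inl (Subrepresentation.toSubmodule_injective
        (congrArg Subrepresentation.toSubmodule h' :))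
    · exact Or.inr (Subrepresentation.toSubmodule_injective
        (congrArg Subrepresentation.toSubmodule h' :))

variable {G : Type u} [Group G] [Finite G]

theorem DExt.comp {K K1 C N1 N : Subgroup G} {θ : IrrCharacter K} {β1 : IrrCharacter K1}
    {β : IrrCharacter C} (h1K : K1 ≤ K) (hC1 : C ≤ K1)
    (hN1K : N1 ≤ Subgroup.normalizer (K : Set G)) (hNK1 : N ≤ Subgroup.normalizer (K1 : Set G))
    (hK1N1 : K1 ≤ N1) (hNN1 : N ≤ N1) (hCN : C ≤ N) (D1 : DExt θ β1 N1) (D2 : DExt β1 β N) :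
    DExt θ β N := by
  classical
  obtain ⟨χ1, hχ1⟩ := D1
  obtain ⟨χ2, hχ2⟩ := D2
  have hNK : N ≤ Subgroup.normalizer (K : Set G) := hNN1.trans hN1K
  -- the fibre product
  let H : Subgroup (dia K N1 × dia K1 N) :=
    { carrier := {x | (x.1 : G × G).2 = (x.2 : G × G).1}
      one_mem' := rfl
      mul_mem' := fun {a b} ha hb => by
        show (a.1 : G × G).2 * (b.1 : G × G).2 = (a.2 : G × G).1 * (b.2 : G × G).1
        rw [ha, hb]
      inv_mem' := fun {a} ha => congrArg (fun z : G => z⁻¹) ha }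
  have hmem : ∀ x : H, ((x.1.1 : G × G).1, (x.1.2 : G × G).2) ∈ dia K N := by
    intro x
    refine (mem_dia hNK).2 ⟨x.1.2.2.1.1, ?_⟩
    show (x.1.1 : G × G).1 * ((x.1.2 : G × G).2)⁻¹ ∈ K
    have hx : (x.1.1 : G × G).2 = (x.1.2 : G × G).1 := x.2
    have := mul_mem x.1.1.2.2 (h1K x.1.2.2.2)
    rwa [hx, mul_assoc, inv_mul_cancel_left] at this
  let π : H →* dia K N := MonoidHom.mk' (fun x => ⟨_, hmem x⟩) fun a b => rfl
  have hlift : ∀ (d : dia K N) {m : G}, m * ((d : G × G).2)⁻¹ ∈ K1 →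
      ((d : G × G).1, m) ∈ dia K N1 ∧ (m, (d : G × G).2) ∈ dia K1 N := by
    intro d m hm
    refine ⟨(mem_dia hN1K).2 ⟨?_, ?_⟩, (mem_dia hNK1).2 ⟨d.2.1.1, hm⟩⟩
    · have := mul_mem (hK1N1 hm) (hNN1 d.2.1.1)
      rwa [inv_mul_cancel_right] at this
    · have := mul_mem d.2.2 (inv_mem (h1K hm))
      rwa [mul_inv_rev, inv_inv, mul_assoc, inv_mul_cancel_left] at this
  have hπ : Function.Surjective π := fun d => by
    obtain ⟨h1, h2⟩ := hlift d (m := (d : G × G).2) (by rw [mul_inv_cancel]; exact one_mem _)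
    exact ⟨⟨(⟨_, h1⟩, ⟨_, h2⟩), rfl⟩, rfl⟩
  have hk1 : ∀ k : K1, ((1 : G), (k : G)) ∈ dia K N1 ∧ ((k : G), (1 : G)) ∈ dia K1 N :=
    fun k => hlift 1 (by simp)
  let ek : K1 ≃ π.ker :=
    { toFun := fun k => ⟨⟨(⟨_, (hk1 k).1⟩, ⟨_, (hk1 k).2⟩), rfl⟩, rfl⟩
      invFun := fun x => ⟨(x.1.1.1 : G × G).2, by
        have hx : (x.1.1.1 : G × G).2 = (x.1.1.2 : G × G).1 := x.1.2
        have h2 : (x.1.1.2 : G × G).2 = 1 := congrArg (fun z : dia K N => (z : G × G).2) x.2
        have := x.1.1.2.2.2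
        rwa [h2, inv_one, mul_one, ← hx] at this⟩
      left_inv := fun k => rfl
      right_inv := fun x => by
        obtain ⟨⟨⟨⟨⟨a, b⟩, h1⟩, ⟨⟨c, d⟩, h2⟩⟩, hx⟩, hx'⟩ := x
        have ha : a = 1 := congrArg (fun z : dia K N => (z : G × G).1) hx'
        have hd : d = 1 := congrArg (fun z : dia K N => (z : G × G).2) hx'
        have hbc : b = c := hx
        subst ha hd hbc
        rfl }
  let Ψ : dia K N → ℂ := fun d => (Nat.card K1 : ℂ)⁻¹ * ∑ k : K1,
    cf (χ1 : dia K N1 → ℂ) ((d : G × G).1, (k : G) * (d : G × G).2) *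
      cf (χ2 : dia K1 N → ℂ) ((k : G) * (d : G × G).2, (d : G × G).2)
  have hΨ : IsCharacter (dia K N) Ψ := by
    refine isCharacter_average π hπ
      (H12.IsCharacter.mul (H12.IsCharacter.comp (H12.isCharacter_irr χ1)
          ((MonoidHom.fst (dia K N1) (dia K1 N)).comp H.subtype))
        (H12.IsCharacter.comp (H12.isCharacter_irr χ2)
          ((MonoidHom.snd (dia K N1) (dia K1 N)).comp H.subtype))) Ψ fun h => ?_
    have hx : (h.1.1 : G × G).2 = (h.1.2 : G × G).1 := h.2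
    have hc : (h.1.1 : G × G).2 * ((h.1.2 : G × G).2)⁻¹ ∈ K1 := by
      rw [hx]; exact h.1.2.2.2
    show (Nat.card K1 : ℂ)⁻¹ * _ = _
    rw [← Nat.card_congr ek]
    congr 1
    symm
    -- reindex by `k ↦ m k n⁻¹`
    have hnK : (h.1.1 : G × G).2 ∈ Subgroup.normalizer (K1 : Set G) := by
      have := mul_mem (Subgroup.le_normalizer hc) (hNK1 h.1.2.2.1.1)
      rwa [inv_mul_cancel_right] at this
    refine Fintype.sum_equiv (ek.symm.trans (Equiv.ofBijective (fun k : K1 =>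
      (⟨(h.1.1 : G × G).2 * k * ((h.1.2 : G × G).2)⁻¹, by
        have := mul_mem ((Subgroup.mem_normalizer_iff.1 hnK k).1 k.2) hc
        rwa [mul_assoc _ (_⁻¹), inv_mul_cancel_left] at this⟩ : K1))
      (Finite.injective_iff_bijective.1 fun k k' hk => Subtype.ext
        (mul_left_cancel (mul_right_cancel (congrArg Subtype.val hk)))))) _ _ fun n => ?_
    obtain ⟨k, rfl⟩ := ek.surjective n
    show (χ1 : dia K N1 → ℂ) (h * (ek k : H)).1.1 * (χ2 : dia K1 N → ℂ) (h * (ek k : H)).1.2 = _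
    rw [← cf_coe (χ1 : dia K N1 → ℂ), ← cf_coe (χ2 : dia K1 N → ℂ)]
    simp only [Equiv.trans_apply, Equiv.symm_apply_apply, Equiv.ofBijective_apply]
    show cf (χ1 : dia K N1 → ℂ) ((h.1.1 : G × G).1 * 1, (h.1.1 : G × G).2 * k) *
        cf (χ2 : dia K1 N → ℂ) ((h.1.2 : G × G).1 * k, (h.1.2 : G × G).2 * 1) =
      cf (χ1 : dia K N1 → ℂ) ((h.1.1 : G × G).1,
          (h.1.1 : G × G).2 * k * ((h.1.2 : G × G).2)⁻¹ * (h.1.2 : G × G).2) *
        cf (χ2 : dia K1 N → ℂ) ((h.1.1 : G × G).2 * k * ((h.1.2 : G × G).2)⁻¹ * (h.1.2 : G × G).2,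
          (h.1.2 : G × G).2)
    rw [mul_one, mul_one, inv_mul_cancel_right, ← hx]
  have hval : ∀ {k c : G} (hk : k ∈ K) (hc : c ∈ C),
      Ψ ⟨(k, c), prod_le_dia hNK (hC1.trans h1K) hCN ⟨hk, hc⟩⟩ =
        cf (θ : K → ℂ) k * conj (cf (β : C → ℂ) c) := by
    intro k c hk hc
    show (Nat.card K1 : ℂ)⁻¹ * _ = _
    rw [Finset.sum_congr rfl fun j _ => show _ = (cf (θ : K → ℂ) k * conj (cf (β : C → ℂ) c)) *
        ((β1 : K1 → ℂ) (j * ⟨c, hC1 hc⟩) * conj ((β1 : K1 → ℂ) (j * ⟨c, hC1 hc⟩))) by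
      rw [hχ1 k hk _ (mul_mem j.2 (hC1 hc)), hχ2 _ (mul_mem j.2 (hC1 hc)) c hc,
        cf_apply _ (mul_mem j.2 (hC1 hc))]
      show _ = _ * ((β1 : K1 → ℂ) ⟨_, mul_mem j.2 (hC1 hc)⟩ *
        conj ((β1 : K1 → ℂ) ⟨_, mul_mem j.2 (hC1 hc)⟩))
      ring, ← Finset.mul_sum, mul_left_comm]
    rw [show (∑ j : K1, (β1 : K1 → ℂ) (j * ⟨c, hC1 hc⟩) *
        conj ((β1 : K1 → ℂ) (j * ⟨c, hC1 hc⟩))) = ∑ j : K1, (β1 : K1 → ℂ) j * conj ((β1 : K1 → ℂ) j)
      from Fintype.sum_equiv (Equiv.mulRight (⟨c, hC1 hc⟩ : K1)) _ _ fun j => rfl]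
    have h := H12.classInner_irr_self β1
    rw [classInner] at h
    rw [h, mul_one]
  obtain ⟨m, σ, hσ⟩ := hΨ
  let R0 := K.prod C
  have hR0 : R0 ≤ dia K N := prod_le_dia hNK (hC1.trans h1K) hCN
  obtain ⟨n, ρ, hρi, hρ⟩ := (lift hR0 (tbar θ β)).2
  let σR : Representation ℂ (R0.subgroupOf (dia K N)) (Fin m → ℂ) :=
    σ.comp (R0.subgroupOf (dia K N)).subtype
  have hc : σR.character = ρ.character := by
    funext y
    show σ.character (y : dia K N) = _
    rw [hρ, lift_apply, hσ]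
    refine (hval y.2.1 y.2.2).trans ?_
    exact (cf_tbar θ β y.2.1 y.2.2).symm
  obtain ⟨e⟩ := H12.nonempty_equiv_of_character_eq _ _ hc.symm
  haveI := hρi
  haveI := H12.isIrreducible_of_equiv e
  have hσi : σ.IsIrreducible :=
    isIrreducible_of_comp (R0.subgroupOf (dia K N)).subtype σ σR fun _ => rfl
  refine ⟨⟨Ψ, m, σ, hσi, hσ⟩, fun k hk c hc => ?_⟩
  rw [cf_apply _ (hR0 ⟨hk, hc⟩)]
  exact hval hk hc

variable {M : Ideal AlgInt} [hMp : M.IsPrime] {p : ℕ} [hp : Fact p.Prime]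

/-- The extension for an abelian `p`-group of operators. -/
theorem exists_dExt_abelian (hM : IsPModular p M) {K : Subgroup G} (hK : ¬ p ∣ Nat.card K)
    {θ : IrrCharacter K} (n : ℕ) :
    ∀ (P : Subgroup G), Nat.card P = n → IsPGroup p P → (∀ a ∈ P, ∀ b ∈ P, a * b = b * a) →
      P ≤ st (θ : K → ℂ) → ∀ (C : Subgroup G), C = K ⊓ Subgroup.centralizer (P : Set G) →
      ∀ (β : IrrCharacter C), GCor p (θ : K → ℂ) (β : C → ℂ) →
      ∀ (N : Subgroup G), N ≤ Subgroup.normalizer (P : Set G) → N ≤ st (θ : K → ℂ) → C ≤ N →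
      DExt θ β N := by
  induction n using Nat.strong_induction_on with
  | _ n ih =>
    intro P hn hP hab hPθ C hC β hβ N hNP hNθ hCN
    have hPK : P ≤ Subgroup.normalizer (K : Set G) := hPθ.trans (st_le _)
    have hNK : N ≤ Subgroup.normalizer (K : Set G) := hNθ.trans (st_le _)
    have hcomm : ∀ (X : Subgroup G), ∀ a ∈ P, ∀ b ∈ P,
        a * b * a⁻¹ * b⁻¹ ∈ Subgroup.centralizer (X : Set G) := fun X a ha b hb => by
      rw [hab a ha b hb, mul_inv_cancel_right, mul_inv_cancel]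
      exact one_mem _
    by_cases hexp : ∀ a ∈ P, a ^ p ∈ Subgroup.centralizer (K : Set G)
    · exact exists_dExt hM hK hP hPK hC (hcomm K) hexp hNK hNP hCN hPθ hNθ hβ
    push Not at hexp
    obtain ⟨a0, ha0, ha0'⟩ := hexp
    let P0 : Subgroup G :=
      { carrier := {x | ∃ a ∈ P, a ^ p = x}
        one_mem' := ⟨1, one_mem _, one_pow _⟩
        mul_mem' := by
          rintro _ _ ⟨a, ha, rfl⟩ ⟨b, hb, rfl⟩
          exact ⟨a * b, mul_mem ha hb, Commute.mul_pow (hab a ha b hb) p⟩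
        inv_mem' := by
          rintro _ ⟨a, ha, rfl⟩
          exact ⟨a⁻¹, inv_mem ha, inv_pow a p⟩ }
    have hP0 : P0 ≤ P := by
      rintro _ ⟨a, ha, rfl⟩
      exact pow_mem ha p
    have hlt : Nat.card P0 < n := by
      rw [← hn]
      refine lt_of_le_of_ne (Subgroup.card_le_of_le hP0) fun he => ?_
      have hPP : P0 = P := Subgroup.eq_of_le_of_card_ge hP0 he.ge
      let g : P → P := fun a => ⟨(a : G) ^ p, pow_mem a.2 p⟩
      have hsurj : Function.Surjective g := fun x => by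
        obtain ⟨a, ha, h⟩ := hPP.ge x.2
        exact ⟨⟨a, ha⟩, Subtype.ext h⟩
      have hinj := (Finite.injective_iff_surjective.2 hsurj)
      obtain ⟨j, hj⟩ := hP ⟨a0, ha0⟩
      have hroot : ∀ i, ∀ a : P, a ^ p ^ i = 1 → a = 1 := by
        intro i
        induction i with
        | zero => intro a h; simpa using h
        | succ i ihi =>
          intro a h
          refine hinj (a₁ := a) (a₂ := 1) (Subtype.ext ?_)
          have := congrArg Subtype.val (ihi (a ^ p) (by rw [← pow_mul, ← pow_succ']; exact h))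
          show (a : G) ^ p = (1 : G) ^ p
          rw [one_pow]
          exact this
      have := congrArg Subtype.val (hroot j _ hj)
      exact ha0' (by rw [show a0 = 1 from this, one_pow]; exact one_mem _)
    set K1 := K ⊓ Subgroup.centralizer (P0 : Set G) with hK1
    have h1K : K1 ≤ K := inf_le_left
    have hC1 : C ≤ K1 := hC ▸ inf_le_inf_left K (Subgroup.centralizer_le hP0)
    have hK1p : ¬ p ∣ Nat.card K1 := fun h => hK (h.trans (Subgroup.card_dvd_of_le h1K))
    have hP0p : IsPGroup p P0 := hP.to_le hP0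
    have hP0K : P0 ≤ Subgroup.normalizer (K : Set G) := hP0.trans hPK
    have hP0θ : P0 ≤ st (θ : K → ℂ) := hP0.trans hPθ
    have hPP0 : P ≤ Subgroup.normalizer (P0 : Set G) := fun x hx =>
      Subgroup.mem_normalizer_fintype fun y hy => by
        rw [hab x hx y (hP0 hy), mul_inv_cancel_right]; exact hy
    have hNP0 : N ≤ Subgroup.normalizer (P0 : Set G) := fun x hx =>
      Subgroup.mem_normalizer_fintype fun y hy => by
        obtain ⟨a, ha, rfl⟩ := hy
        exact ⟨x * a * x⁻¹, (Subgroup.mem_normalizer_iff.1 (hNP hx) a).1 ha, conj_pow⟩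
    obtain ⟨β1, hβ1⟩ := sg_exists hP0K (C := K1) rfl hP0p hK hP0θ
    have hPK1 : P ≤ Subgroup.normalizer (K1 : Set G) := fun x hx =>
      mem_normalizer_inf_centralizer (hPK hx) (hPP0 hx)
    have hNK1 : N ≤ Subgroup.normalizer (K1 : Set G) := fun x hx =>
      mem_normalizer_inf_centralizer (hNK hx) (hNP0 hx)
    have hPβ1 : P ≤ st (β1 : K1 → ℂ) := fun x hx =>
      (sg_st_iff hP0K rfl hP0p hK hP0θ hβ1 (hPK hx) (hPP0 hx)).1 (hPθ hx)
    have hNβ1 : N ≤ st (β1 : K1 → ℂ) := fun x hx =>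
      (sg_st_iff hP0K rfl hP0p hK hP0θ hβ1 (hNK hx) (hNP0 hx)).1 (hNθ hx)
    have hC' : C = K1 ⊓ Subgroup.centralizer (P : Set G) :=
      le_antisymm (le_inf hC1 (hC ▸ inf_le_right)) (hC ▸ inf_le_inf_right _ h1K)
    have hβ' : GCor p (β1 : K1 → ℂ) (β : C → ℂ) := fun h => by
      have h' := gl_chain hP0p hK h1K (fix_cj hP0K) hC1 ((inv_cj hP0K θ).2 hP0θ) hβ1 β
      rw [(ZMod.natCast_eq_zero_iff _ _).2 h, mul_zero] at h'
      exact hβ ((ZMod.natCast_eq_zero_iff _ _).1 h')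
    have D2 : DExt β1 β N := exists_dExt hM hK1p hP hPK1 hC' (hcomm K1)
      (fun a ha => Subgroup.mem_centralizer_iff.2 fun y hy =>
        (Subgroup.mem_centralizer_iff.1 hy.2 (a ^ p) ⟨a, ha, rfl⟩).symm)
      hNK1 hNP hCN hPβ1 hNβ1 hβ'
    have hK1P0 : K1 ≤ Subgroup.normalizer (P0 : Set G) := fun x hx =>
      Subgroup.mem_normalizer_fintype fun y hy => by
        rw [← Subgroup.mem_centralizer_iff.1 hx.2 y hy, mul_inv_cancel_right]; exact hy
    have D1 : DExt θ β1 (K1 ⊔ N) := ih _ hlt P0 rfl hP0p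
      (fun a ha b hb => hab a (hP0 ha) b (hP0 hb)) hP0θ K1 rfl β1 hβ1 (K1 ⊔ N)
      (sup_le hK1P0 hNP0) (sup_le (h1K.trans (le_st θ)) hNθ) le_sup_left
    exact D1.comp h1K hC1 (sup_le (h1K.trans Subgroup.le_normalizer) hNK) hNK1 le_sup_left
      le_sup_right hCN D2

end H23.PSolv
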