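import Cfsg.Agent.H21.FirstMain
import Cfsg.Agent.H87.McKay.Glau
import Cfsg.Agent.H87.McKay.Orbit

/-!
A block of `N(P)` inducing a block over `θ` lies over the Glauberman correspondent of a conjugate
of `θ`.
-/

set_option autoImplicit false
set_option linter.unusedSectionVars false
set_option linter.style.haveILetI false

open Cfsg H87.McKay
open scoped ComplexConjugate

namespace H23.PSolv

universe u

variable {G : Type u} [Group G] [Fintype G] {M : Ideal AlgInt} [hMp : M.IsPrime] {p : ℕ}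
  [hp : Fact p.Prime]

/-- An invariant weight under a `p`-group whose sum is prime to `p` has a fixed point of weight
prime to `p`. -/
theorem exists_fixed_of_not_dvd {D Ω : Type*} [Group D] [Finite D] [Fintype Ω] [MulAction D Ω]
    (hD : IsPGroup p D) (w : Ω → ℕ) (hinv : ∀ (d : D) ω, w (d • ω) = w ω)
    (hsum : ¬ p ∣ ∑ ω, w ω) : ∃ ω, (∀ d : D, d • ω = ω) ∧ ¬ p ∣ w ω := by
  classical
  haveI := Fintype.ofFinite D
  by_contra hne
  simp only [not_exists, not_and, not_not] at hne
  refine hsum ?_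
  rw [← Fintype.sum_equiv (MulAction.selfEquivSigmaOrbits D Ω).symm
    (fun x => w ((MulAction.selfEquivSigmaOrbits D Ω).symm x)) w fun x => rfl, Fintype.sum_sigma]
  refine Finset.dvd_sum fun q _ => ?_
  rw [Finset.sum_congr rfl fun x _ => show
    w ((MulAction.selfEquivSigmaOrbits D Ω).symm ⟨q, x⟩) = w q.out by
      obtain ⟨_, d, rfl⟩ := x
      exact hinv d _, Finset.sum_const, Finset.card_univ, smul_eq_mul]
  rw [← Nat.card_eq_fintype_card, Nat.card_coe_set_eq, ← MulAction.index_stabilizer]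
  obtain ⟨n, hn⟩ := hD.index (MulAction.stabilizer D q.out)
  rcases Nat.eq_zero_or_pos n with h0 | h0
  · rw [h0, pow_zero] at hn
    exact dvd_mul_of_dvd_right (hne _ fun d => by
      have : d ∈ MulAction.stabilizer D q.out := by
        rw [Subgroup.index_eq_one.1 hn]; exact Subgroup.mem_top d
      exact this) _
  · exact dvd_mul_of_dvd_left (hn ▸ dvd_pow_self p h0.ne') _

theorem exists_correspondent (hM : IsPModular p M) {K P C H : Subgroup G} [hKn : K.Normal]
    [Fintype K] (hK : ¬ p ∣ Nat.card K) (hP : IsPGroup p P)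
    (hC : C = K ⊓ Subgroup.centralizer (P : Set G))
    (hH : H = Subgroup.normalizer (P : Set G)) [Fintype H] [Fintype (C.subgroupOf H)]
    (hKN : ∀ n ∈ H, n ∈ K → n ∈ C) (hCH : C ≤ H)
    {B : Set (IrrCharacter G)} {c : Set (IrrCharacter H)} (hind : IsInducedBlock M H c B)
    {χ : IrrCharacter G} (hχ : χ ∈ B) {φ : IrrCharacter H} (hφ : φ ∈ c)
    {θ : IrrCharacter K} (hθ : classInner (fun k : K => (χ : G → ℂ) k) (θ : K → ℂ) ≠ 0)
    {β : IrrCharacter C}
    (hβ : classInner (fun x : C.subgroupOf H => (φ : H → ℂ) x)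
      (lift hCH β : C.subgroupOf H → ℂ) ≠ 0) :
    ∃ g : G, P ≤ st (H21.conjChar K g θ : K → ℂ) ∧
      GCor p (H21.conjChar K g θ : K → ℂ) (β : C → ℂ) := by
  classical
  have hCK : C ≤ K := hC ▸ inf_le_left
  have hnK : ∀ x : G, x ∈ Subgroup.normalizer (K : Set G) := fun x => by
    rw [Subgroup.normalizer_eq_top]; exact Subgroup.mem_top x
  haveI hCn : (C.subgroupOf H).Normal := normal_of_le fun x hx =>
    hC ▸ mem_normalizer_inf_centralizer (hnK x) (hH ▸ hx)
  set β' : IrrCharacter (C.subgroupOf H) := lift hCH β with hβ'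
  let U : Set (IrrCharacter K) := {τ | ∃ g : G, H21.conjChar K g θ = τ}
  have hθU : θ ∈ U := ⟨1, H21.conjChar_one K θ⟩
  have hUconj : ∀ (g : G) (τ : IrrCharacter K), τ ∈ U → H21.conjChar K g τ ∈ U := by
    rintro g _ ⟨h, rfl⟩
    exact ⟨h * g, (H21.conjChar_conjChar K g h θ).symm⟩
  have hinv := H21.conjChar_blockCoeff K U hUconj
  -- the coefficients are local integers
  have hKinv : MemLocalRing M ((Nat.card K : ℂ))⁻¹ := H20.inv_natCast_memRing hM hK
  have hfmem : ∀ k : K, MemLocalRing M (blockCoeff U k) := fun k => by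
    rw [H20.blockCoeff_eq_sum]
    refine H20.memRing_mul hKinv (H20.memRing_sum _ _ fun τ _ => ?_)
    split_ifs
    · exact H20.memRing_mul (H20.memRing_irr τ 1)
        (H20.memRing_of_isIntegral ((H20.isIntegral_irr τ k).map (starRingEnd ℂ).toIntAlgHom))
    · exact H20.memRing_of_isIntegral isIntegral_zero
  let a : MonoidAlgebra (H20.O M) G :=
    H20.ofFun fun g => if h : g ∈ K then ⟨blockCoeff U ⟨g, h⟩, hfmem _⟩ else 0
  have hacl : H20.IsCl a := by
    intro g y
    simp only [a, H20.coeff_ofFun]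
    by_cases hg : g ∈ K
    · rw [dif_pos hg, dif_pos (hKn.conj_mem g hg y)]
      exact Subtype.ext (hinv ⟨g, hg⟩ _ ((H21.mem_normalClass K).2 (isConj_iff.2 ⟨y, rfl⟩)))
    · rw [dif_neg hg, dif_neg fun h => hg (by simpa [mul_assoc] using hKn.conj_mem _ h y⁻¹)]
  have hrd : H20.rd (H21.resSub H a) = H21.resSub H (H20.rd a) := by
    ext x
    rfl
  have hkey : H20.redC M (H20.omega (φ : H → ℂ) (H20.emb (H21.resSub H a))) =
      H20.redC M (H20.omega (χ : G → ℂ) (H20.emb a)) := by
    rw [← H20.lam_rd φ (H21.resSub_isCl H (hacl.isInv H)), ← H20.lam_rd χ hacl, hrd]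
    exact (H21.isInducedBlock_iff hind.1 hind.2.1 hφ hχ).1 hind _ hacl.rd
  -- on `G` the value is one
  have hG : H20.omega (χ : G → ℂ) (H20.emb a) = 1 := by
    have h1 := H21.sum_mul_constituent K χ θ (blockCoeff U) hinv hθ
    have h2 := H20.omega_eIdem U θ
    rw [if_pos hθU] at h2
    rw [← h2]
    simp only [H20.omega, H20.eIdem, H20.coeff_ofFun, H20.coeff_emb, a]
    rw [← h1]
    congr 1
    rw [← Finset.sum_subset (Finset.subset_univ (Finset.univ.filter (· ∈ K))),
      Finset.sum_subtype (p := (· ∈ K)) _ (by simp)]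
    · exact Fintype.sum_congr _ _ fun k => by rw [dif_pos k.2]
    · intro g _ hg
      rw [dif_neg (by simpa using hg)]
      simp
  -- on `H` it is a multiple of the weight
  set S : ℕ := ∑ τ : IrrCharacter K,
    if τ ∈ U then H12.degree (τ : K → ℂ) * mlt (τ : K → ℂ) (β : C → ℂ) else 0 with hS
  obtain ⟨d, hd⟩ := H12.irr_degree_dvd_card β
  have hdeg : (β' : C.subgroupOf H → ℂ) 1 = (H12.degree (β : C → ℂ) : ℂ) := by
    rw [← H12.irr_apply_one β, hβ', lift_apply]
    exact cf_coe (β : C → ℂ) 1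
  have hH' : H20.omega (φ : H → ℂ) (H20.emb (H21.resSub H a)) =
      ((Nat.card K : ℂ))⁻¹ * ((d * S : ℕ) : ℂ) := by
    let g0 : C.subgroupOf H → ℂ := fun x => blockCoeff U ⟨((x : H) : G), hCK x.2⟩
    have hg0 : H21.IsGInvariant (C.subgroupOf H) g0 := fun n m hnm => hinv _ _
      ((H21.mem_normalClass K).2 (by
        obtain ⟨y, hy⟩ := isConj_iff.1 ((H21.mem_normalClass _).1 hnm)
        exact isConj_iff.2 ⟨(y : G), congrArg Subtype.val hy⟩))
    have h1 := H21.sum_mul_constituent (C.subgroupOf H) φ β' g0 hg0 hβ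
    simp only [H20.omega, H20.coeff_emb, H21.coeff_resSub, H20.coeff_ofFun, a]
    rw [← Finset.sum_subset (Finset.subset_univ (Finset.univ.filter (· ∈ C.subgroupOf H))),
      Finset.sum_subtype (p := (· ∈ C.subgroupOf H)) (F := (inferInstance : Fintype (C.subgroupOf H))) _
        (by simp)]
    swap
    · intro x _ hx
      rw [dif_neg fun h => by
        simp only [Finset.mem_filter, Finset.mem_univ, true_and] at hx
        exact hx (hKN _ x.2 h)]
      simp
    rw [Finset.sum_congr rfl fun x _ => show _ = g0 x * (φ : H → ℂ) x by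
      rw [dif_pos (show ((x : H) : G) ∈ K from hCK x.2)], h1, hdeg]
    have hd0 : (H12.degree (β : C → ℂ) : ℂ) ≠ 0 := by exact_mod_cast (H12.irr_degree_pos β).ne'
    rw [div_eq_iff hd0]
    simp only [g0, H20.blockCoeff_eq_sum, hS, Finset.mul_sum, Finset.sum_mul, Nat.cast_mul,
      Nat.cast_sum]
    rw [Finset.sum_comm]
    refine Finset.sum_congr rfl fun τ _ => ?_
    by_cases hτ : τ ∈ U
    · simp only [if_pos hτ]
      have h3 : ∑ x : C.subgroupOf H, (β' : C.subgroupOf H → ℂ) x *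
          conj ((τ : K → ℂ) ⟨((x : H) : G), hCK x.2⟩) =
          ((Nat.card C : ℕ) : ℂ) * (mlt (τ : K → ℂ) (β : C → ℂ) : ℂ) := by
        letI : Fintype C := Fintype.ofFinite C
        have hs := congrArg conj (mlt_spec hCK τ β)
        rw [ip, H12.conj_classInner, Complex.conj_natCast,
          ← H12.classInner_comp_equiv (Subgroup.subgroupOfEquivOfLe hCH)] at hs
        rw [← hs, classInner, ← Nat.card_congr (Subgroup.subgroupOfEquivOfLe hCH).toEquiv,
          ← mul_assoc, mul_inv_cancel₀ (Nat.cast_ne_zero.2 Nat.card_pos.ne'), one_mul]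
        refine Finset.sum_congr rfl fun x _ => ?_
        rw [hβ', lift_apply]
        congr 1
        exact congrArg _ (cf_apply (τ : K → ℂ) (hCK x.2)).symm
      rw [Finset.sum_congr rfl fun x _ => show _ = (Nat.card K : ℂ)⁻¹ * (τ : K → ℂ) 1 *
        ((β' : C.subgroupOf H → ℂ) x * conj ((τ : K → ℂ) ⟨((x : H) : G), hCK x.2⟩)) by ring,
        ← Finset.mul_sum, h3, H12.irr_apply_one τ, hd]
      push_cast
      ring
    · simp only [if_neg hτ, mul_zero, zero_mul, Nat.cast_zero, Finset.sum_const_zero]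
  -- so the weight is prime to `p`
  have hSp : ¬ p ∣ S := fun hdvd => by
    rw [hH', hG, H20.redC_one, H20.redC_mul hKinv (H20.memRing_natCast _)] at hkey
    haveI := H20.k_charP hM
    rw [H20.redC_natCast, (CharP.cast_eq_zero_iff (H20.k M) p _).2 (dvd_mul_of_dvd_right hdvd d),
      mul_zero] at hkey
    exact zero_ne_one hkey
  -- a fixed point
  letI : MulAction P (IrrCharacter K) :=
    { smul := fun x τ => H21.conjChar K ((x : G))⁻¹ τ
      one_smul := fun τ => by
        show H21.conjChar K ((1 : P) : G)⁻¹ τ = τ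
        rw [Subgroup.coe_one, inv_one, H21.conjChar_one]
      mul_smul := fun x y τ => by
        show H21.conjChar K ((x * y : P) : G)⁻¹ τ =
          H21.conjChar K ((x : G))⁻¹ (H21.conjChar K ((y : G))⁻¹ τ)
        rw [H21.conjChar_conjChar, Subgroup.coe_mul, mul_inv_rev] }
  obtain ⟨τ, hτfix, hτp⟩ := exists_fixed_of_not_dvd hP
    (fun τ : IrrCharacter K =>
      if τ ∈ U then H12.degree (τ : K → ℂ) * mlt (τ : K → ℂ) (β : C → ℂ) else 0)
    (fun x τ => by
      show (if H21.conjChar K ((x : G))⁻¹ τ ∈ U then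
        H12.degree (H21.conjChar K ((x : G))⁻¹ τ : K → ℂ) *
          mlt (H21.conjChar K ((x : G))⁻¹ τ : K → ℂ) (β : C → ℂ) else 0) = _
      have hiff : H21.conjChar K ((x : G))⁻¹ τ ∈ U ↔ τ ∈ U := ⟨fun h => by
        have := hUconj (x : G) _ h
        rwa [H21.conjChar_conjChar, inv_mul_cancel, H21.conjChar_one] at this, hUconj _ τ⟩
      have hval : ∀ z ∈ C, cf (H21.conjChar K ((x : G))⁻¹ τ : K → ℂ) z = cf (τ : K → ℂ) z := by
        intro z hz
        rw [cf_apply _ (hCK hz), cf_apply _ (hCK hz), H21.conjChar_apply]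
        refine congrArg _ (Subtype.ext ?_)
        have hzc : z ∈ Subgroup.centralizer (P : Set G) := (hC ▸ hz : z ∈ K ⊓ _).2
        show (x : G)⁻¹ * z * (x : G)⁻¹⁻¹ = z
        rw [inv_inv, mul_assoc, ← Subgroup.mem_centralizer_iff.1 hzc x x.2, inv_mul_cancel_left]
      have hm : mlt (H21.conjChar K ((x : G))⁻¹ τ : K → ℂ) (β : C → ℂ) =
          mlt (τ : K → ℂ) (β : C → ℂ) := by
        rw [mlt, mlt, ip_congr hval fun _ _ => rfl]
      have hdg : H12.degree (H21.conjChar K ((x : G))⁻¹ τ : K → ℂ) = H12.degree (τ : K → ℂ) := by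
        have h1 := hval 1 C.one_mem
        rw [← cast_degree, ← cast_degree] at h1
        exact_mod_cast h1
      simp only [hiff, hm, hdg])
    hSp
  have hτU : τ ∈ U := by_contra fun h => hτp (by rw [if_neg h]; exact dvd_zero p)
  rw [if_pos hτU] at hτp
  obtain ⟨g, rfl⟩ := hτU
  refine ⟨g, fun x hx => ⟨hnK x, fun k hk => ?_⟩, fun h => hτp (dvd_mul_of_dvd_right h _)⟩
  have h1 := congrArg (fun τ' : IrrCharacter K => (τ' : K → ℂ) ⟨k, hk⟩) (hτfix (⟨x, hx⟩⁻¹))
  rw [cf_apply _ (hKn.conj_mem k hk x), cf_apply _ hk]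
  refine Eq.trans ?_ h1
  show _ = (H21.conjChar K (((⟨x, hx⟩ : P)⁻¹ : P) : G)⁻¹ _ : K → ℂ) ⟨k, hk⟩
  simp only [H21.conjChar_apply, Subgroup.coe_inv, inv_inv]

end H23.PSolv
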