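import Mathlib.LinearAlgebra.Matrix.ToLin
import Mathlib.LinearAlgebra.Determinant
import Mathlib.LinearAlgebra.Dimension.Finrank
import Mathlib.LinearAlgebra.FiniteDimensional.Lemmas
import Mathlib.Algebra.MvPolynomial.Rename
import Mathlib.Algebra.MvPolynomial.Nilpotent
import Mathlib.RingTheory.Polynomial.UniqueFactorization
import Mathlib.RingTheory.UniqueFactorizationDomain.GCDMonoid
import Mathlib.Algebra.GCDMonoid.Finset
import Mathlib.RingTheory.Localization.FractionRing
import Mathlib.RingTheory.Localization.Integer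
import Mathlib.Tactic.FieldSimp
import Mathlib.Tactic.LinearCombination

/-!
A subspace over the generic field that is stable under a projective semilinear action gives a
character with the cocycle to the power of its dimension: the Plücker vector, made primitive, is
mapped to a constant multiple of itself.
-/

set_option autoImplicit false
set_option linter.unusedSectionVars false
set_option linter.style.haveILetI false

namespace H23.PSolv

open Matrix MvPolynomial Module

universe u v w

section Det

variable {R : Type*} [CommRing R] {ι : Type*} [Fintype ι] [DecidableEq ι] {r : ℕ}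

/-- The determinant of a product, expanded along the selections of rows. -/
theorem det_mul_expand (a : Matrix (Fin r) ι R) (U : Matrix ι (Fin r) R) :
    (a * U).det = ∑ φ : Fin r → ι, (∏ i, a i (φ i)) * (U.submatrix φ id).det := by
  have e : (a * U : Matrix (Fin r) (Fin r) R) = fun i => ∑ j, a i j • U j := by
    funext i l
    rw [Matrix.mul_apply, Finset.sum_apply]
    rfl
  show (Matrix.detRowAlternating : (Fin r → R) [⋀^Fin r]→ₗ[R] R).toMultilinearMap (a * U) = _
  rw [e, MultilinearMap.map_sum]
  refine Finset.sum_congr rfl fun φ _ => ?_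
  rw [MultilinearMap.map_smul_univ, smul_eq_mul]
  rfl

/-- The selection matrix. -/
def selMat (φ : Fin r → ι) : Matrix (Fin r) ι R := fun i j => if j = φ i then 1 else 0

theorem selMat_mul (φ : Fin r → ι) (U : Matrix ι (Fin r) R) :
    selMat (R := R) φ * U = U.submatrix φ id := by
  ext i l
  rw [Matrix.mul_apply, Finset.sum_eq_single (φ i)]
  · simp [selMat]
  · intro j _ hj; simp [selMat, hj]
  · simp

end Det

variable {Q : Type v} {k : Type u} [Field k] {F : Type*} [Field F]
  [Algebra (MvPolynomial Q k) F] [IsFractionRing (MvPolynomial Q k) F]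
variable {ι : Type*} [Fintype ι] [DecidableEq ι]

/-- A polynomial vector seen over the generic field. -/
noncomputable def polVec (v : ι → MvPolynomial Q k) : ι → F :=
  fun i => algebraMap (MvPolynomial Q k) F (v i)

/-- Clearing denominators. -/
theorem exists_polVec (v : ι → F) : ∃ (a : MvPolynomial Q k) (w : ι → MvPolynomial Q k),
    a ≠ 0 ∧ polVec (F := F) w = algebraMap (MvPolynomial Q k) F a • v := by
  obtain ⟨b, hb⟩ := IsLocalization.exist_integer_multiples_of_finite
    (nonZeroDivisors (MvPolynomial Q k)) v
  choose w hw using hb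
  refine ⟨b, w, nonZeroDivisors.ne_zero b.2, funext fun i => ?_⟩
  rw [polVec, hw i, Pi.smul_apply, smul_eq_mul, Algebra.smul_def]

variable {E : Type w} [Group E] (act : E →* Equiv.Perm Q) (P Pi' : E → Matrix ι ι k)
  (al : E → E → k)

/-- The semilinear map of an element on polynomial vectors. -/
noncomputable def semi (e : E) (v : ι → MvPolynomial Q k) : ι → MvPolynomial Q k :=
  (P e).map MvPolynomial.C *ᵥ fun i => MvPolynomial.rename (act e) (v i)

theorem exists_line_character (hinv : ∀ e, P e * Pi' e = 1)
    (hmul : ∀ e f, P e * P f = al e f • P (e * f)) (U : Submodule F (ι → F))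
    (hU : ∀ e v, polVec (F := F) v ∈ U → polVec (F := F) (semi act P e v) ∈ U) :
    ∃ lam : E → k, (∀ e, lam e ≠ 0) ∧
      (∀ e f, lam (e * f) * al e f ^ finrank F U = lam e * lam f) ∧
      ∀ e, act e = 1 → P e = 1 → lam e = 1 := by
  classical
  set r := finrank F U
  set A := MvPolynomial Q k
  letI : NormalizedGCDMonoid A := Classical.choice (inferInstance : Nonempty (NormalizedGCDMonoid A))
  set am := algebraMap A F with ham
  have hinj : Function.Injective am := IsFractionRing.injective A F
  obtain b := Module.finBasis F U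
  choose c w hc hw using fun j => exists_polVec (Q := Q) (k := k) (F := F) (b j : ι → F)
  let U0 : Matrix ι (Fin r) A := fun i j => w j i
  have hwU : ∀ j, polVec (F := F) (w j) ∈ U := fun j => by
    rw [hw]; exact U.smul_mem _ (b j).2
  have hspan : ∀ x ∈ U, ∃ y : Fin r → F, (U0.map am) *ᵥ y = x := by
    intro x hx
    refine ⟨fun j => b.repr ⟨x, hx⟩ j / am (c j), ?_⟩
    have h : ∑ j, b.repr ⟨x, hx⟩ j • (b j : ι → F) = x := by
      refine Eq.trans ?_ (congrArg Subtype.val (b.sum_repr ⟨x, hx⟩))
      rw [AddSubmonoidClass.coe_finsetSum]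
      rfl
    funext i
    rw [Matrix.mulVec, dotProduct]
    conv_rhs => rw [← h, Finset.sum_apply]
    refine Finset.sum_congr rfl fun j _ => ?_
    have hne : am (c j) ≠ 0 := (map_ne_zero_iff _ hinj).2 (hc j)
    rw [Matrix.map_apply, Pi.smul_apply, smul_eq_mul,
      show am (U0 i j) = am (c j) * (b j : ι → F) i from congrFun (hw j) i]
    field_simp
  have hindep : ∀ y, (U0.map am) *ᵥ y = 0 → y = 0 := by
    intro y hy
    have h0 : ∑ j, (y j * am (c j)) • b j = 0 := by
      refine Subtype.ext (funext fun i => ?_)
      rw [AddSubmonoidClass.coe_finsetSum, Finset.sum_apply]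
      refine Eq.trans ?_ (congrFun hy i)
      rw [Matrix.mulVec, dotProduct]
      refine Finset.sum_congr rfl fun j _ => ?_
      rw [SetLike.val_smul, Pi.smul_apply, smul_eq_mul, Matrix.map_apply,
        show am (U0 i j) = am (c j) * (b j : ι → F) i from congrFun (hw j) i]
      ring
    funext j
    exact (mul_eq_zero.1 (Fintype.linearIndependent_iff.1 b.linearIndependent _ h0 j)).resolve_right
      ((map_ne_zero_iff _ hinj).2 (hc j))
  obtain ⟨φ0, hφ0⟩ : ∃ φ : Fin r → ι, (U0.submatrix φ id).det ≠ 0 := by
    obtain ⟨L, hL⟩ := (Matrix.toLin' (U0.map am)).exists_leftInverse_of_injective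
      (LinearMap.ker_eq_bot'.2 fun y hy => hindep y (by rwa [Matrix.toLin'_apply] at hy))
    have h1 : LinearMap.toMatrix' L * U0.map am = 1 := by
      refine Matrix.toLin'.injective ?_
      rw [Matrix.toLin'_mul, Matrix.toLin'_toMatrix', hL, Matrix.toLin'_one]
    by_contra hall
    push Not at hall
    have h2 := congrArg Matrix.det h1
    rw [det_mul_expand, Matrix.det_one] at h2
    refine zero_ne_one ((Finset.sum_eq_zero fun φ _ => ?_).symm.trans h2)
    rw [show (U0.map am).submatrix φ id = (U0.submatrix φ id).map am from rfl,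
      ← RingHom.mapMatrix_apply, ← RingHom.map_det, hall, map_zero, mul_zero]
  obtain ⟨h, hfac, hgcd⟩ := Finset.extract_gcd (fun φ : Fin r → ι => (U0.submatrix φ id).det)
    (s := Finset.univ) ⟨φ0, Finset.mem_univ _⟩
  set g := (Finset.univ : Finset (Fin r → ι)).gcd fun φ => (U0.submatrix φ id).det
  have hg : g ≠ 0 := fun h0 => hφ0 (by rw [hfac φ0 (Finset.mem_univ _), h0, zero_mul])
  -- the primitive Plücker vector as a function of constant matrices
  let H : Matrix (Fin r) ι k → A := fun a =>
    ∑ φ : Fin r → ι, MvPolynomial.C (∏ i, a i (φ i)) * h φ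
  have hH : ∀ a, (a.map (MvPolynomial.C : k →+* A) * U0).det = g * H a := by
    intro a
    rw [det_mul_expand, Finset.mul_sum]
    refine Finset.sum_congr rfl fun φ _ => ?_
    rw [hfac φ (Finset.mem_univ _), map_prod]
    simp only [Matrix.map_apply]
    ring
  have hsel : ∀ φ, H (selMat φ) = h φ := by
    intro φ
    have e := hH (selMat φ)
    rw [show (selMat φ : Matrix (Fin r) ι k).map MvPolynomial.C = selMat (R := A) φ by
      ext i j; by_cases hij : j = φ i <;> simp [selMat, Matrix.map_apply, hij], selMat_mul, hfac φ (Finset.mem_univ _)] at e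
    exact (mul_left_cancel₀ hg e).symm
  have hsmul : ∀ (s : k) a, H (s • a) = MvPolynomial.C (s ^ r) * H a := by
    intro s a
    simp only [H, Finset.mul_sum, ← mul_assoc, ← map_mul]
    refine Finset.sum_congr rfl fun φ _ => ?_
    simp [Finset.prod_mul_distrib]
  have hone : ∀ e : E, ∃ lam : k, lam ≠ 0 ∧
      ∀ a, MvPolynomial.rename (act e) (H (a * P e)) = MvPolynomial.C lam * H a := by
    intro e
    set σ : A →+* A := (MvPolynomial.rename (act e) : A →ₐ[k] A).toRingHom with hσ
    have hσC : ∀ s : k, σ (MvPolynomial.C s) = MvPolynomial.C s := fun s =>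
      MvPolynomial.rename_C _ s
    have hσinj : Function.Injective σ := MvPolynomial.rename_injective _ (act e).injective
    let W : Matrix ι (Fin r) A := (P e).map MvPolynomial.C * U0.map σ
    have hWA : ∀ j, ∃ y, (U0.map am) *ᵥ y = polVec (F := F) fun i => W i j := fun j => by
      refine hspan _ ?_
      have := hU e _ (hwU j)
      exact this
    choose y hy using hWA
    let Am : Matrix (Fin r) (Fin r) F := fun l j => y j l
    have hWm : W.map am = U0.map am * Am := by
      ext i j
      exact (congrFun (hy j) i).symm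
    have hkey : ∀ a, am (σ g) * am (σ (H (a * P e))) = am g * Am.det * am (H a) := by
      intro a
      have e1 : σ ((a * P e).map MvPolynomial.C * U0).det = (a.map MvPolynomial.C * W).det := by
        rw [RingHom.map_det, RingHom.mapMatrix_apply, Matrix.map_mul, Matrix.map_map,
          show (σ ∘ MvPolynomial.C : k → A) = MvPolynomial.C from funext hσC, Matrix.map_mul,
          Matrix.mul_assoc]
      have e2 := congrArg am e1
      rw [hH, map_mul, map_mul, RingHom.map_det am, RingHom.mapMatrix_apply, Matrix.map_mul, hWm,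
        ← Matrix.mul_assoc, ← Matrix.map_mul, Matrix.det_mul, ← RingHom.mapMatrix_apply,
        ← RingHom.map_det, hH, map_mul] at e2
      rw [e2]; ring
    obtain ⟨x, y', hy', hxy⟩ := IsFractionRing.div_surjective (A := A) Am.det
    have hy0 : y' ≠ 0 := nonZeroDivisors.ne_zero hy'
    have hpol : ∀ a, (σ g * y') * σ (H (a * P e)) = (g * x) * H a := by
      intro a
      apply hinj
      have hyF : algebraMap A F y' ≠ 0 := (map_ne_zero_iff _ hinj).2 hy0
      rw [map_mul, map_mul, map_mul, map_mul, mul_right_comm, hkey a, ← hxy, ham]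
      field_simp
    have hprim1 : ∀ d : A, (∀ a, d ∣ H a) → IsUnit d := by
      intro d hd
      refine isUnit_of_dvd_one ?_
      rw [← hgcd]
      exact Finset.dvd_gcd fun φ _ => hsel φ ▸ hd (selMat φ)
    have hprim2 : ∀ d : A, (∀ a, d ∣ σ (H (a * P e))) → IsUnit d := by
      intro d hd
      set τ : A →+* A := (MvPolynomial.rename (act e).symm : A →ₐ[k] A).toRingHom
      have hτσ : ∀ z, τ (σ z) = z := fun z => by
        show MvPolynomial.rename (act e).symm (MvPolynomial.rename (act e) z) = z
        rw [MvPolynomial.rename_rename, Equiv.symm_comp_self, MvPolynomial.rename_id_apply]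
      have hστ : ∀ z, σ (τ z) = z := fun z => by
        show MvPolynomial.rename (act e) (MvPolynomial.rename (act e).symm z) = z
        rw [MvPolynomial.rename_rename, Equiv.self_comp_symm, MvPolynomial.rename_id_apply]
      have : IsUnit (τ d) := hprim1 _ fun a => by
        have h1 : P e * Pi' e = 1 := hinv e
        have h2 : Pi' e * P e = 1 := mul_eq_one_comm.1 h1
        have := map_dvd τ (hd (a * Pi' e))
        rwa [hτσ, Matrix.mul_assoc, h2, Matrix.mul_one] at this
      have := this.map σ
      rwa [hστ] at this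
    have hgx : g * x ≠ 0 := by
      intro h0
      refine not_isUnit_zero (hprim2 0 fun a => ?_)
      have := hpol a
      rw [h0, zero_mul, mul_eq_zero] at this
      rcases this with h1 | h1
      · exact absurd h1 (mul_ne_zero ((map_ne_zero_iff _ hσinj).2 hg) hy0)
      · rw [h1]
    obtain ⟨d, p', q', hpq, hp', hq'⟩ : ∃ d p' q' : A, IsUnit (gcd p' q') ∧
        σ g * y' = d * p' ∧ g * x = d * q' := by
      obtain ⟨p', q', h1, h2, h3⟩ := extract_gcd (σ g * y') (g * x)
      exact ⟨gcd (σ g * y') (g * x), p', q', h3, h1, h2⟩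
    have hd0 : d ≠ 0 := fun h0 => hgx (by rw [hq', h0, zero_mul])
    have hpol' : ∀ a, p' * σ (H (a * P e)) = q' * H a := fun a => mul_left_cancel₀ hd0 (by
      rw [← mul_assoc, ← mul_assoc, ← hp', ← hq']; exact hpol a)
    have hcop : IsRelPrime p' q' := fun z h1 h2 => isUnit_of_dvd_unit (dvd_gcd h1 h2) hpq
    have hpu : IsUnit p' := hprim1 p' fun a =>
      hcop.dvd_of_dvd_mul_left ⟨_, (hpol' a).symm⟩
    have hqu : IsUnit q' := hprim2 q' fun a =>
      hcop.symm.dvd_of_dvd_mul_left ⟨_, hpol' a⟩
    have hu : IsUnit (q' * (↑hpu.unit⁻¹ : A)) := hqu.mul (Units.isUnit _)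
    obtain ⟨lam, hlam, hlu⟩ := MvPolynomial.isUnit_iff_eq_C_of_isReduced.1 hu
    refine ⟨lam, hlam.ne_zero, fun a => ?_⟩
    rw [← hlu, mul_right_comm, ← hpol' a, mul_right_comm, IsUnit.mul_val_inv, one_mul]
    rfl
  choose lam hlam hH' using hone
  obtain ⟨a, ha⟩ : ∃ a, H a ≠ 0 := by
    by_contra hall
    push Not at hall
    exact hφ0 (by rw [hfac φ0 (Finset.mem_univ _), ← hsel, hall, mul_zero])
  refine ⟨lam, hlam, fun e f => ?_, fun e h1 h2 => ?_⟩
  swap
  · have h := hH' e a
    rw [h1, h2, Matrix.mul_one, Equiv.Perm.coe_one, MvPolynomial.rename_id_apply] at h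
    have h3 : MvPolynomial.C (lam e) = (MvPolynomial.C 1 : A) :=
      mul_right_cancel₀ ha (by rw [← h, map_one, one_mul])
    exact MvPolynomial.C_injective Q k h3
  have h1 : MvPolynomial.rename (act e) (MvPolynomial.rename (act f) (H (a * P e * P f))) =
      MvPolynomial.C (lam f) * (MvPolynomial.C (lam e) * H a) := by
    rw [hH' f, map_mul, MvPolynomial.rename_C, hH' e]
  rw [Matrix.mul_assoc, hmul, Matrix.mul_smul, hsmul, map_mul, map_mul, MvPolynomial.rename_C,
    MvPolynomial.rename_C, MvPolynomial.rename_rename, ← Equiv.Perm.coe_mul, ← map_mul act,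
    hH', ← mul_assoc, ← mul_assoc, ← map_mul, ← map_mul] at h1
  have h2 := MvPolynomial.C_injective Q k (mul_right_cancel₀ ha h1)
  linear_combination h2

end H23.PSolv
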