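import Cfsg.Agent.H23.PSolv.Perm
import Cfsg.Agent.H23.PSolv.Line
import Mathlib.LinearAlgebra.Matrix.Kronecker

/-!
The multiplicity space of a Glauberman correspondent: the generic element has a single non-free
block on it, so the projective action of the operators can be normalised to an honest one.
-/

set_option autoImplicit false
set_option linter.unusedSectionVars false
set_option linter.style.haveILetI false

namespace H23.PSolv

open Module Matrix MvPolynomial
open scoped Kronecker

universe u v w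

section General

variable {Q : Type v} [Fintype Q] {k : Type u} [Field k] {F : Type*} [Field F]
  [Algebra (MvPolynomial Q k) F] [IsFractionRing (MvPolynomial Q k) F]
variable {ι κ : Type*} [Fintype ι] [DecidableEq ι] [Fintype κ] [DecidableEq κ]

/-- The generic element as a polynomial matrix. -/
noncomputable def polEl (z : Q → Matrix ι ι k) : Matrix ι ι (MvPolynomial Q k) :=
  ∑ q, (MvPolynomial.X q : MvPolynomial Q k) • (z q).map (MvPolynomial.C : k →+* MvPolynomial Q k)

theorem genEl_eq_polEl (z : Q → Matrix ι ι k) :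
    genEl (F := F) z = Matrix.toLin' ((polEl z).map (algebraMap (MvPolynomial Q k) F)) := by
  have e : (polEl z).map (algebraMap (MvPolynomial Q k) F) =
      ∑ q, gx (F := F) k q • (z q).map (gC (F := F) Q) := by
    ext i j
    simp [polEl, Matrix.sum_apply, Matrix.map_apply, gx, gC]
    exact Finset.sum_congr rfl fun c _ => (Algebra.smul_def _ _).symm
  rw [e, map_sum, genEl]
  simp only [map_smul]
  rfl

/-- A constant rectangular matrix intertwining two families intertwines the generic elements. -/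
theorem genEl_intertwine (M : Matrix κ ι k) (z : Q → Matrix ι ι k) (z' : Q → Matrix κ κ k)
    (h : ∀ q, M * z q = z' q * M) (v : ι → F) :
    genEl (F := F) z' (Matrix.toLin' (M.map (gC (F := F) Q)) v) =
      Matrix.toLin' (M.map (gC (F := F) Q)) (genEl (F := F) z v) := by
  rw [genEl, genEl, LinearMap.sum_apply, LinearMap.sum_apply, map_sum]
  refine Finset.sum_congr rfl fun q _ => ?_
  rw [LinearMap.smul_apply, LinearMap.smul_apply, map_smul, gEnd, gEnd, ← LinearMap.comp_apply,
    ← LinearMap.comp_apply, ← Matrix.toLin'_mul, ← Matrix.toLin'_mul, ← Matrix.map_mul,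
    ← Matrix.map_mul, h]

theorem genEl_pow_intertwine (M : Matrix κ ι k) (z : Q → Matrix ι ι k) (z' : Q → Matrix κ κ k)
    (h : ∀ q, M * z q = z' q * M) (n : ℕ) (v : ι → F) :
    (genEl (F := F) z' ^ n) (Matrix.toLin' (M.map (gC (F := F) Q)) v) =
      Matrix.toLin' (M.map (gC (F := F) Q)) ((genEl (F := F) z ^ n) v) := by
  induction n generalizing v with
  | zero => simp
  | succ n ih =>
    rw [pow_succ, pow_succ, Module.End.mul_apply, Module.End.mul_apply,
      genEl_intertwine M z z' h, ih]

/-- An endomorphism as a vector on pairs. -/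
noncomputable def vecEquiv : End F (ι → F) ≃ₗ[F] (ι × ι → F) :=
  LinearMap.toMatrix'.trans
    { toFun := fun M p => M p.1 p.2
      invFun := fun v => Matrix.of fun i j => v (i, j)
      map_add' := fun _ _ => rfl
      map_smul' := fun _ _ => rfl
      left_inv := fun _ => rfl
      right_inv := fun _ => rfl }

theorem vecEquiv_mul (a b : Matrix ι ι k) (f : End F (ι → F)) :
    gEnd (F := F) Q (a ⊗ₖ bᵀ) (vecEquiv f) =
      vecEquiv (gEnd (F := F) Q a * f * gEnd (F := F) Q b) := by
  funext p
  obtain ⟨i, j⟩ := p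
  show (Matrix.toLin' ((a ⊗ₖ bᵀ).map (gC (F := F) Q)) (vecEquiv f)) (i, j) =
    LinearMap.toMatrix' (gEnd (F := F) Q a * f * gEnd (F := F) Q b) i j
  rw [gEnd, gEnd, LinearMap.toMatrix'_mul, LinearMap.toMatrix'_mul, LinearMap.toMatrix'_toLin',
    LinearMap.toMatrix'_toLin', Matrix.toLin'_apply, Matrix.mulVec, dotProduct,
    Fintype.sum_prod_type, Matrix.mul_apply]
  simp only [Matrix.mul_apply, Finset.sum_mul]
  rw [Finset.sum_comm]
  refine Finset.sum_congr rfl fun l _ => Finset.sum_congr rfl fun m _ => ?_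
  show gC (F := F) Q (a i m * b l j) * (LinearMap.toMatrix' f m l) = _
  rw [map_mul, Matrix.map_apply, Matrix.map_apply]
  ring

theorem gEnd_sub (a b : Matrix ι ι k) :
    gEnd (F := F) Q (a - b) = gEnd (F := F) Q a - gEnd (F := F) Q b := by
  rw [gEnd, Matrix.map_sub _ (map_sub _), map_sub]
  rfl

/-- The commutator with the generic element as a generic element on pairs. -/
theorem vecEquiv_adL (r : Q → Matrix ι ι k) (f : End F (ι → F)) :
    genEl (F := F) (fun q => r q ⊗ₖ (1 : Matrix ι ι k)ᵀ - (1 : Matrix ι ι k) ⊗ₖ (r q)ᵀ)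
        (vecEquiv f) =
      vecEquiv (adL (genEl (F := F) fun q => r q - 1) f) := by
  rw [adL_apply, genEl, genEl, LinearMap.sum_apply, Finset.sum_mul, Finset.mul_sum,
    ← Finset.sum_sub_distrib, map_sum]
  refine Finset.sum_congr rfl fun q _ => ?_
  rw [LinearMap.smul_apply, gEnd_sub, LinearMap.sub_apply, vecEquiv_mul, vecEquiv_mul, ← map_sub,
    ← map_smul, gEnd_one, one_mul, mul_one, gEnd_sub, gEnd_one]
  simp only [smul_mul_assoc, mul_smul_comm, sub_mul, mul_sub, one_mul, mul_one]
  refine congrArg _ ?_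
  rw [smul_sub, smul_sub, smul_sub]
  abel

variable [CommGroup Q] (p : ℕ) [hp : Fact p.Prime] [CharP F p]
variable (hexp : ∀ q : Q, q ^ p = 1)
include hexp

omit [DecidableEq κ] in
/-- The kernel on a permutation module is a power part plus a fixed part. -/
theorem perm_ker_decomp [DecidableEq κ] [MulAction Q κ] (u : κ → F)
    (hu : u ∈ LinearMap.ker (genEl (F := F) fun q => permHom (Q := Q) (Ω := κ) k q - 1)) :
    ∃ w : κ → F, ∀ x, (∃ q : Q, q • x ≠ x) →
      ((genEl (F := F) (fun q => permHom (Q := Q) (Ω := κ) k q - 1)) ^ (p - 1)) w x = u x ∧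
      ∀ y, (∀ q : Q, q • y = y) →
      ((genEl (F := F) (fun q => permHom (Q := Q) (Ω := κ) k q - 1)) ^ (p - 1)) w y = 0 := by
  classical
  let e : Q → ℕ := fun q => (Fintype.equivFin Q q : ℕ)
  let mv : κ → Finset Q := fun x => Finset.univ.filter fun q => q • x ≠ x
  have hmv : ∀ (q : Q) x, mv (q • x) = mv x := by
    intro q x
    ext g
    simp only [mv, Finset.mem_filter, Finset.mem_univ, true_and]
    rw [smul_smul, mul_comm, ← smul_smul, ne_eq, (MulAction.injective q).eq_iff]
  let sel : κ → Option Q := fun x =>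
    if h : (mv x).Nonempty then some (Finset.exists_min_image (mv x) e h).choose else none
  have hsel : ∀ (q : Q) x, sel (q • x) = sel x := fun q x => by simp only [sel, hmv]
  have hsel2 : ∀ x g, sel x = some g → g • x ≠ x := by
    intro x g h
    simp only [sel] at h
    split_ifs at h with hne
    · cases h
      exact (Finset.mem_filter.1 (Finset.exists_min_image (mv x) e hne).choose_spec.1).2
  have hsel3 : ∀ x, (∃ q : Q, q • x ≠ x) → ∃ g, sel x = some g := by
    rintro x ⟨q, hq⟩
    have : (mv x).Nonempty := ⟨q, Finset.mem_filter.2 ⟨Finset.mem_univ _, hq⟩⟩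
    exact ⟨_, dif_pos this⟩
  -- each class separately
  have hpart : ∀ g : Q, ∃ w : κ → F, ∀ x,
      ((genEl (F := F) (fun q => permHom (Q := Q) (Ω := κ) k q - 1)) ^ (p - 1)) w x =
        if sel x = some g then u x else 0 := by
    intro g
    let S := {x : κ // sel x = some g}
    letI : MulAction Q S :=
      { smul := fun q x => ⟨q • x.1, (hsel q x.1).trans x.2⟩
        one_smul := fun x => Subtype.ext (one_smul Q x.1)
        mul_smul := fun a b x => Subtype.ext (mul_smul a b x.1) }
    let R : Matrix S κ k := Matrix.of fun s x => if s.1 = x then 1 else 0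
    let Em : Matrix κ S k := Matrix.of fun x s => if s.1 = x then 1 else 0
    have hR : ∀ q, R * (permHom (Q := Q) (Ω := κ) k q - 1) =
        (permHom (Q := Q) (Ω := S) k q - 1) * R := by
      intro q
      rw [Matrix.mul_sub, Matrix.sub_mul, Matrix.mul_one, Matrix.one_mul]
      congr 1
      ext s x
      simp only [Matrix.mul_apply, Matrix.of_apply, R, permHom, MonoidHom.coe_mk, OneHom.coe_mk, permMat]
      rw [Finset.sum_eq_single s.1 (fun b _ hb => by simp [Ne.symm hb]) (by simp)]
      rw [Finset.sum_eq_single (q⁻¹ • s)]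
      · have h1 : ((q⁻¹ • s : S) : κ) = q⁻¹ • s.1 := rfl
        by_cases hx : q • x = s.1
        · have h2 : q⁻¹ • s.1 = x := by rw [← hx, inv_smul_smul]
          simp [hx, h1, h2]
        · have h2 : ¬ q⁻¹ • s.1 = x := fun h' => hx (by rw [← h', smul_inv_smul])
          simp [hx, h1, h2]
      · intro b _ hb
        have : q • b ≠ s := fun h' => hb (by rw [← h', inv_smul_smul])
        simp [this]
      · simp
    have hE : ∀ q, Em * (permHom (Q := Q) (Ω := S) k q - 1) =
        (permHom (Q := Q) (Ω := κ) k q - 1) * Em := by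
      intro q
      rw [Matrix.mul_sub, Matrix.sub_mul, Matrix.mul_one, Matrix.one_mul]
      congr 1
      ext x s
      simp only [Matrix.mul_apply, Matrix.of_apply, Em, permHom, MonoidHom.coe_mk, OneHom.coe_mk, permMat]
      rw [Finset.sum_eq_single (q • s : S), Finset.sum_eq_single s.1]
      · have h1 : ((q • s : S) : κ) = q • s.1 := rfl
        simp [h1]
      · intro b _ hb
        simp [Ne.symm hb]
      · simp
      · intro b _ hb
        simp [Ne.symm hb]
      · simp
    have hfree : ∀ s : S, g • s ≠ s := fun s h => hsel2 _ _ s.2 (congrArg Subtype.val h)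
    have hker : Matrix.toLin' (R.map (gC (F := F) Q)) u ∈
        LinearMap.ker (genEl (F := F) fun q => permHom (Q := Q) (Ω := S) k q - 1) := by
      rw [LinearMap.mem_ker, genEl_intertwine R _ _ hR, LinearMap.mem_ker.1 hu, map_zero]
    obtain ⟨w', hw'⟩ := perm_ker_le_range (F := F) p hexp hfree hker
    refine ⟨Matrix.toLin' (Em.map (gC (F := F) Q)) w', fun x => ?_⟩
    rw [genEl_pow_intertwine Em _ _ hE, hw']
    simp only [Matrix.toLin'_apply, Matrix.mulVec, dotProduct, Matrix.map_apply, Matrix.of_apply, Em, R, apply_ite,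
      map_one, map_zero, ite_mul, one_mul, zero_mul]
    by_cases hx : sel x = some g
    · rw [if_pos hx, Finset.sum_eq_single (⟨x, hx⟩ : S)]
      · simp
      · intro b _ hb
        rw [if_neg fun h' => hb (Subtype.ext h')]
      · simp
    · rw [if_neg hx]
      refine Finset.sum_eq_zero fun b _ => ?_
      rw [if_neg (fun h' => hx (by rw [← h']; exact b.2))]
  choose wg hwg using hpart
  refine ⟨∑ g, wg g, fun x hx => ⟨?_, fun y hy => ?_⟩⟩
  · obtain ⟨g, hg⟩ := hsel3 x hx
    rw [map_sum, Finset.sum_apply, Finset.sum_eq_single g]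
    · rw [hwg, if_pos hg]
    · intro b _ hb
      rw [hwg, if_neg fun h' => hb (Option.some.inj (h'.symm.trans hg))]
    · simp
  · rw [map_sum, Finset.sum_apply]
    refine Finset.sum_eq_zero fun g _ => ?_
    rw [hwg, if_neg fun h' => hsel2 y g h' (hy g)]

end General

section Data

variable {Q : Type v} [Fintype Q] [CommGroup Q] {k : Type u} [Field k]
variable (p : ℕ) [hp : Fact p.Prime] [CharP k p]
variable (hexp : ∀ q : Q, q ^ p = 1)
variable {K : Type*} [Group K] [Fintype K] [DecidableEq K] [MulDistribMulAction Q K]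
variable {n b ι : Type*} [Fintype n] [DecidableEq n] [Fintype b] [DecidableEq b] [Fintype ι]
  [DecidableEq ι]

/-- The data of the multiplicity space. -/
structure MultData (K : Type*) [Group K] [Fintype K] [MulDistribMulAction Q K]
    (rV : K → Matrix n n k) (RQ : Q →* Matrix n n k) (rB : K → Matrix b b k)
    (φ : ι → Matrix n b k) (ψ : ι → Matrix b n k) : Prop where
  conj : ∀ q x, RQ q * rV x = rV (q • x) * RQ q
  sec : ∃ c0 : k, c0 ≠ 0 ∧
    ∀ f : Matrix n n k, ∑ x, (f * rV x⁻¹).trace • rV x = c0 • f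
  dual : ∀ i j, ψ i * φ j = if i = j then (1 : Matrix b b k) else 0
  phiC : ∀ x, (∀ q : Q, q • x = x) → ∀ i, rV x * φ i = φ i * rB x
  psiC : ∀ x, (∀ q : Q, q • x = x) → ∀ i, ψ i * rV x = rB x * ψ i
  full : ∀ f : Matrix n b k, (∀ x, (∀ q : Q, q • x = x) → rV x * f = f * rB x) →
    ∃ a : ι → k, f = ∑ i, a i • φ i
  dualfull : ∀ g : Matrix b n k, (∀ x, (∀ q : Q, q • x = x) → g * rV x = rB x * g) →
    (∀ i, g * φ i = 0) → g = 0

variable {rV : K → Matrix n n k} {RQ : Q →* Matrix n n k} {rB : K → Matrix b b k}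
  {φ : ι → Matrix n b k} {ψ : ι → Matrix b n k}

theorem MultData.comm_fix (D : MultData K rV RQ rB φ ψ) (q : Q) {x : K}
    (hx : ∀ q : Q, q • x = x) : RQ q * rV x = rV x * RQ q := by
  rw [D.conj, hx]

theorem MultData.exists_rho (D : MultData K rV RQ rB φ ψ) [Nonempty b] :
    ∃ ρ : Q →* Matrix ι ι k, (∀ q j, RQ q * φ j = ∑ i, ρ q i j • φ i) ∧
      ∀ q i, ψ i * RQ q = ∑ l, ρ q i l • ψ l := by
  have hex : ∀ q j, ∃ a : ι → k, RQ q * φ j = ∑ i, a i • φ i := fun q j => D.full _ fun x hx => by
    rw [← Matrix.mul_assoc, ← D.comm_fix q hx, Matrix.mul_assoc, D.phiC x hx, Matrix.mul_assoc]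
  choose a ha using hex
  obtain ⟨b0⟩ := (inferInstance : Nonempty b)
  have hcoef : ∀ (c : ι → k) i, (ψ i * ∑ j, c j • φ j) b0 b0 = c i := by
    intro c i
    rw [Matrix.mul_sum, Matrix.sum_apply, Finset.sum_eq_single i]
    · simp [D.dual]
    · intro j _ hj
      simp [D.dual, Ne.symm hj]
    · simp
  have huniq : ∀ c c' : ι → k, ∑ j, c j • φ j = ∑ j, c' j • φ j → c = c' := fun c c' h =>
    funext fun i => by rw [← hcoef c i, h, hcoef c' i]
  have h1 : ∀ j, a 1 j = fun i => if i = j then 1 else 0 := fun j => huniq _ _ (by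
    rw [← ha, map_one, Matrix.one_mul, Finset.sum_eq_single j]
    · simp
    · intro i _ hi; simp [hi]
    · simp)
  let ρ : Q →* Matrix ι ι k :=
    { toFun := fun q => Matrix.of fun i j => a q j i
      map_one' := by
        ext i j
        simp [h1 j, Matrix.one_apply]
      map_mul' := fun q q' => by
        ext i j
        refine congrFun (huniq (a (q * q') j) (fun i => ∑ l, a q l i * a q' j l) ?_) i
        rw [← ha, map_mul, Matrix.mul_assoc, ha, Matrix.mul_sum]
        simp only [Matrix.mul_smul, ha, Finset.smul_sum, smul_smul, Finset.sum_smul]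
        rw [Finset.sum_comm]
        refine Finset.sum_congr rfl fun i _ => Finset.sum_congr rfl fun l _ => ?_
        rw [mul_comm] }
  refine ⟨ρ, fun q j => ha q j, fun q i => ?_⟩
  rw [← sub_eq_zero]
  refine D.dualfull _ (fun x hx => ?_) fun j => ?_
  · rw [Matrix.sub_mul, Matrix.mul_sub, Matrix.mul_assoc, D.comm_fix q hx, ← Matrix.mul_assoc,
      D.psiC x hx, Matrix.mul_assoc, Matrix.sum_mul, Matrix.mul_sum]
    congr 1
    refine Finset.sum_congr rfl fun l _ => ?_
    rw [Matrix.smul_mul, Matrix.mul_smul, D.psiC x hx]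
  · rw [Matrix.sub_mul, Matrix.mul_assoc, ha, Matrix.mul_sum, Matrix.sum_mul,
      Finset.sum_eq_single i, Finset.sum_eq_single j]
    · simp [D.dual, ρ]
    · intro l _ hl; simp [D.dual, hl]
    · simp
    · intro l _ hl; simp [D.dual, Ne.symm hl]
    · simp

variable {F : Type*} [Field F] [Algebra (MvPolynomial Q k) F]
  [IsFractionRing (MvPolynomial Q k) F]

include hexp in
/-- One non-free block on the multiplicity space. -/
theorem MultData.one_block (D : MultData K rV RQ rB φ ψ) [Nonempty b]
    (hd : (Fintype.card ι : k) ≠ 0) (ρ : Q →* Matrix ι ι k)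
    (hρ : ∀ q j, RQ q * φ j = ∑ i, ρ q i j • φ i)
    (hρ' : ∀ q i, ψ i * RQ q = ∑ l, ρ q i l • ψ l) :
    finrank F (LinearMap.ker (genEl (F := F) fun q => ρ q - 1)) =
      finrank F (LinearMap.range (genEl (F := F) (fun q => ρ q - 1) ^ (p - 1))) + 1 := by
  classical
  haveI : CharP F p := charP_of_injective_ringHom (gC (k := k) (F := F) Q).injective p
  have hpos := hp.out.pos
  have hgC : Function.Injective (gC (k := k) (F := F) Q) := RingHom.injective _
  have hdF : ((finrank F (ι → F) : ℕ) : F) ≠ 0 := by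
    rw [Module.finrank_fintype_fun_eq_card, ← map_natCast (gC (k := k) (F := F) Q)]
    exact (map_ne_zero_iff _ hgC).2 hd
  have hndvd : ¬ p ∣ finrank F (ι → F) := fun h => hdF ((CharP.cast_eq_zero_iff F p _).2 h)
  -- the two families on pairs
  let τ : Q →* Matrix (ι × ι) (ι × ι) k :=
    { toFun := fun q => (1 : Matrix ι ι k) ⊗ₖ (ρ q⁻¹)ᵀ
      map_one' := by simp
      map_mul' := fun q q' => by
        rw [← Matrix.mul_kronecker_mul, Matrix.one_mul, ← Matrix.transpose_mul, ← map_mul,
          ← _root_.mul_inv_rev] }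
  let cH : Q →* Matrix (ι × ι) (ι × ι) k :=
    { toFun := fun q => ρ q ⊗ₖ (ρ q⁻¹)ᵀ
      map_one' := by simp
      map_mul' := fun q q' => by
        rw [← Matrix.mul_kronecker_mul, ← Matrix.transpose_mul, ← map_mul, ← map_mul, ← _root_.mul_inv_rev] }
  let z' : Q → Matrix (ι × ι) (ι × ι) k := fun q =>
    ρ q ⊗ₖ (1 : Matrix ι ι k)ᵀ - (1 : Matrix ι ι k) ⊗ₖ (ρ q)ᵀ
  have hz : ∀ q q', Commute (z' q) (τ q') := by
    intro q q'
    show z' q * τ q' = τ q' * z' q
    simp only [z', τ, MonoidHom.coe_mk, OneHom.coe_mk]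
    rw [Matrix.sub_mul, Matrix.mul_sub, ← Matrix.mul_kronecker_mul, ← Matrix.mul_kronecker_mul,
      ← Matrix.mul_kronecker_mul, ← Matrix.mul_kronecker_mul, Matrix.transpose_one,
      Matrix.one_mul, Matrix.mul_one, Matrix.one_mul, Matrix.mul_one, Matrix.one_mul,
      ← Matrix.transpose_mul, ← Matrix.transpose_mul, ← map_mul, ← map_mul, mul_comm q'⁻¹ q]
  have hτz : (fun q => τ (id q) * z' q) = fun q => cH q - 1 := by
    funext q
    simp only [z', τ, cH, id, MonoidHom.coe_mk, OneHom.coe_mk]
    rw [Matrix.mul_sub, ← Matrix.mul_kronecker_mul, ← Matrix.mul_kronecker_mul,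
      Matrix.transpose_one, Matrix.one_mul, Matrix.mul_one, Matrix.one_mul,
      ← Matrix.transpose_mul, ← map_mul, mul_inv_cancel, map_one, Matrix.transpose_one,
      Matrix.one_kronecker_one]
  -- the bound for the conjugation action
  obtain ⟨c0, hc0, hsec⟩ := D.sec
  obtain ⟨b0⟩ := (inferInstance : Nonempty b)
  let Pm : Matrix (ι × ι) K k := fun ij x => (ψ ij.1 * rV x * φ ij.2) b0 b0
  let Sm : Matrix K (ι × ι) k := fun x ij => c0⁻¹ * (φ ij.1 * ψ ij.2 * rV x⁻¹).trace
  have hPS : Pm * Sm = 1 := by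
    ext ⟨i, j⟩ ⟨l, m⟩
    have h := hsec (φ l * ψ m)
    rw [Matrix.mul_apply]
    have e : ∑ x, Pm (i, j) x * Sm x (l, m) =
        c0⁻¹ * (ψ i * (∑ x, (φ l * ψ m * rV x⁻¹).trace • rV x) * φ j) b0 b0 := by
      rw [Matrix.mul_sum, Matrix.sum_mul, Matrix.sum_apply, Finset.mul_sum]
      refine Finset.sum_congr rfl fun x _ => ?_
      simp only [Pm, Sm, Matrix.mul_smul, Matrix.smul_mul, Matrix.smul_apply, smul_eq_mul]
      ring
    rw [e, h, Matrix.mul_smul, Matrix.smul_mul, Matrix.smul_apply, smul_eq_mul, ← mul_assoc,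
      inv_mul_cancel₀ hc0, one_mul, ← Matrix.mul_assoc, Matrix.mul_assoc (ψ i * φ l), D.dual,
      D.dual]
    by_cases h1 : i = l <;> by_cases h2 : m = j
    · simp [h1, h2, Matrix.one_apply]
    · simp [h1, h2, Matrix.one_apply, Ne.symm h2]
    · simp [h1, h2, Matrix.one_apply]
    · simp [h1, h2, Matrix.one_apply]
  have hPc : ∀ q, Pm * (permHom (Q := Q) (Ω := K) k q - 1) = (cH q - 1) * Pm := by
    intro q
    rw [Matrix.mul_sub, Matrix.sub_mul, Matrix.mul_one, Matrix.one_mul]
    congr 1
    ext ⟨i, j⟩ x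
    rw [Matrix.mul_apply, Matrix.mul_apply, Fintype.sum_prod_type,
      Finset.sum_eq_single (q • x) (fun y _ hy => by
        simp [permHom, permMat, Ne.symm hy]) (by simp)]
    have e : rV (q • x) = RQ q * rV x * RQ q⁻¹ := by
      rw [D.conj, Matrix.mul_assoc, ← map_mul, mul_inv_cancel, map_one, Matrix.mul_one]
    have e2 : ψ i * rV (q • x) * φ j =
        ∑ l, ∑ m, (ρ q i l * ρ q⁻¹ m j) • (ψ l * rV x * φ m) := by
      rw [e, show ψ i * (RQ q * rV x * RQ q⁻¹) * φ j =
        (ψ i * RQ q) * rV x * (RQ q⁻¹ * φ j) by simp only [Matrix.mul_assoc], hρ' q i, hρ,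
        Matrix.sum_mul, Matrix.sum_mul]
      refine Finset.sum_congr rfl fun l _ => ?_
      rw [Matrix.mul_sum]
      refine Finset.sum_congr rfl fun m _ => ?_
      rw [Matrix.smul_mul, Matrix.smul_mul, Matrix.mul_smul, smul_smul, mul_comm]
    have hone : permHom (Q := Q) (Ω := K) k q (q • x) x = 1 := by simp [permHom, permMat]
    simp only [Pm, hone, mul_one, e2, Matrix.sum_apply, Matrix.smul_apply, smul_eq_mul]
    rfl
  have hSc : ∀ q, Sm * (cH q - 1) = (permHom (Q := Q) (Ω := K) k q - 1) * Sm := by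
    intro q
    rw [Matrix.mul_sub, Matrix.sub_mul, Matrix.mul_one, Matrix.one_mul]
    congr 1
    ext x ⟨l, m⟩
    rw [Matrix.mul_apply, Matrix.mul_apply, Fintype.sum_prod_type,
      Finset.sum_eq_single (q⁻¹ • x) (f := fun y => permHom (Q := Q) (Ω := K) k q x y * Sm y (l, m))
        (fun y _ hy => by
          have : q • y ≠ x := fun h => hy (by rw [← h, inv_smul_smul])
          simp [permHom, permMat, this]) (by simp)]
    have e : rV (q⁻¹ • x)⁻¹ = RQ q⁻¹ * rV x⁻¹ * RQ q := by
      rw [D.conj, Matrix.mul_assoc, ← map_mul, inv_mul_cancel, map_one, Matrix.mul_one, smul_inv']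
    have e2 : (φ l * ψ m * rV (q⁻¹ • x)⁻¹).trace =
        ∑ a, ∑ c, ρ q a l * ρ q⁻¹ m c * (φ a * ψ c * rV x⁻¹).trace := by
      rw [e, show φ l * ψ m * (RQ q⁻¹ * rV x⁻¹ * RQ q) =
        φ l * (ψ m * RQ q⁻¹ * rV x⁻¹) * RQ q by simp only [Matrix.mul_assoc],
        Matrix.trace_mul_comm, ← Matrix.mul_assoc, hρ, hρ', Matrix.sum_mul, Matrix.trace_sum]
      refine Finset.sum_congr rfl fun a _ => ?_
      rw [Matrix.sum_mul, Matrix.mul_sum, Matrix.trace_sum]
      refine Finset.sum_congr rfl fun c _ => ?_
      rw [Matrix.smul_mul, Matrix.smul_mul, Matrix.mul_smul, smul_smul, Matrix.trace_smul,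
        smul_eq_mul, ← Matrix.mul_assoc]
    have hone : permHom (Q := Q) (Ω := K) k q x (q⁻¹ • x) = 1 := by simp [permHom, permMat]
    simp only [Sm, hone, one_mul, e2, Finset.mul_sum]
    refine Finset.sum_congr rfl fun a _ => Finset.sum_congr rfl fun c _ => ?_
    show c0⁻¹ * _ * (ρ q a l * ρ q⁻¹ m c) = _
    ring
  let vone : ι × ι → F := fun ij => if ij.1 = ij.2 then 1 else 0
  have hcker : LinearMap.ker (genEl (F := F) fun q => cH q - 1) ≤
      LinearMap.range (genEl (F := F) (fun q => cH q - 1) ^ (p - 1)) ⊔ Submodule.span F {vone} := by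
    intro v hv
    set S' := Matrix.toLin' (Sm.map (gC (F := F) Q))
    set P' := Matrix.toLin' (Pm.map (gC (F := F) Q))
    have hu : S' v ∈ LinearMap.ker
        (genEl (F := F) fun q => permHom (Q := Q) (Ω := K) k q - 1) := by
      rw [LinearMap.mem_ker, genEl_intertwine Sm _ _ hSc, LinearMap.mem_ker.1 hv, map_zero]
    obtain ⟨w, hw⟩ := perm_ker_decomp p hexp _ hu
    set u' := S' v
    set r := u' - (genEl (F := F) (fun q => permHom (Q := Q) (Ω := K) k q - 1) ^ (p - 1)) w with hr
    have hvP : v = P' u' := by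
      show v = P' (S' v)
      rw [← LinearMap.comp_apply, ← Matrix.toLin'_mul, ← Matrix.map_mul, hPS,
        Matrix.map_one _ (map_zero _) (map_one _), Matrix.toLin'_one, LinearMap.id_apply]
    have hsplit : v = (genEl (F := F) (fun q => cH q - 1) ^ (p - 1)) (P' w) + P' r := by
      rw [genEl_pow_intertwine Pm _ _ hPc, ← map_add, hr, add_sub_cancel, ← hvP]
    have hrfix : ∀ x, (∃ q : Q, q • x ≠ x) → r x = 0 := fun x hx => by
      rw [hr, Pi.sub_apply, (hw x hx).1, sub_self]
    have hPr : P' r = (∑ x, r x * gC (F := F) Q (rB x b0 b0)) • vone := by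
      funext ij
      obtain ⟨i, j⟩ := ij
      show (Matrix.toLin' (Pm.map (gC (F := F) Q)) r) (i, j) = _
      rw [Matrix.toLin'_apply, Matrix.mulVec, dotProduct, Pi.smul_apply, smul_eq_mul, Finset.sum_mul]
      refine Finset.sum_congr rfl fun x _ => ?_
      by_cases hx : ∃ q : Q, q • x ≠ x
      · rw [hrfix x hx]; simp
      · push Not at hx
        have e : ψ i * rV x * φ j = if i = j then rB x else 0 := by
          rw [Matrix.mul_assoc, D.phiC x hx, ← Matrix.mul_assoc, D.dual]
          by_cases h : i = j <;> simp [h]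
        rw [Matrix.map_apply, show Pm (i, j) x = (ψ i * rV x * φ j) b0 b0 from rfl, e]
        by_cases h : i = j <;> simp [vone, h, mul_comm]
    rw [hsplit, hPr]
    exact Submodule.add_mem_sup ⟨_, rfl⟩
      (Submodule.smul_mem _ _ (Submodule.mem_span_singleton_self _))
  have hcbound : finrank F (LinearMap.ker (genEl (F := F) fun q => cH q - 1)) ≤
      finrank F (LinearMap.range (genEl (F := F) (fun q => cH q - 1) ^ (p - 1))) + 1 := by
    refine (Submodule.finrank_mono hcker).trans
      ((Submodule.finrank_add_le_finrank_add_finrank _ _).trans ?_)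
    exact Nat.add_le_add_left ((finrank_span_le_card _).trans (by simp)) _
  -- transfer to `ad Y`
  set Y := genEl (F := F) fun q => ρ q - 1 with hY
  let J := vecEquiv (F := F) (ι := ι)
  have hJ : ∀ i (f : End F (ι → F)), (genEl (F := F) z' ^ i) (J f) = J ((adL Y ^ i) f) := by
    intro i
    induction i with
    | zero => intro f; simp
    | succ i ih =>
      intro f
      rw [pow_succ, pow_succ, Module.End.mul_apply, Module.End.mul_apply, ← ih]
      exact congrArg _ (vecEquiv_adL (fun q => ρ q) f)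
  have hker : ∀ i, finrank F (LinearMap.ker (adL Y ^ i)) =
      finrank F (LinearMap.ker (genEl (F := F) z' ^ i)) := by
    intro i
    rw [← LinearEquiv.finrank_map_eq J]
    refine congrArg (fun S : Submodule F (ι × ι → F) => finrank F S) ?_
    ext v
    simp only [Submodule.mem_map, LinearMap.mem_ker]
    constructor
    · rintro ⟨f, hf, rfl⟩
      rw [LinearEquiv.coe_coe, hJ, hf, map_zero]
    · intro hv
      refine ⟨J.symm v, ?_, J.apply_symm_apply v⟩
      apply J.injective
      rw [← hJ, J.apply_symm_apply, hv, map_zero]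
  have hker' : ∀ i, finrank F (LinearMap.ker (adL Y ^ i)) =
      finrank F (LinearMap.ker (genEl (F := F) (fun q => cH q - 1) ^ i)) := fun i => by
    rw [hker, finrank_ker_twist (F := F) p hexp id τ z' hz i, hτz]
  have hdim : finrank F (ι × ι → F) = finrank F (End F (ι → F)) := (LinearEquiv.finrank_eq J).symm
  have hrange : ∀ i, finrank F (LinearMap.range (adL Y ^ i)) =
      finrank F (LinearMap.range (genEl (F := F) (fun q => cH q - 1) ^ i)) := fun i => by
    have h1 := LinearMap.finrank_range_add_finrank_ker (adL Y ^ i)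
    have h2 := LinearMap.finrank_range_add_finrank_ker (genEl (F := F) (fun q => cH q - 1) ^ i)
    rw [hker' i] at h1
    omega
  have hadp : adL Y ^ p = 0 := by
    rw [← LinearMap.range_eq_bot, ← Submodule.finrank_eq_zero, hrange,
      genEl_pow_char_eq_zero p hexp, LinearMap.range_zero, finrank_bot]
  refine finrank_ker_eq_succ hpos (genEl_pow_char_eq_zero p hexp ρ) hndvd
    (commutant_of_ranks hp.out.one_lt hadp hdF ?_)
  have h1 := hker' 1
  rw [pow_one, pow_one] at h1
  rw [h1, hrange]
  exact hcbound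

end Data

section Normalise

variable {Q : Type v} [Fintype Q] [CommGroup Q] {k : Type u} [Field k]
variable (p : ℕ) [hp : Fact p.Prime] [CharP k p]
variable (hexp : ∀ q : Q, q ^ p = 1)
variable {K : Type*} [Group K] [Fintype K] [DecidableEq K] [MulDistribMulAction Q K]
variable {n b ι : Type*} [Fintype n] [DecidableEq n] [Fintype b] [DecidableEq b] [Fintype ι]
  [DecidableEq ι]
variable {rV : K → Matrix n n k} {RQ : Q →* Matrix n n k} {rB : K → Matrix b b k}
  {φ : ι → Matrix n b k} {ψ : ι → Matrix b n k}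

include hexp in
/-- A projective action on the multiplicity space compatible with the operators is honest after
normalisation. -/
theorem MultData.exists_normalisation (D : MultData K rV RQ rB φ ψ) [Nonempty b]
    (hd : (Fintype.card ι : k) ≠ 0) (ρ : Q →* Matrix ι ι k)
    (hρ : ∀ q j, RQ q * φ j = ∑ i, ρ q i j • φ i)
    (hρ' : ∀ q i, ψ i * RQ q = ∑ l, ρ q i l • ψ l)
    {E : Type w} [Group E] (act : E →* Equiv.Perm Q) (P Pi' : E → Matrix ι ι k)
    (al : E → E → k) (hinv : ∀ e, P e * Pi' e = 1)
    (hmul : ∀ e f, P e * P f = al e f • P (e * f))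
    (hP : ∀ e q, P e * ρ q = ρ (act e q) * P e) :
    ∃ ν : E → k, (∀ e, ν e ≠ 0) ∧ (∀ e f, ν (e * f) * al e f = ν e * ν f) ∧
      ∀ e, act e = 1 → P e = 1 → ν e = 1 := by
  classical
  let F := FractionRing (MvPolynomial Q k)
  have hrk := MultData.one_block (F := F) p hexp D hd ρ hρ hρ'
  set z : Q → Matrix ι ι k := fun q => ρ q - 1 with hz
  set am := algebraMap (MvPolynomial Q k) F
  have hinj : Function.Injective am := IsFractionRing.injective _ _
  have hcomm : ∀ e (v : ι → MvPolynomial Q k),
      semi act P e (polEl z *ᵥ v) = polEl z *ᵥ semi act P e v := by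
    intro e v
    simp only [semi]
    have e1 : (fun i => MvPolynomial.rename (act e) ((polEl z *ᵥ v) i)) =
        (polEl z).map (MvPolynomial.rename (act e)) *ᵥ fun i => MvPolynomial.rename (act e) (v i) :=
      funext fun i => RingHom.map_mulVec
        (MvPolynomial.rename (act e) : MvPolynomial Q k →ₐ[k] MvPolynomial Q k).toRingHom _ _ i
    rw [e1, Matrix.mulVec_mulVec, Matrix.mulVec_mulVec]
    congr 1
    have e2 : (polEl z).map (MvPolynomial.rename (act e)) =
        ∑ q, (MvPolynomial.X (act e q) : MvPolynomial Q k) •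
          (z q).map (MvPolynomial.C : k →+* MvPolynomial Q k) := by
      ext i j
      simp [polEl, Matrix.sum_apply, Matrix.map_apply]
    rw [e2, polEl, Finset.sum_mul, Finset.mul_sum]
    refine Eq.trans ?_ (Equiv.sum_comp (act e) _)
    refine Finset.sum_congr rfl fun q _ => ?_
    rw [Matrix.smul_mul, Matrix.mul_smul, ← Matrix.map_mul, ← Matrix.map_mul, hz]
    simp only [Matrix.mul_sub, Matrix.sub_mul, Matrix.mul_one, Matrix.one_mul, hP]
  have hpow : ∀ e m (v : ι → MvPolynomial Q k),
      semi act P e ((polEl z) ^ m *ᵥ v) = (polEl z) ^ m *ᵥ semi act P e v := by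
    intro e m
    induction m with
    | zero => intro v; simp
    | succ m ih =>
      intro v
      rw [pow_succ', ← Matrix.mulVec_mulVec, hcomm, ih, Matrix.mulVec_mulVec]
  have hgen : ∀ m, genEl (F := F) z ^ m = Matrix.toLin' (((polEl z) ^ m).map am) := by
    intro m
    induction m with
    | zero => rw [pow_zero, pow_zero, Matrix.map_one _ (map_zero _) (map_one _),
        Matrix.toLin'_one]; rfl
    | succ m ih =>
      rw [pow_succ, pow_succ, ih, Matrix.map_mul, Matrix.toLin'_mul, genEl_eq_polEl]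
      rfl
  have happ : ∀ m (v : ι → MvPolynomial Q k),
      (genEl (F := F) z ^ m) (polVec (F := F) v) = polVec (F := F) ((polEl z) ^ m *ᵥ v) := by
    intro m v
    rw [hgen, Matrix.toLin'_apply]
    funext i
    exact (RingHom.map_mulVec am _ v i).symm
  have hpv0 : ∀ v : ι → MvPolynomial Q k, polVec (F := F) v = 0 ↔ v = 0 := fun v =>
    ⟨fun h => funext fun i => hinj (by rw [Pi.zero_apply, map_zero]; exact congrFun h i),
      fun h => by subst h; funext i; simp [polVec]⟩
  have hpsmul : ∀ (a : MvPolynomial Q k) (v : ι → MvPolynomial Q k), polVec (F := F) (a • v) = am a • polVec (F := F) v :=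
    fun a v => funext fun i => by
      show am (a * v i) = am a * am (v i)
      rw [map_mul]
  obtain ⟨l1, hl1, h1, ht1⟩ := exists_line_character (F := F) act P Pi' al hinv hmul
    (LinearMap.ker (genEl (F := F) z)) fun e v hv => by
      have h := happ 1 v
      rw [pow_one, LinearMap.mem_ker.1 hv] at h
      have h' := happ 1 (semi act P e v)
      rw [pow_one] at h'
      rw [LinearMap.mem_ker, h', pow_one, ← hcomm, show polEl z *ᵥ v = 0 by
        rw [← hpv0 (polEl z *ᵥ v), ← pow_one (polEl z), ← h], hpv0]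
      funext i
      simp [semi, Matrix.mulVec, dotProduct]
  obtain ⟨l2, hl2, h2, ht2⟩ := exists_line_character (F := F) act P Pi' al hinv hmul
    (LinearMap.range (genEl (F := F) z ^ (p - 1))) fun e v hv => by
      obtain ⟨y, hy⟩ := hv
      obtain ⟨a, y', ha, hy'⟩ := exists_polVec (Q := Q) (k := k) (F := F) y
      have e1 : a • v = (polEl z) ^ (p - 1) *ᵥ y' := by
        funext i
        apply hinj
        have := congrArg (fun w => (genEl (F := F) z ^ (p - 1)) w i) hy'
        simp only [happ, map_smul, hy] at this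
        rw [Pi.smul_apply, smul_eq_mul, map_mul]
        exact this.symm
      have e2 : MvPolynomial.rename (act e) a • semi act P e v =
          (polEl z) ^ (p - 1) *ᵥ semi act P e y' := by
        rw [← hpow, ← e1]
        simp only [semi]
        rw [← Matrix.mulVec_smul]
        congr 1
        funext i
        simp
      have hne : am (MvPolynomial.rename (act e) a) ≠ 0 := (map_ne_zero_iff _ hinj).2
        ((map_ne_zero_iff _ (MvPolynomial.rename_injective _ (act e).injective)).2 ha)
      refine ⟨(am (MvPolynomial.rename (act e) a))⁻¹ • polVec (F := F) (semi act P e y'), ?_⟩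
      rw [map_smul, happ, ← e2, hpsmul, smul_smul, inv_mul_cancel₀ hne, one_smul]
  refine ⟨fun e => l1 e / l2 e, fun e => div_ne_zero (hl1 e) (hl2 e), fun e f => ?_,
    fun e h h' => show l1 e / l2 e = 1 by rw [ht1 e h h', ht2 e h h', div_one]⟩
  have ha := h1 e f
  have hb := h2 e f
  rw [hrk, pow_succ] at ha
  show l1 (e * f) / l2 (e * f) * al e f = l1 e / l2 e * (l1 f / l2 f)
  have := hl2 e
  have := hl2 f
  have := hl2 (e * f)
  have hne : l2 e * l2 f ≠ 0 := mul_ne_zero (hl2 e) (hl2 f)
  rw [div_mul_div_comm, ← ha, ← hb]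
  have h0 : al e f ^ finrank F (LinearMap.range (genEl (F := F) z ^ (p - 1))) ≠ 0 := fun h0 =>
    hne (by rw [← hb, h0, mul_zero])
  field_simp

end Normalise

end H23.PSolv
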