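import Cfsg.Agent.H13.Clifford
import Cfsg.Agent.H20.Block
import Cfsg.Agent.H12.Orth
import Cfsg.Prelude.Def_BlockRank
import Cfsg.Prelude.Def_BlockLocal

/-!
General tools for a perfect isometry: local integrality of orbit averages, the matrix argument, the
degree over an invariant constituent and the equality of the `p`-regular ranks.
-/

set_option autoImplicit false
set_option linter.unusedSectionVars false
set_option linter.style.haveILetI false

open Cfsg
open scoped ComplexConjugate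

namespace H23.PSolv

variable {M : Ideal AlgInt} [hMp : M.IsPrime] {p : ℕ} [hp : Fact p.Prime]

/-- Averages of invariant local values over an action with stabilisers of order prime to `p`. -/
theorem memRing_average (hM : IsPModular p M) {D Ω : Type*} [Group D] [Finite D] [Fintype Ω]
    [MulAction D Ω] (f : Ω → ℂ) (hinv : ∀ (d : D) ω, f (d • ω) = f ω)
    (hf : ∀ ω, MemLocalRing M (f ω)) (hst : ∀ ω : Ω, ¬ p ∣ Nat.card (MulAction.stabilizer D ω)) :
    MemLocalRing M ((Nat.card D : ℂ)⁻¹ * ∑ ω, f ω) := by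
  classical
  haveI := Fintype.ofFinite D
  have he : ∑ ω, f ω = ∑ q : Quotient (MulAction.orbitRel D Ω),
      ((MulAction.stabilizer D q.out).index : ℂ) * f q.out := by
    rw [← Fintype.sum_equiv (MulAction.selfEquivSigmaOrbits D Ω).symm
      (fun x => f ((MulAction.selfEquivSigmaOrbits D Ω).symm x)) f fun x => rfl, Fintype.sum_sigma]
    refine Finset.sum_congr rfl fun q _ => ?_
    rw [Finset.sum_congr rfl fun x _ => show
      f ((MulAction.selfEquivSigmaOrbits D Ω).symm ⟨q, x⟩) = f q.out by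
        obtain ⟨_, d, rfl⟩ := x
        exact hinv d _, Finset.sum_const, Finset.card_univ, nsmul_eq_mul,
      MulAction.index_stabilizer, ← Nat.card_coe_set_eq, ← Nat.card_eq_fintype_card]
  rw [he, Finset.mul_sum]
  refine H20.memRing_sum _ _ fun q _ => ?_
  have h := Subgroup.card_mul_index (MulAction.stabilizer D q.out)
  have h0 : ((MulAction.stabilizer D q.out).index : ℂ) ≠ 0 :=
    Nat.cast_ne_zero.2 Subgroup.index_ne_zero_of_finite
  rw [← h, Nat.cast_mul, mul_inv, mul_assoc, inv_mul_cancel_left₀ h0]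
  exact H20.memRing_mul (H20.inv_natCast_memRing hM (hst _)) (hf _)

theorem sum_conj_eq {A : Type*} [Group A] [Fintype A] (x : A) [Fintype {z : A // IsConj x z}]
    (φ : A → ℂ) :
    ∑ a : A, φ (a * x * a⁻¹) =
      (Nat.card (Subgroup.centralizer ({x} : Set A)) : ℂ) * ∑ z : {z : A // IsConj x z}, φ z := by
  classical
  let g : A → {z : A // IsConj x z} := fun a => ⟨a * x * a⁻¹, isConj_iff.2 ⟨a, rfl⟩⟩
  rw [← Fintype.sum_fiberwise g, Finset.mul_sum]
  refine Finset.sum_congr rfl fun z _ => ?_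
  rw [Finset.sum_congr rfl fun a _ => show φ (a.1 * x * a.1⁻¹) = φ z from
      congrArg (fun w : {z : A // IsConj x z} => φ w) a.2, Finset.sum_const,
    Finset.card_univ, nsmul_eq_mul, ← Nat.card_eq_fintype_card]
  congr 2
  obtain ⟨a0, ha0⟩ := isConj_iff.1 z.2
  refine Nat.card_congr ((Equiv.mulLeft a0⁻¹).subtypeEquiv fun a => ?_)
  rw [Subgroup.mem_centralizer_singleton_iff, Equiv.coe_mulLeft, Subtype.ext_iff]
  show a * x * a⁻¹ = (z : A) ↔ a0⁻¹ * a * x = x * (a0⁻¹ * a)
  rw [← ha0]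
  constructor
  · intro h
    calc a0⁻¹ * a * x = a0⁻¹ * (a * x * a⁻¹) * a := by group
      _ = x * (a0⁻¹ * a) := by rw [h]; group
  · intro h
    calc a * x * a⁻¹ = a0 * (a0⁻¹ * a * x) * a⁻¹ := by group
      _ = _ := by rw [h]; group

/-- Local divisibility of an induced two-variable function by the centraliser of the first
argument. -/
theorem memRing_two (hM : IsPModular p M) {D A B : Type*} [Group D] [Finite D] [Group A] [Fintype A]
    [Group B] [Fintype B] (lA : D →* A) (lB : D →* B) (hker : ¬ p ∣ Nat.card lB.ker)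
    (F : A → B → ℂ) (hF : ∀ d a b, F (lA d * a * (lA d)⁻¹) (lB d * b * (lB d)⁻¹) = F a b)
    (hmem : ∀ a b, MemLocalRing M (F a b)) (x : A) (y : B) :
    MemLocalRing M (((Nat.card D : ℂ)⁻¹ * ∑ a : A, ∑ b : B, F (a * x * a⁻¹) (b * y * b⁻¹)) /
      (Nat.card (Subgroup.centralizer ({x} : Set A)) : ℂ)) := by
  classical
  letI : MulAction D ({z : A // IsConj x z} × B) :=
    { smul := fun d w => (⟨lA d * w.1.1 * (lA d)⁻¹, w.1.2.trans (isConj_iff.2 ⟨_, rfl⟩)⟩, lB d * w.2)
      one_smul := fun w => Prod.ext (Subtype.ext (by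
        show lA 1 * w.1.1 * (lA 1)⁻¹ = _; simp)) (by show lB 1 * w.2 = _; simp)
      mul_smul := fun d e w => Prod.ext (Subtype.ext (by
        show lA (d * e) * w.1.1 * (lA (d * e))⁻¹ =
          lA d * (lA e * w.1.1 * (lA e)⁻¹) * (lA d)⁻¹
        rw [map_mul]; group)) (by
        show lB (d * e) * w.2 = lB d * (lB e * w.2); rw [map_mul, mul_assoc]) }
  have h := memRing_average (M := M) hM (D := D) (fun w : {z : A // IsConj x z} × B =>
      F w.1 (w.2 * y * w.2⁻¹))
    (fun d w => by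
      show F (lA d * w.1.1 * (lA d)⁻¹) (lB d * w.2 * y * (lB d * w.2)⁻¹) = _
      rw [← hF d w.1.1 (w.2 * y * w.2⁻¹)]
      congr 1
      group)
    (fun w => hmem _ _) fun w hd => hker (hd.trans (Subgroup.card_dvd_of_le fun d hd' => by
      rw [MonoidHom.mem_ker]
      exact mul_right_cancel (b := w.2) ((congrArg Prod.snd hd').trans (one_mul _).symm)))
  convert h using 1
  rw [sum_conj_eq x (fun a => ∑ b : B, F a (b * y * b⁻¹)), ← Fintype.sum_prod_type',
    mul_left_comm, mul_div_cancel_left₀ _ (Nat.cast_ne_zero.2 Nat.card_pos.ne')]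

/-- A non-negative integral matrix carrying positive vectors to each other both ways is a
permutation matrix. -/
theorem row_unique {X Y : Type*} [Fintype X] [Fintype Y] (m : X → Y → ℕ) (e : X → ℕ) (f : Y → ℕ)
    (h1 : ∀ x, ∑ y, m x y * f y = e x) (h2 : ∀ y, ∑ x, m x y * e x = f y) {x : X} (hx : e x ≠ 0) :
    ∃ y, f y ≠ 0 ∧ m x y = 1 ∧ ∀ y', y' ≠ y → m x y' = 0 := by
  classical
  obtain ⟨y, -, hy⟩ := Finset.exists_ne_zero_of_sum_ne_zero ((h1 x).symm ▸ hx)
  rw [Nat.mul_ne_zero_iff] at hy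
  have hsq : ∑ y', m x y' * m x y' * e x ≤ e x := by
    conv_rhs => rw [← h1 x]
    refine Finset.sum_le_sum fun y' _ => ?_
    rw [mul_assoc, ← h2 y']
    exact Nat.mul_le_mul_left _ (Finset.single_le_sum (f := fun x' => m x' y' * e x')
      (fun _ _ => Nat.zero_le _) (Finset.mem_univ x))
  rw [← Finset.sum_mul] at hsq
  have hle : ∑ y', m x y' * m x y' ≤ 1 :=
    Nat.le_of_mul_le_mul_right (hsq.trans (one_mul _).ge) (Nat.pos_of_ne_zero hx)
  rw [← Finset.add_sum_erase _ _ (Finset.mem_univ y)] at hle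
  have hy1 : 1 ≤ m x y * m x y := Nat.one_le_iff_ne_zero.2 (Nat.mul_ne_zero hy.1 hy.1)
  refine ⟨y, hy.2, ?_, fun y' hy' => ?_⟩
  · have : m x y * m x y = 1 := by omega
    exact Nat.eq_one_of_mul_eq_one_right this
  · have h0 : ∑ y' ∈ Finset.univ.erase y, m x y' * m x y' = 0 := by omega
    exact mul_self_eq_zero.1 ((Finset.sum_eq_zero_iff.1 h0) y'
      (Finset.mem_erase.2 ⟨hy', Finset.mem_univ _⟩))

/-- The degree of a character over an irreducible character of a normal subgroup. -/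
theorem degree_over {A : Type*} [Group A] [Fintype A] (L : Subgroup A) [L.Normal] [Fintype L] (τ : IrrCharacter L)
    (U : Subgroup A) (hU : ∀ a, a ∈ U ↔ H13.twist L a (τ : L → ℂ) = τ) (χ : IrrCharacter A) {e : ℕ}
    (he : classInner (fun l : L => (χ : A → ℂ) l) (τ : L → ℂ) = e) (he0 : e ≠ 0) :
    (χ : A → ℂ) 1 = (U.index : ℂ) * (e : ℂ) * (τ : L → ℂ) 1 := by
  classical
  let tw : A → IrrCharacter L := fun a => H13.twistIrr L a τ
  set s : Finset (IrrCharacter L) := Finset.univ.image tw with hs'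
  have hs : ∀ ψ : IrrCharacter L, ψ ∈ s ↔ ∃ x, H13.twist L x (τ : L → ℂ) = ψ := by
    intro ψ
    simp only [hs', Finset.mem_image, Finset.mem_univ, true_and]
    exact ⟨fun ⟨x, hx⟩ => ⟨x, congrArg Subtype.val hx⟩, fun ⟨x, hx⟩ => ⟨x, Subtype.ext hx⟩⟩
  have h := congrFun (H13.clifford_res L χ.2 τ.2 (by rw [he]; exact_mod_cast he0) s hs) 1
  rw [Pi.smul_apply, he, Finset.sum_apply, smul_eq_mul] at h
  have h1 : ∀ ψ ∈ s, (ψ : L → ℂ) 1 = (τ : L → ℂ) 1 := by
    intro ψ hψ
    obtain ⟨x, hx⟩ := (hs ψ).1 hψ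
    rw [← hx, H13.twist_apply]
    exact congrArg (τ : L → ℂ) (Subtype.ext (show x * ((1 : L) : A) * x⁻¹ = 1 by
      rw [Subgroup.coe_one, mul_one, mul_inv_cancel]))
  rw [Finset.sum_congr rfl h1, Finset.sum_const, nsmul_eq_mul] at h
  have hcard : s.card = U.index := by
    rw [← Nat.card_eq_finsetCard]
    symm
    refine Nat.card_congr (Equiv.ofBijective (fun q : A ⧸ U => (⟨tw q.out⁻¹,
      Finset.mem_image_of_mem tw (Finset.mem_univ _)⟩ : {x // x ∈ s})) ⟨fun a b hab => ?_,
      fun ψ => ?_⟩)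
    · rw [← QuotientGroup.out_eq' a, ← QuotientGroup.out_eq' b, QuotientGroup.eq, hU]
      have e' : H13.twist L a.out⁻¹ (τ : L → ℂ) = H13.twist L b.out⁻¹ τ :=
        congrArg (fun z : {x // x ∈ s} => ((z : IrrCharacter L) : L → ℂ)) hab
      rw [← H13.twist_twist L b.out a.out⁻¹, e', H13.twist_twist, inv_mul_cancel, H13.twist_one]
    · obtain ⟨x, -, hx⟩ := Finset.mem_image.1 ψ.2
      refine ⟨(x⁻¹ : A), Subtype.ext (Eq.trans ?_ hx)⟩
      refine Subtype.ext ?_
      obtain ⟨u, hu⟩ := QuotientGroup.mk_out_eq_mul U x⁻¹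
      show H13.twist L ((QuotientGroup.mk x⁻¹ : A ⧸ U).out)⁻¹ (τ : L → ℂ) = H13.twist L x τ
      rw [hu, mul_inv_rev, inv_inv, ← H13.twist_twist L x (u : A)⁻¹, (hU _).1 (inv_mem u.2)]
  rw [hcard] at h
  exact h.trans (by ring)

theorem pRegularPart_eq {A : Type*} [Group A] (f : A → ℂ) (g : A) [Decidable (IsPRegular p g)] :
    pRegularPart p f g = if IsPRegular p g then f g else 0 := by
  unfold pRegularPart
  convert rfl

/-- A bijection with a separated kernel cannot increase the `p`-regular rank. -/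
theorem blockRank_le_of_kernel {A B : Type*} [Group A] [Fintype A] [Group B] [Fintype B]
    {c : Set (IrrCharacter B)} {b : Set (IrrCharacter A)} (I : IrrCharacter B → IrrCharacter A)
    (hI : Set.BijOn I c b) (μ : A → B → ℂ)
    (hμ : ∀ x y, μ x y = ∑ᶠ η ∈ c, (I η : A → ℂ) x * (η : B → ℂ) y)
    (hsep : ∀ x y, μ x y ≠ 0 → (IsPRegular p x ↔ IsPRegular p y)) :
    blockRank p b ≤ blockRank p c := by
  classical
  let Φ : (B → ℂ) →ₗ[ℂ] (A → ℂ) :=
    { toFun := fun f x => (Nat.card B : ℂ)⁻¹ * ∑ y, μ x y * f y⁻¹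
      map_add' := fun f g => funext fun x => by
        simp only [Pi.add_apply, mul_add, Finset.sum_add_distrib]
      map_smul' := fun r f => funext fun x => by
        simp only [Pi.smul_apply, smul_eq_mul, RingHom.id_apply, Finset.mul_sum]
        exact Finset.sum_congr rfl fun y _ => by ring }
  have hmap : ∀ η ∈ c, Φ (pRegularPart p (η : B → ℂ)) = pRegularPart p (I η : A → ℂ) := by
    intro η hη
    funext x
    show (Nat.card B : ℂ)⁻¹ * ∑ y, μ x y * pRegularPart p (η : B → ℂ) y⁻¹ = _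
    have hr : ∀ y : B, IsPRegular p y⁻¹ ↔ IsPRegular p y := fun y => by
      rw [IsPRegular, IsPRegular, orderOf_inv]
    rw [pRegularPart_eq]
    by_cases hx : IsPRegular p x
    · rw [if_pos hx, Finset.sum_congr rfl fun y _ => show μ x y * pRegularPart p (η : B → ℂ) y⁻¹ =
          ∑ η' ∈ c.toFinite.toFinset,
            (I η' : A → ℂ) x * ((η' : B → ℂ) y * conj ((η : B → ℂ) y)) by
          rw [← H12.irr_inv, pRegularPart_eq]
          by_cases h0 : μ x y = 0
          · rw [h0, zero_mul]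
            symm
            rw [Finset.sum_congr rfl fun η' _ => (mul_assoc _ _ _).symm, ← Finset.sum_mul,
              ← finsum_mem_eq_finite_toFinset_sum _ c.toFinite, ← hμ, h0, zero_mul]
          · rw [if_pos ((hr y).2 ((hsep x y h0).1 hx)), hμ,
              finsum_mem_eq_finite_toFinset_sum _ c.toFinite, Finset.sum_mul]
            exact Finset.sum_congr rfl fun η' _ => mul_assoc _ _ _]
      rw [Finset.sum_comm, Finset.mul_sum, Finset.sum_congr rfl fun η' _ => show
        (Nat.card B : ℂ)⁻¹ * ∑ y, (I η' : A → ℂ) x * ((η' : B → ℂ) y * conj ((η : B → ℂ) y)) =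
          (I η' : A → ℂ) x * classInner (η' : B → ℂ) (η : B → ℂ) by
        rw [classInner, ← Finset.mul_sum, mul_left_comm]]
      rw [Finset.sum_congr rfl fun η' _ => by rw [H12.classInner_irr η' η, mul_ite, mul_one, mul_zero],
        Finset.sum_ite_eq' c.toFinite.toFinset η fun η' => (I η' : A → ℂ) x,
        if_pos (c.toFinite.mem_toFinset.2 hη)]
    · rw [if_neg hx, Finset.sum_eq_zero fun y _ => ?_, mul_zero]
      rw [pRegularPart_eq]
      split_ifs with hy
      · rw [show μ x y = 0 from by_contra fun h0 => hx ((hsep x y h0).2 ((hr y).1 hy)), zero_mul]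
      · rw [mul_zero]
  have hle : Submodule.span ℂ ((fun χ : IrrCharacter A => pRegularPart p (χ : A → ℂ)) '' b) ≤
      (Submodule.span ℂ ((fun χ : IrrCharacter B => pRegularPart p (χ : B → ℂ)) '' c)).map Φ := by
    rw [Submodule.map_span]
    refine Submodule.span_mono ?_
    rintro _ ⟨χ, hχ, rfl⟩
    obtain ⟨η, hη, rfl⟩ := hI.2.2 hχ
    exact ⟨_, ⟨η, hη, rfl⟩, hmap η hη⟩
  unfold blockRank
  exact (Submodule.finrank_mono hle).trans (Submodule.finrank_map_le _ _)

end H23.PSolv
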