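import Cfsg.Agent.H23.PSolv.Compose
import Cfsg.Agent.H23.PSolv.IsoTools
import Cfsg.Agent.H13.Induced

/-!
The perfect isometry between the characters over `θ` and the characters over its Glauberman
correspondent.
-/

set_option autoImplicit false
set_option linter.unusedSectionVars false
set_option linter.style.haveILetI false

open Cfsg H87.McKay
open scoped ComplexConjugate

namespace H23.PSolv

universe u

attribute [local instance high] Fintype.ofFinite
attribute [local instance 11000] instFintypeProd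

/-- Conjugation invariance of a character extended by zero. -/
theorem cf_conj_self {X : Type*} [Group X] [Finite X] {D : Subgroup X} (χ : IrrCharacter D) {d : X}
    (hd : d ∈ D) (w : X) : cf (χ : D → ℂ) (d * w * d⁻¹) = cf (χ : D → ℂ) w := by
  by_cases hw : w ∈ D
  · exact (le_st χ hd).2 w hw
  · have hw' : d * w * d⁻¹ ∉ D := fun h => hw (by
      have := mul_mem (mul_mem (inv_mem hd) h) hd
      rwa [← mul_assoc, inv_mul_cancel_right, inv_mul_cancel_left] at this)
    rw [cf, H12.extendByZero_of_notMem _ _ hw, H12.extendByZero_of_notMem _ _ hw']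

theorem cf_of_notMem {X : Type*} [Group X] {D : Subgroup X} (f : D → ℂ) {w : X} (hw : w ∉ D) :
    cf f w = 0 := H12.extendByZero_of_notMem D f hw

theorem memRing_cf {X : Type*} [Group X] [Finite X] {M : Ideal AlgInt} [M.IsPrime] {D : Subgroup X}
    (χ : IrrCharacter D) (w : X) : MemLocalRing M (cf (χ : D → ℂ) w) := by
  by_cases hw : w ∈ D
  · rw [cf_apply _ hw]; exact H20.memRing_irr χ _
  · rw [cf_of_notMem _ hw]; exact H20.memRing_of_isIntegral isIntegral_zero

variable {G : Type u} [Group G] [Finite G] {M : Ideal AlgInt} [hMp : M.IsPrime] {p : ℕ}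
  [hp : Fact p.Prime]

theorem isPRegular_iff_of_mem_dia (K N : Subgroup G) [K.Normal] (hK : ¬ p ∣ Nat.card K) {t n : G}
    (h : (t, n) ∈ dia K N) : IsPRegular p t ↔ IsPRegular p n := by
  have key : ∀ g : G, p ∣ orderOf g ↔ p ∣ orderOf (g : G ⧸ K) := by
    intro g
    refine ⟨fun hd => ?_, fun hd => hd.trans (orderOf_map_dvd (QuotientGroup.mk' K) g)⟩
    set o := orderOf (g : G ⧸ K)
    have hgo : g ^ o ∈ K := by
      rw [← QuotientGroup.eq_one_iff, QuotientGroup.mk_pow, pow_orderOf_eq_one]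
    have h1 : orderOf g ∣ o * Nat.card K := orderOf_dvd_of_pow_eq_one (by
      rw [pow_mul]
      exact congrArg Subtype.val (pow_card_eq_one' (x := (⟨g ^ o, hgo⟩ : K))))
    exact (hp.out.dvd_mul.1 (hd.trans h1)).resolve_right hK
  have hq : (t : G ⧸ K) = n := by
    rw [← div_eq_one, ← QuotientGroup.mk_div, div_eq_mul_inv, QuotientGroup.eq_one_iff]
    exact h.2
  rw [IsPRegular, IsPRegular, key t, key n, hq]

set_option maxHeartbeats 1000000 in
theorem exists_isometry (hM : IsPModular p M) {K T P C : Subgroup G} [hKn : K.Normal]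
    (hK : ¬ p ∣ Nat.card K) (hP : IsPGroup p P) (hab : ∀ a ∈ P, ∀ b ∈ P, a * b = b * a)
    (θ : IrrCharacter K) (hT : T = st (θ : K → ℂ)) (hPT : P ≤ T)
    (hfr : ∀ t ∈ T, ∃ n ∈ T ⊓ Subgroup.normalizer (P : Set G), t * n⁻¹ ∈ K)
    (hC : C = K ⊓ Subgroup.centralizer (P : Set G)) (β : IrrCharacter C)
    (hβ : GCor p (θ : K → ℂ) (β : C → ℂ)) (hCN : C ≤ Subgroup.normalizer (P : Set G))
    {B : Set (IrrCharacter G)}
    (hB : ∀ χ : IrrCharacter G, χ ∈ B ↔ classInner (fun k : K => (χ : G → ℂ) k) (θ : K → ℂ) ≠ 0)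
    {c : Set (IrrCharacter (Subgroup.normalizer (P : Set G)))}
    (hc : ∀ η : IrrCharacter (Subgroup.normalizer (P : Set G)), η ∈ c ↔
      classInner (fun x : C.subgroupOf (Subgroup.normalizer (P : Set G)) =>
        (η : Subgroup.normalizer (P : Set G) → ℂ) x)
        (lift hCN β : C.subgroupOf (Subgroup.normalizer (P : Set G)) → ℂ) ≠ 0) :
    ∃ I : IrrCharacter (Subgroup.normalizer (P : Set G)) → IrrCharacter G,
      Set.BijOn I c B ∧ IsPerfectFun p M (signedBijectionKernel c I fun _ => 1) := by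
  classical
  set N : Subgroup G := T ⊓ (Subgroup.normalizer (P : Set G)) with hN
  have hCK : C ≤ K := hC ▸ inf_le_left
  have hKT : K ≤ T := hT ▸ le_st θ
  have hPθ : P ≤ st (θ : K → ℂ) := hT ▸ hPT
  have hnK : ∀ x : G, x ∈ Subgroup.normalizer (K : Set G) := fun x => by
    rw [Subgroup.normalizer_eq_top]; exact Subgroup.mem_top x
  have hNKn : N ≤ Subgroup.normalizer (K : Set G) := fun x _ => hnK x
  have hKN : ∀ n ∈ (Subgroup.normalizer (P : Set G)), n ∈ K → n ∈ C := by
    intro n hn hnK'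
    rw [hC]
    refine ⟨hnK', Subgroup.mem_centralizer_iff.2 fun x hx => ?_⟩
    have h1 : n * x * n⁻¹ * x⁻¹ ∈ P :=
      mul_mem ((Subgroup.mem_normalizer_iff.1 hn x).1 hx) (inv_mem hx)
    have h2 : n * x * n⁻¹ * x⁻¹ ∈ K := by
      rw [show n * x * n⁻¹ * x⁻¹ = n * (x * n⁻¹ * x⁻¹) by group]
      exact mul_mem hnK' (hKn.conj_mem _ (inv_mem hnK') x)
    have h3 : n * x * n⁻¹ * x⁻¹ = 1 := by
      obtain ⟨j, hj⟩ := hP ⟨_, h1⟩
      have hd1 := orderOf_dvd_of_pow_eq_one (congrArg Subtype.val hj : (n * x * n⁻¹ * x⁻¹) ^ p ^ j = 1)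
      have hd2 := orderOf_dvd_of_pow_eq_one
        (congrArg Subtype.val (pow_card_eq_one' (x := (⟨_, h2⟩ : K))) :
          (n * x * n⁻¹ * x⁻¹) ^ Nat.card K = 1)
      exact orderOf_eq_one_iff.1 (Nat.eq_one_of_dvd_coprimes
        (Nat.Coprime.pow_left _ ((hp.out.coprime_iff_not_dvd).2 hK)) hd1 hd2)
    exact (mul_inv_eq_iff_eq_mul.1 (mul_inv_eq_one.1 h3)).symm
  have hCN' : C ≤ N := le_inf (hCK.trans hKT) hCN
  -- the kernel character
  obtain ⟨Ψ, hΨ⟩ := exists_dExt_abelian hM hK _ P rfl hP hab hPθ C hC β hβ N inf_le_right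
    (hT ▸ inf_le_left) hCN'
  let φ : G × (Subgroup.normalizer (P : Set G)) →* G × G := (MonoidHom.id G).prodMap (Subgroup.normalizer (P : Set G)).subtype
  have hφ : Function.Injective φ := fun a b h => by
    have h' : (a.1, (a.2 : G)) = (b.1, (b.2 : G)) := h
    exact Prod.ext (congrArg (fun z : G × G => z.1) h') (Subtype.ext (congrArg (fun z : G × G => z.2) h'))
  let D : Subgroup (G × (Subgroup.normalizer (P : Set G))) := (dia K N).comap φ
  let ψ : D → ℂ := fun d => cf (Ψ : dia K N → ℂ) (φ d)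
  have hψc : IsCharacter D ψ := by
    have : ψ = (Ψ : dia K N → ℂ) ∘ ((φ.comp D.subtype).codRestrict (dia K N) fun d => d.2) :=
      funext fun d => cf_apply (Ψ : dia K N → ℂ) (g := φ d) d.2
    rw [this]
    exact H12.IsCharacter.comp (H12.isCharacter_irr Ψ) _
  have hext : ∀ w : G × (Subgroup.normalizer (P : Set G)), extendByZero D ψ w = cf (Ψ : dia K N → ℂ) (φ w) := fun w => by
    by_cases hw : w ∈ D
    · rw [H12.extendByZero_mk D ψ hw]
    · rw [H12.extendByZero_of_notMem D ψ hw, cf_of_notMem (Ψ : dia K N → ℂ) (w := φ w) hw]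
  have hcard : Nat.card D = Nat.card (dia K N) :=
    Nat.card_congr (Equiv.ofBijective ((φ.comp D.subtype).codRestrict (dia K N) fun d => d.2)
      ⟨fun a b h => Subtype.ext (hφ (congrArg Subtype.val h)),
        fun x => ⟨⟨((x : G × G).1, ⟨(x : G × G).2, x.2.1.1.2⟩), x.2⟩, Subtype.ext rfl⟩⟩)
  have hcardT : Nat.card (dia K N) = Nat.card T * Nat.card C := by
    let π : dia K N →* T := MonoidHom.mk' (fun x => ⟨(x : G × G).1, by
      have := mul_mem (hKT x.2.2) x.2.1.1.1
      rwa [inv_mul_cancel_right] at this⟩) fun a b => rfl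
    have hπ : Function.Surjective π := fun t => by
      obtain ⟨n, hn, hk⟩ := hfr t t.2
      exact ⟨⟨((t : G), n), (mem_dia hNKn).2 ⟨hn, hk⟩⟩, rfl⟩
    have hker : Nat.card π.ker = Nat.card C := by
      refine Nat.card_congr
        { toFun := fun x => ⟨(x.1 : G × G).2, hKN _ x.1.2.1.1.2 (by
            have h := x.1.2.2
            rw [show (x.1 : G × G).1 = 1 from congrArg Subtype.val x.2, one_mul] at h
            simpa using inv_mem h)⟩
          invFun := fun z => ⟨⟨(1, (z : G)), (mem_dia hNKn).2 ⟨hCN' z.2, by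
            rw [one_mul]; exact inv_mem (hCK z.2)⟩⟩, rfl⟩
          left_inv := fun x => Subtype.ext (Subtype.ext (Prod.ext
            (congrArg Subtype.val x.2 : (x.1 : G × G).1 = 1).symm rfl))
          right_inv := fun z => rfl }
    rw [← π.ker.card_mul_index, Subgroup.index_ker, MonoidHom.range_eq_top_of_surjective _ hπ,
      Subgroup.card_top, hker, mul_comm]
  -- the two-variable function
  let μ : G → (Subgroup.normalizer (P : Set G)) → ℂ := fun x y => indFun D ψ (x, y⁻¹)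
  have hμ : ∀ x y, μ x y = (Nat.card D : ℂ)⁻¹ *
      ∑ a : G, ∑ b : (Subgroup.normalizer (P : Set G)), cf (Ψ : dia K N → ℂ) (a⁻¹ * x * a, ((b⁻¹ * y⁻¹ * b : (Subgroup.normalizer (P : Set G))) : G)) := by
    intro x y
    show (Nat.card D : ℂ)⁻¹ * ∑ w : G × (Subgroup.normalizer (P : Set G)), extendByZero D ψ (w⁻¹ * (x, y⁻¹) * w) = _
    rw [Fintype.sum_prod_type]
    simp only [hext]
    rfl
  have hTidx : ((T.index : ℕ) : ℂ) = (Nat.card G : ℂ) / Nat.card T := by
    rw [eq_div_iff (Nat.cast_ne_zero.2 Nat.card_pos.ne'), ← Nat.cast_mul, mul_comm,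
      Subgroup.card_mul_index]
  let U : Subgroup (Subgroup.normalizer (P : Set G)) := N.subgroupOf (Subgroup.normalizer (P : Set G))
  have hUidx : ((U.index : ℕ) : ℂ) = (Nat.card (Subgroup.normalizer (P : Set G)) : ℂ) / Nat.card N := by
    rw [eq_div_iff (Nat.cast_ne_zero.2 Nat.card_pos.ne'), ← Nat.cast_mul, mul_comm,
      ← Nat.card_congr (Subgroup.subgroupOfEquivOfLe (inf_le_right : N ≤ (Subgroup.normalizer (P : Set G)))).toEquiv,
      Subgroup.card_mul_index]
  have hcardN : Nat.card T * Nat.card C = Nat.card K * Nat.card N := by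
    rw [← hcardT, ← Nat.card_prod]
    refine Nat.card_congr
      { toFun := fun x => (⟨(x : G × G).1 * ((x : G × G).2)⁻¹, x.2.2⟩, ⟨(x : G × G).2, x.2.1.1⟩)
        invFun := fun z => ⟨((z.1 : G) * z.2, (z.2 : G)), (mem_dia hNKn).2 ⟨z.2.2, by
          rw [mul_inv_cancel_right]; exact z.1.2⟩⟩
        left_inv := fun x => Subtype.ext (Prod.ext (inv_mul_cancel_right _ _) rfl)
        right_inv := fun z => Prod.ext (Subtype.ext (mul_inv_cancel_right _ _)) rfl }
  -- the marginals
  set CN : Subgroup (Subgroup.normalizer (P : Set G)) := C.subgroupOf (Subgroup.normalizer (P : Set G))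
  haveI hCNn : CN.Normal := normal_of_le (fun x hx =>
    hC ▸ mem_normalizer_inf_centralizer (hnK x) hx)
  set β' : IrrCharacter CN := lift hCN β
  have hm1 : ∀ x, μ x 1 = (U.index : ℂ) * (β' : CN → ℂ) 1 * indFun K (θ : K → ℂ) x := by
    intro x
    rw [hμ, hcard, hcardT, hcardN, hUidx]
    have hb : ∀ a : G, ∀ b : (Subgroup.normalizer (P : Set G)), cf (Ψ : dia K N → ℂ) (a⁻¹ * x * a, ((b⁻¹ * (1 : (Subgroup.normalizer (P : Set G)))⁻¹ * b : (Subgroup.normalizer (P : Set G))) : G)) =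
        cf (θ : K → ℂ) (a⁻¹ * x * a) * (β' : CN → ℂ) 1 := by
      intro a b
      rw [inv_one, mul_one, inv_mul_cancel, Subgroup.coe_one]
      by_cases hz : a⁻¹ * x * a ∈ K
      · rw [hΨ _ hz _ C.one_mem, lift_apply, cf_apply _ C.one_mem,
          show (⟨1, C.one_mem⟩ : C) = 1 from rfl, H12.irr_apply_one, Complex.conj_natCast,
          ← H12.irr_apply_one]
        congr 1
        exact (cf_apply _ C.one_mem).symm
      · rw [cf_of_notMem _ hz, zero_mul, cf_of_notMem]
        exact fun h => hz (by simpa using h.2)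
    simp only [hb, Finset.sum_const, Finset.card_univ, ← Nat.card_eq_fintype_card, nsmul_eq_mul]
    rw [← Finset.mul_sum, ← Finset.sum_mul]
    show _ = _ * ((Nat.card K : ℂ)⁻¹ * ∑ a : G, cf (θ : K → ℂ) (a⁻¹ * x * a))
    have : (Nat.card K : ℂ) ≠ 0 := Nat.cast_ne_zero.2 Nat.card_pos.ne'
    have : (Nat.card N : ℂ) ≠ 0 := Nat.cast_ne_zero.2 Nat.card_pos.ne'
    push_cast
    field_simp
  have hm2 : ∀ y, μ 1 y = (T.index : ℂ) * (θ : K → ℂ) 1 * indFun CN (β' : CN → ℂ) y := by
    intro y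
    rw [hμ, hcard, hcardT, hTidx]
    have hb : ∀ a : G, ∀ b : (Subgroup.normalizer (P : Set G)), cf (Ψ : dia K N → ℂ) (a⁻¹ * 1 * a, ((b⁻¹ * y⁻¹ * b : (Subgroup.normalizer (P : Set G))) : G)) =
        (θ : K → ℂ) 1 * extendByZero CN (β' : CN → ℂ) (b⁻¹ * y * b) := by
      intro a b
      rw [mul_one, inv_mul_cancel]
      by_cases hz : b⁻¹ * y * b ∈ CN
      · have hinv : (b⁻¹ * y⁻¹ * b : (Subgroup.normalizer (P : Set G))) = (b⁻¹ * y * b)⁻¹ := by group
        have hz' : ((b⁻¹ * y * b : (Subgroup.normalizer (P : Set G))) : G) ∈ C := hz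
        rw [H12.extendByZero_mk _ _ hz, lift_apply, hinv, Subgroup.coe_inv,
          hΨ _ K.one_mem _ (inv_mem hz'), cf_apply _ K.one_mem, cf_apply _ (inv_mem hz'),
          show (⟨_, inv_mem hz'⟩ : C) = (⟨_, hz'⟩ : C)⁻¹ from rfl, H12.irr_inv, Complex.conj_conj,
          cf_apply _ hz']
        rfl
      · rw [H12.extendByZero_of_notMem _ _ hz, mul_zero, cf_of_notMem]
        intro h
        refine hz ?_
        have h2 : ((b⁻¹ * y⁻¹ * b : (Subgroup.normalizer (P : Set G))) : G)⁻¹ ∈ C :=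
          hKN _ (inv_mem (b⁻¹ * y⁻¹ * b).2) (by simpa using h.2)
        rw [← Subgroup.coe_inv, show (b⁻¹ * y⁻¹ * b : (Subgroup.normalizer (P : Set G)))⁻¹ = b⁻¹ * y * b by group] at h2
        exact h2
    simp only [hb, Finset.sum_const, Finset.card_univ, ← Nat.card_eq_fintype_card, nsmul_eq_mul]
    rw [← Finset.mul_sum]
    show _ = _ * ((Nat.card CN : ℂ)⁻¹ * ∑ b : (Subgroup.normalizer (P : Set G)), extendByZero CN (β' : CN → ℂ) (b⁻¹ * y * b))
    rw [Nat.card_congr (Subgroup.subgroupOfEquivOfLe hCN).toEquiv]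
    have : (Nat.card T : ℂ) ≠ 0 := Nat.cast_ne_zero.2 Nat.card_pos.ne'
    have : (Nat.card C : ℂ) ≠ 0 := Nat.cast_ne_zero.2 Nat.card_pos.ne'
    push_cast
    field_simp
  -- degrees
  have hex : ∀ χ : IrrCharacter G, ∃ e : ℕ,
      classInner (fun k : K => (χ : G → ℂ) k) (θ : K → ℂ) = e := fun χ =>
    H12.IsCharacter.classInner_nat (H12.IsCharacter.res (H12.isCharacter_irr χ) K)
      (H12.isCharacter_irr θ)
  choose e he using hex
  have hfx : ∀ η : IrrCharacter (Subgroup.normalizer (P : Set G)), ∃ f : ℕ,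
      classInner (fun x : CN => (η : (Subgroup.normalizer (P : Set G)) → ℂ) x) (β' : CN → ℂ) = f := fun η =>
    H12.IsCharacter.classInner_nat (H12.IsCharacter.res (H12.isCharacter_irr η) CN)
      (H12.isCharacter_irr β')
  choose f hf using hfx
  have heB : ∀ χ, χ ∈ B ↔ e χ ≠ 0 := fun χ => by rw [hB, he, Nat.cast_ne_zero]
  have hfc : ∀ η, η ∈ c ↔ f η ≠ 0 := fun η => by rw [hc, hf, Nat.cast_ne_zero]
  have hdegG : ∀ χ, e χ ≠ 0 → (χ : G → ℂ) 1 = (T.index : ℂ) * (e χ : ℂ) * (θ : K → ℂ) 1 := fun χ h =>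
    degree_over K θ T (fun a => by
      rw [hT]
      constructor
      · intro ha
        funext k
        rw [H13.twist_apply, ← cf_apply (θ : K → ℂ) (hKn.conj_mem k k.2 a), ha.2 k k.2, cf_coe]
      · intro ha
        refine ⟨hnK a, fun k hk => ?_⟩
        rw [cf_apply _ (hKn.conj_mem k hk a), cf_apply _ hk]
        exact congrFun ha ⟨k, hk⟩) χ (he χ) h
  have hdegN : ∀ η, f η ≠ 0 →
      (η : (Subgroup.normalizer (P : Set G)) → ℂ) 1 = (U.index : ℂ) * (f η : ℂ) * (β' : CN → ℂ) 1 := fun η h =>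
    degree_over CN β' U (fun a => by
      have hiff := sg_st_iff (S := P) (fun x _ => hnK x) hC hP hK hPθ hβ (hnK a) a.2
      have hUa : a ∈ U ↔ (a : G) ∈ st (β : C → ℂ) := by
        rw [← hiff, ← hT]
        exact ⟨fun ha => ha.1, fun ha => ⟨ha, a.2⟩⟩
      rw [hUa]
      constructor
      · intro ha
        funext z
        rw [H13.twist_apply, lift_apply, lift_apply]
        exact ha.2 _ z.2
      · intro ha
        refine ⟨hC ▸ mem_normalizer_inf_centralizer (hnK a) a.2, fun z hz => ?_⟩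
        have := congrFun ha ⟨⟨z, hCN hz⟩, hz⟩
        rw [H13.twist_apply, lift_apply, lift_apply] at this
        exact this) η (hf η) h
  -- the multiplicities
  obtain ⟨m0, hm0⟩ := H12.IsCharacter.exists_mult (H13.isCharacter_indFun D hψc)
  let pr : IrrCharacter G × IrrCharacter (Subgroup.normalizer (P : Set G)) → IrrCharacter (G × (Subgroup.normalizer (P : Set G))) := fun w =>
    ⟨fun x => (w.1 : G → ℂ) x.1 * (w.2 : (Subgroup.normalizer (P : Set G)) → ℂ) x.2, H13.isIrrCharacter_prod w.1.2 w.2.2⟩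
  have hpr : Function.Bijective pr := by
    refine ⟨fun w w' h => ?_, fun ω => ?_⟩
    · have h1 := H12.classInner_irr_self (pr w)
      nth_rw 2 [h] at h1
      simp only [pr, H13.classInner_prod, H12.classInner_irr] at h1
      refine Prod.ext ?_ ?_
      · by_contra hne; simp [hne] at h1
      · by_contra hne; simp [hne] at h1
    · obtain ⟨a, b, ha, hb, hab'⟩ := H13.exists_prod_eq_irr ω.2
      exact ⟨(⟨a, ha⟩, ⟨b, hb⟩), Subtype.ext hab'.symm⟩
  let m : IrrCharacter G → IrrCharacter (Subgroup.normalizer (P : Set G)) → ℕ := fun χ η => m0 (pr (χ, H12.conjIrr η))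
  have hμm : ∀ x y, μ x y = ∑ χ, ∑ η, (m χ η : ℂ) * (χ : G → ℂ) x * (η : (Subgroup.normalizer (P : Set G)) → ℂ) y := by
    intro x y
    show indFun D ψ (x, y⁻¹) = _
    rw [hm0, Finset.sum_apply, ← Fintype.sum_equiv (Equiv.ofBijective pr hpr)
      (fun w => ((m0 (pr w) : ℂ) • (pr w : G × (Subgroup.normalizer (P : Set G)) → ℂ)) (x, y⁻¹)) _ fun w => rfl,
      Fintype.sum_prod_type]
    refine Finset.sum_congr rfl fun χ _ => ?_
    refine Fintype.sum_equiv (Function.Involutive.toPerm H12.conjIrr H12.conjIrr_conjIrr) _ _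
      fun η => ?_
    show (m0 (pr (χ, η)) : ℂ) * ((χ : G → ℂ) x * (η : (Subgroup.normalizer (P : Set G)) → ℂ) y⁻¹) =
      (m0 (pr (χ, H12.conjIrr (H12.conjIrr η))) : ℂ) * (χ : G → ℂ) x * (H12.conjIrr η : (Subgroup.normalizer (P : Set G)) → ℂ) y
    rw [H12.conjIrr_conjIrr, H12.irr_inv, H12.conjIrr_apply]
    ring
  have hclassInd : ∀ χ : IrrCharacter G,
      classInner (indFun K (θ : K → ℂ)) (χ : G → ℂ) = e χ := fun χ => by
    rw [H13.classInner_indFun_left K _ (H12.irr_isClassFunction χ), ← H12.conj_classInner, he,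
      Complex.conj_natCast]
  have hclassIndN : ∀ η : IrrCharacter (Subgroup.normalizer (P : Set G)),
      classInner (indFun CN (β' : CN → ℂ)) (η : (Subgroup.normalizer (P : Set G)) → ℂ) = f η := fun η => by
    rw [H13.classInner_indFun_left CN _ (H12.irr_isClassFunction η), ← H12.conj_classInner, hf,
      Complex.conj_natCast]
  -- the row and column sums
  have hrow : ∀ χ, ∑ η, (m χ η : ℂ) * (η : (Subgroup.normalizer (P : Set G)) → ℂ) 1 = (U.index : ℂ) * (β' : CN → ℂ) 1 * e χ := by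
    intro χ
    have h : (∑ χ', (∑ η, (m χ' η : ℂ) * (η : (Subgroup.normalizer (P : Set G)) → ℂ) 1) • (χ' : G → ℂ)) =
        ((U.index : ℂ) * (β' : CN → ℂ) 1) • indFun K (θ : K → ℂ) := by
      funext x
      rw [Finset.sum_apply, Pi.smul_apply, smul_eq_mul, ← hm1, hμm]
      refine Finset.sum_congr rfl fun χ' _ => ?_
      rw [Pi.smul_apply, smul_eq_mul, Finset.sum_mul]
      exact Finset.sum_congr rfl fun η _ => by ring
    have h' := congrArg (fun F => classInner F (χ : G → ℂ)) h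
    rwa [H12.classInner_sum_smul_irr, H12.classInner_smul_left, hclassInd] at h'
  have hcol : ∀ η, ∑ χ, (m χ η : ℂ) * (χ : G → ℂ) 1 = (T.index : ℂ) * (θ : K → ℂ) 1 * f η := by
    intro η
    have h : (∑ η', (∑ χ, (m χ η' : ℂ) * (χ : G → ℂ) 1) • (η' : (Subgroup.normalizer (P : Set G)) → ℂ)) =
        ((T.index : ℂ) * (θ : K → ℂ) 1) • indFun CN (β' : CN → ℂ) := by
      funext y
      rw [Finset.sum_apply, Pi.smul_apply, smul_eq_mul, ← hm2, hμm, Finset.sum_comm]
      refine Finset.sum_congr rfl fun η' _ => ?_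
      rw [Pi.smul_apply, smul_eq_mul, Finset.sum_mul]
    have h' := congrArg (fun F => classInner F (η : (Subgroup.normalizer (P : Set G)) → ℂ)) h
    rwa [H12.classInner_sum_smul_irr, H12.classInner_smul_left, hclassIndN] at h'
  have hm0e : ∀ χ η, m χ η ≠ 0 → e χ ≠ 0 := by
    intro χ η hne h0
    have h := hrow χ
    simp only [h0, Nat.cast_zero, mul_zero, H12.irr_apply_one, ← Nat.cast_mul, ← Nat.cast_sum,
      Nat.cast_eq_zero] at h
    exact hne ((Nat.mul_eq_zero.1 ((Finset.sum_eq_zero_iff.1 h) η (Finset.mem_univ η))).resolve_right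
      (H12.irr_degree_pos η).ne')
  have hm0f : ∀ χ η, m χ η ≠ 0 → f η ≠ 0 := by
    intro χ η hne h0
    have h := hcol η
    simp only [h0, Nat.cast_zero, mul_zero, H12.irr_apply_one, ← Nat.cast_mul, ← Nat.cast_sum,
      Nat.cast_eq_zero] at h
    exact hne ((Nat.mul_eq_zero.1 ((Finset.sum_eq_zero_iff.1 h) χ (Finset.mem_univ χ))).resolve_right
      (H12.irr_degree_pos χ).ne')
  have hMf : ∀ χ, ∑ η, m χ η * f η = e χ := by
    intro χ
    have hne : (U.index : ℂ) * (β' : CN → ℂ) 1 ≠ 0 :=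
      mul_ne_zero (Nat.cast_ne_zero.2 Subgroup.index_ne_zero_of_finite) (H12.irr_apply_one_ne_zero β')
    have h : ((∑ η, m χ η * f η : ℕ) : ℂ) * ((U.index : ℂ) * (β' : CN → ℂ) 1) =
        (e χ : ℂ) * ((U.index : ℂ) * (β' : CN → ℂ) 1) := by
      rw [mul_comm (e χ : ℂ), ← hrow, Nat.cast_sum, Finset.sum_mul]
      refine Finset.sum_congr rfl fun η _ => ?_
      rw [Nat.cast_mul]
      rcases eq_or_ne (m χ η) 0 with h0 | h0
      · rw [h0, Nat.cast_zero, zero_mul, zero_mul, zero_mul]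
      · rw [hdegN η (hm0f χ η h0)]; ring
    exact_mod_cast mul_right_cancel₀ hne h
  have hMe : ∀ η, ∑ χ, m χ η * e χ = f η := by
    intro η
    have hne : (T.index : ℂ) * (θ : K → ℂ) 1 ≠ 0 :=
      mul_ne_zero (Nat.cast_ne_zero.2 Subgroup.index_ne_zero_of_finite) (H12.irr_apply_one_ne_zero θ)
    have h : ((∑ χ, m χ η * e χ : ℕ) : ℂ) * ((T.index : ℂ) * (θ : K → ℂ) 1) =
        (f η : ℂ) * ((T.index : ℂ) * (θ : K → ℂ) 1) := by
      rw [mul_comm (f η : ℂ), ← hcol, Nat.cast_sum, Finset.sum_mul]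
      refine Finset.sum_congr rfl fun χ _ => ?_
      rw [Nat.cast_mul]
      rcases eq_or_ne (m χ η) 0 with h0 | h0
      · rw [h0, Nat.cast_zero, zero_mul, zero_mul, zero_mul]
      · rw [hdegG χ (hm0e χ η h0)]; ring
    exact_mod_cast mul_right_cancel₀ hne h
  -- the bijection
  have hcolu : ∀ η, f η ≠ 0 → ∃ χ, e χ ≠ 0 ∧ m χ η = 1 ∧ ∀ χ', χ' ≠ χ → m χ' η = 0 := fun η h =>
    row_unique (fun η χ => m χ η) f e hMe hMf h
  have hrowu : ∀ χ, e χ ≠ 0 → ∃ η, f η ≠ 0 ∧ m χ η = 1 ∧ ∀ η', η' ≠ η → m χ η' = 0 := fun χ h =>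
    row_unique m e f hMf hMe h
  obtain ⟨χ0⟩ : Nonempty (IrrCharacter G) := ⟨⟨fun _ => 1, H12.isIrrCharacter_one⟩⟩
  let I : IrrCharacter (Subgroup.normalizer (P : Set G)) → IrrCharacter G := fun η =>
    if h : f η ≠ 0 then (hcolu η h).choose else χ0
  have hI : ∀ η, f η ≠ 0 → e (I η) ≠ 0 ∧ m (I η) η = 1 ∧ ∀ χ', χ' ≠ I η → m χ' η = 0 := fun η h => by
    simp only [I, dif_pos h]
    exact (hcolu η h).choose_spec
  have hbij : Set.BijOn I c B := by
    refine ⟨fun η hη => (heB _).2 (hI η ((hfc η).1 hη)).1, fun η hη η' hη' h => ?_, fun χ hχ => ?_⟩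
    · by_contra hne
      obtain ⟨η0, -, -, hu⟩ := hrowu (I η) (hI η ((hfc η).1 hη)).1
      have h1 := (hI η ((hfc η).1 hη)).2.1
      have h2 := (hI η' ((hfc η').1 hη')).2.1
      rw [← h] at h2
      have e1 : η = η0 := by_contra fun hc' => by rw [hu η hc'] at h1; exact absurd h1 (by norm_num)
      have e2 : η' = η0 := by_contra fun hc' => by rw [hu η' hc'] at h2; exact absurd h2 (by norm_num)
      exact hne (e1.trans e2.symm)
    · obtain ⟨η, hη, h1, -⟩ := hrowu χ ((heB χ).1 hχ)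
      refine ⟨η, (hfc η).2 hη, by_contra fun hne => ?_⟩
      rw [(hI η hη).2.2 χ (Ne.symm hne)] at h1
      exact absurd h1 (by norm_num)
  have hker : ∀ x y, μ x y = ∑ᶠ η ∈ c, (I η : G → ℂ) x * (η : (Subgroup.normalizer (P : Set G)) → ℂ) y := by
    intro x y
    rw [hμm, Finset.sum_comm, finsum_mem_eq_finite_toFinset_sum _ c.toFinite,
      ← Finset.sum_subset (Finset.subset_univ c.toFinite.toFinset)]
    · refine Finset.sum_congr rfl fun η hη => ?_
      have h := hI η ((hfc η).1 (c.toFinite.mem_toFinset.1 hη))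
      rw [Finset.sum_eq_single (I η) (fun χ _ hne => by
        rw [h.2.2 χ hne, Nat.cast_zero, zero_mul, zero_mul])
        (fun h' => absurd (Finset.mem_univ _) h'), h.2.1, Nat.cast_one, one_mul]
    · intro η _ hη
      refine Finset.sum_eq_zero fun χ _ => ?_
      have : m χ η = 0 := by_contra fun h => hη (c.toFinite.mem_toFinset.2 ((hfc η).2 (hm0f χ η h)))
      rw [this, Nat.cast_zero, zero_mul, zero_mul]
  -- separation
  have hsep : ∀ x y, μ x y ≠ 0 → (IsPRegular p x ↔ IsPRegular p y) := by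
    intro x y hne
    rw [hμ] at hne
    obtain ⟨a, -, ha⟩ := Finset.exists_ne_zero_of_sum_ne_zero (right_ne_zero_of_mul hne)
    obtain ⟨b, -, hb⟩ := Finset.exists_ne_zero_of_sum_ne_zero ha
    have hmem : (a⁻¹ * x * a, ((b⁻¹ * y⁻¹ * b : (Subgroup.normalizer (P : Set G))) : G)) ∈ dia K N :=
      by_contra fun h => hb (cf_of_notMem _ h)
    have h := isPRegular_iff_of_mem_dia (p := p) K N hK hmem
    have e1 : orderOf (a⁻¹ * x * a) = orderOf x := by
      have := orderOf_injective (MulAut.conj a⁻¹).toMonoidHom (MulAut.conj a⁻¹).injective x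
      simpa using this
    have e2 : orderOf (((b⁻¹ * y⁻¹ * b : (Subgroup.normalizer (P : Set G))) : G)) = orderOf y := by
      rw [Subgroup.orderOf_coe]
      have := orderOf_injective (MulAut.conj b⁻¹).toMonoidHom (MulAut.conj b⁻¹).injective y⁻¹
      simpa using this
    rw [IsPRegular, IsPRegular, e1, e2] at h
    exact h
  have hk : ∀ x y, signedBijectionKernel c I (fun _ => 1) x y = μ x y := fun x y => by
    rw [hker]
    exact finsum_mem_congr rfl fun η _ => by rw [Int.cast_one, one_mul]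
  refine ⟨I, hbij, fun x y => ⟨?_, ?_, ?_⟩⟩
  · rw [hk, hμ]
    let lA : D →* G := (MonoidHom.fst G (Subgroup.normalizer (P : Set G))).comp D.subtype
    let lB : D →* (Subgroup.normalizer (P : Set G)) := (MonoidHom.snd G (Subgroup.normalizer (P : Set G))).comp D.subtype
    have hkB : ¬ p ∣ Nat.card lB.ker := fun hd => hK (hd.trans (Subgroup.card_dvd_of_injective
      (MonoidHom.mk' (fun d : lB.ker => (⟨lA d.1, by
        have h := d.1.2.2
        rw [show (φ (d.1 : G × (Subgroup.normalizer (P : Set G)))).2 = 1 from congrArg Subtype.val d.2, inv_one, mul_one] at h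
        exact h⟩ : K)) fun a b => Subtype.ext (map_mul lA _ _))
      fun a b h => Subtype.ext (Subtype.ext (Prod.ext (congrArg Subtype.val h)
        ((a.2 : lB a.1 = 1).trans (b.2 : lB b.1 = 1).symm)))))
    have h := memRing_two hM lA lB hkB (fun a b => cf (Ψ : dia K N → ℂ) (a, (b : G)))
      (fun d a b => cf_conj_self Ψ d.2 (a, (b : G)))
      (fun a b => memRing_cf Ψ _) x y⁻¹
    convert h using 1
    congr 2
    refine Fintype.sum_equiv (Equiv.inv G) _ _ fun a => ?_
    refine Fintype.sum_equiv (Equiv.inv (Subgroup.normalizer (P : Set G))) _ _ fun b => ?_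
    simp [inv_inv]
  · rw [hk, hμ]
    let lA : D →* G := (MonoidHom.fst G (Subgroup.normalizer (P : Set G))).comp D.subtype
    let lB : D →* (Subgroup.normalizer (P : Set G)) := (MonoidHom.snd G (Subgroup.normalizer (P : Set G))).comp D.subtype
    have hkA : ¬ p ∣ Nat.card lA.ker := fun hd => hK ((hd.trans (Subgroup.card_dvd_of_injective
      (MonoidHom.mk' (fun d : lA.ker => (⟨(lB d.1 : G), hKN _ (lB d.1).2 (by
        have h := d.1.2.2
        rw [show (φ (d.1 : G × (Subgroup.normalizer (P : Set G)))).1 = 1 from d.2, one_mul] at h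
        simpa [φ, lB] using h)⟩ : C)) fun a b => Subtype.ext rfl)
      fun a b h => Subtype.ext (Subtype.ext (Prod.ext ((a.2 : lA a.1 = 1).trans (b.2 : lA b.1 = 1).symm)
        (Subtype.ext (congrArg (fun z : C => (z : G)) h)))))).trans (Subgroup.card_dvd_of_le hCK))
    have h := memRing_two hM lB lA hkA (fun b a => cf (Ψ : dia K N → ℂ) (a, (b : G)))
      (fun d b a => cf_conj_self Ψ d.2 (a, (b : G)))
      (fun b a => memRing_cf Ψ _) y⁻¹ x
    convert h using 1
    rw [Finset.sum_comm]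
    congr 1
    · congr 1
      refine Fintype.sum_equiv (Equiv.inv (Subgroup.normalizer (P : Set G))) _ _ fun b => ?_
      refine Fintype.sum_equiv (Equiv.inv G) _ _ fun a => ?_
      simp [inv_inv]
    · rw [show Subgroup.centralizer ({y} : Set (Subgroup.normalizer (P : Set G))) =
          Subgroup.centralizer ({y⁻¹} : Set (Subgroup.normalizer (P : Set G))) from Subgroup.ext fun z => by
        simp only [Subgroup.mem_centralizer_singleton_iff]
        exact ⟨fun hz => (Commute.inv_right (a := z) (b := y) hz), fun hz => by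
          simpa [Commute, SemiconjBy] using Commute.inv_right (a := z) (b := y⁻¹) hz⟩]
  · by_cases h : μ x y = 0
    · exact Or.inr (by rw [hk, h])
    · exact Or.inl (hsep x y h)

end H23.PSolv
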