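import Cfsg.Agent.H20.CoprimeUnits
import Cfsg.Agent.H20.CharacterTwisted
import Cfsg.Agent.H12.Integral

/-!
Residual representations of a group of order prime to `p`: one for each irreducible character, of
the same degree, with the reduced values as traces, unique up to conjugation; every absolutely
irreducible residual representation is one of them.
-/

set_option autoImplicit false
set_option linter.unusedSectionVars false
set_option linter.style.haveILetI false

open Cfsg
open scoped ComplexConjugate Matrix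

namespace H23.PSolv

universe u

variable {M : Ideal AlgInt} [hMp : M.IsPrime] {p : ℕ} [hp : Fact p.Prime]
variable {A : Type u} [Group A] [Fintype A]

/-- A residual representation attached to a character. -/
structure IsKRep (M : Ideal AlgInt) [M.IsPrime] (θ : A → ℂ) {n : ℕ}
    (Φ : A →* Matrix (Fin n) (Fin n) (H20.k M)) : Prop where
  span : Submodule.span (H20.k M) (Set.range Φ) = ⊤
  trace : ∀ a, (Φ a).trace = H20.redC M (θ a)

/-- The reduction of the unramified local ring. -/
noncomputable def uRed (M : Ideal AlgInt) [M.IsPrime] (p : ℕ) : H20.Ou M p →+* H20.k M :=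
  (H20.red M).comp H20.ouIncl

theorem uRed_apply (x : H20.Ou M p) : uRed M p x = H20.redC M (x : ℂ) := by
  rw [H20.redC_of_mem (H20.Ou_le_O x.2)]
  rfl

theorem uRed_isRed (hM : IsPModular p M) : H20.Stable.IsRed (uRed M p) p where
  prime := hM.1
  surj x := by
    obtain ⟨q, hq⟩ := (H20.kUHom_bijective hM).2 x
    obtain ⟨a, rfl⟩ := Ideal.Quotient.mk_surjective q
    exact ⟨a, by rw [← hq]; rfl⟩
  eq_zero x := by
    rw [uRed, RingHom.comp_apply, H20.red_eq_zero_iff]
    exact (H20.p_dvd_iff hM x).symm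
  isUnit x hx := H20.ou_isUnit hM fun hd => hx (by
    rw [uRed, RingHom.comp_apply, H20.red_eq_zero_iff]
    exact (H20.p_dvd_iff hM x).1 hd)

section

variable (hM : IsPModular p M) (hA : ¬ p ∣ Nat.card A)
include hM hA

theorem val_mem_Ou (χ : IrrCharacter A) (g : A) : (χ : A → ℂ) g ∈ H20.Ou M p := by
  obtain ⟨m, ρ, -, hρ⟩ := χ.2
  obtain ⟨μ, h1, h2, -⟩ := H12.exists_char_eigenvalues ρ g
  have hg : (χ : A → ℂ) g = ∑ i, μ i := by rw [← hρ]; simpa using h2 1
  rw [hg]
  exact Subring.sum_mem _ fun i _ => H20.Rr_le_Ou (H20.mem_Rr_of_pow_eq_one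
    (fun h => hA (h.trans (orderOf_dvd_natCard g))) (h1 i))

theorem card_inv_mem_Ou : ((Nat.card A : ℂ))⁻¹ ∈ H20.Ou M p := by
  refine H20.inv_mem_Ou (natCast_mem _ _) fun h => hA ?_
  have h2 := (H20.p_dvd_iff hM (Nat.card A : H20.Ou M p)).2 (by simpa using h)
  have h3 : uRed M p (Nat.card A : H20.Ou M p) = 0 := ((uRed_isRed hM).eq_zero _).2 h2
  rw [map_natCast] at h3
  by_contra hc
  exact (uRed_isRed hM).natCast_ne_zero hc h3

/-- The idempotent of a character over the unramified local ring. -/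
noncomputable def uIdem (χ : IrrCharacter A) : MonoidAlgebra (H20.Ou M p) A :=
  H20.ofFun fun g => ⟨(Nat.card A : ℂ)⁻¹ * ((χ : A → ℂ) 1 * (χ : A → ℂ) g⁻¹),
    mul_mem (card_inv_mem_Ou hM hA) (mul_mem (val_mem_Ou hM hA χ 1) (val_mem_Ou hM hA χ g⁻¹))⟩

/-- The idempotent of a character over the residue field. -/
noncomputable def kIdem (χ : IrrCharacter A) : MonoidAlgebra (H20.k M) A :=
  MonoidAlgebra.mapRingHom A (uRed M p) (uIdem hM hA χ)

theorem map_uIdem (χ : IrrCharacter A) :
    MonoidAlgebra.mapRingHom A (H20.Ou M p).subtype (uIdem hM hA χ) =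
      H20.eIdem ({χ} : Set (IrrCharacter A)) := by
  classical
  ext g
  rw [H20.coeff_mapRingHom, uIdem, H20.coeff_ofFun, H20.eIdem, H20.coeff_ofFun,
    H20.blockCoeff_eq_sum]
  simp [H12.irr_inv]

theorem sum_kIdem : ∑ χ : IrrCharacter A, kIdem hM hA χ = 1 := by
  classical
  have h0 : ∑ χ : IrrCharacter A, uIdem hM hA χ = 1 := by
    ext g
    rw [MonoidAlgebra.coeff_sum, Finsupp.finsetSum_apply]
    push_cast
    simp only [uIdem, H20.coeff_ofFun, ← Finset.mul_sum]
    rw [H12.regular_eq_sum]
    by_cases hg : g = 1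
    · subst hg
      simp [MonoidAlgebra.one_def]
    · rw [if_neg (fun h => hg (inv_eq_one.1 h))]
      simp [MonoidAlgebra.one_def, Ne.symm hg]
  simp only [kIdem, ← map_sum, h0, map_one]

theorem kIdem_isCl (χ : IrrCharacter A) : H20.IsCl (kIdem hM hA χ) := by
  have h : H20.IsCl (uIdem hM hA χ) := fun g h => by
    apply Subtype.ext
    have h1 := H20.isCl_eIdem ({χ} : Set (IrrCharacter A)) g h
    rw [← map_uIdem hM hA χ, H20.coeff_mapRingHom, H20.coeff_mapRingHom] at h1
    exact h1
  exact h.map _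

theorem kIdem_mul_self (χ : IrrCharacter A) : kIdem hM hA χ * kIdem hM hA χ = kIdem hM hA χ := by
  have h : uIdem hM hA χ * uIdem hM hA χ = uIdem hM hA χ := by
    have hinj : Function.Injective (MonoidAlgebra.mapRingHom A (H20.Ou M p).subtype) :=
      fun a b h => by
        ext g
        have := congrArg (fun z => z.coeff g) h
        simpa using this
    apply hinj
    rw [map_mul, map_uIdem, H20.eIdem_mul_self]
  rw [kIdem, ← map_mul, h]

theorem card_mul_coeff_kIdem (χ : IrrCharacter A) (g : A) :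
    (Nat.card A : H20.k M) * (kIdem hM hA χ).coeff g =
      (H12.degree (χ : A → ℂ) : H20.k M) * H20.redC M ((χ : A → ℂ) g⁻¹) := by
  have e : (Nat.card A : H20.Ou M p) * (uIdem hM hA χ).coeff g =
      (H12.degree (χ : A → ℂ) : H20.Ou M p) * ⟨_, val_mem_Ou hM hA χ g⁻¹⟩ := by
    apply Subtype.ext
    push_cast
    rw [uIdem, H20.coeff_ofFun, ← H12.irr_apply_one]
    field_simp
  have e2 := congrArg (uRed M p) e
  rw [map_mul, map_mul, map_natCast, map_natCast, uRed_apply ⟨_, val_mem_Ou hM hA χ g⁻¹⟩] at e2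
  rw [kIdem, H20.coeff_mapRingHom]
  exact e2

theorem natCast_degree_ne_zero (χ : IrrCharacter A) :
    ((H12.degree (χ : A → ℂ) : ℕ) : H20.k M) ≠ 0 :=
  (uRed_isRed hM).natCast_ne_zero fun h => hA (h.trans (H12.irr_degree_dvd_card χ))

end

/-- A symmetric functional on matrices is a multiple of the trace. -/
theorem symm_functional {K : Type*} [Field K] {n : ℕ} (f : Matrix (Fin n) (Fin n) K →ₗ[K] K)
    (hf : ∀ X Y, f (X * Y) = f (Y * X)) : ∃ c, ∀ X, f X = c * X.trace := by
  classical
  cases n with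
  | zero =>
    refine ⟨0, fun X => ?_⟩
    rw [show X = 0 from Subsingleton.elim _ _, map_zero, zero_mul]
  | succ n =>
    refine ⟨f (Matrix.single 0 0 1), fun X => ?_⟩
    have h : ∀ i j, f (Matrix.single i j 1) = if i = j then f (Matrix.single 0 0 1) else 0 := by
      intro i j
      have e := hf (Matrix.single i 0 1) (Matrix.single 0 j 1)
      rw [Matrix.single_mul_single_same, mul_one] at e
      rw [e]
      by_cases hij : i = j
      · subst hij
        rw [Matrix.single_mul_single_same, mul_one, if_pos rfl]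
      · rw [Matrix.single_mul_single_of_ne _ _ _ _ (Ne.symm hij), map_zero, if_neg hij]
    conv_lhs => rw [Matrix.matrix_eq_sum_single X]
    simp only [map_sum]
    rw [Matrix.trace, Finset.mul_sum]
    refine Finset.sum_congr rfl fun i _ => ?_
    rw [Finset.sum_eq_single i]
    · rw [show Matrix.single i i (X i i) = X i i • Matrix.single i i (1 : K) by
        rw [Matrix.smul_single, smul_eq_mul, mul_one], map_smul, h, if_pos rfl, smul_eq_mul,
        Matrix.diag_apply, mul_comm]
    · intro j _ hj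
      rw [show Matrix.single i j (X i j) = X i j • Matrix.single i j (1 : K) by
        rw [Matrix.smul_single, smul_eq_mul, mul_one], map_smul, h, if_neg (Ne.symm hj), smul_zero]
    · simp

section

variable (hM : IsPModular p M) (hA : ¬ p ∣ Nat.card A)
include hM hA

/-- The residual representation of a character, with its splitting. -/
theorem exists_split (χ : IrrCharacter A) :
    ∃ (s : Matrix (Fin (H12.degree (χ : A → ℂ))) (Fin (H12.degree (χ : A → ℂ))) (H20.k M)
        →ₗ[H20.k M] MonoidAlgebra (H20.k M) A)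
      (ψ : MonoidAlgebra (H20.k M) A →ₐ[H20.k M]
        Matrix (Fin (H12.degree (χ : A → ℂ))) (Fin (H12.degree (χ : A → ℂ))) (H20.k M)),
      (∀ X Y, s (X * Y) = s X * s Y) ∧ s 1 = kIdem hM hA χ ∧ (∀ X, ψ (s X) = X) ∧
      ∀ x, x * kIdem hM hA χ = s (ψ x) := by
  classical
  haveI := H20.ou_isDVR hM
  haveI := H23.isAlgClosed_k (M := M) hM.2.1
  have hr := uRed_isRed (M := M) hM
  have h := fun θ : IrrCharacter A => H20.exists_matrixUnits hr (H20.Ou M p).subtype
    Subtype.val_injective hA θ (uIdem hM hA θ) (map_uIdem hM hA θ)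
    (fun h => hA (h.trans (H12.irr_degree_dvd_card θ)))
  choose m s ψ hpos hle hmul hone hψs hker using h
  have hsum : Nat.card A ≤ ∑ θ, m θ * m θ := by
    let F : MonoidAlgebra (H20.k M) A →ₗ[H20.k M]
        ((θ : IrrCharacter A) → Matrix (Fin (m θ)) (Fin (m θ)) (H20.k M)) :=
      LinearMap.pi fun θ => (ψ θ).toLinearMap
    have hF : Function.Injective F := by
      intro a b hab
      have e : ∀ z : MonoidAlgebra (H20.k M) A, z = ∑ θ, s θ (ψ θ z) := by
        intro z
        conv_lhs => rw [← mul_one z, ← sum_kIdem hM hA, Finset.mul_sum]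
        exact Finset.sum_congr rfl fun θ _ => hker θ z
      rw [e a, e b]
      exact Finset.sum_congr rfl fun θ _ => congrArg (s θ) (congrFun hab θ)
    let E : (A → H20.k M) →ₗ[H20.k M] MonoidAlgebra (H20.k M) A :=
      { toFun := fun f => H20.ofFun f
        map_add' := fun f g => by ext a; simp
        map_smul' := fun c f => by ext a; simp }
    have hE : Function.Injective E := fun f g h => by
      funext a
      simpa [E] using congrArg (fun z => z.coeff a) h
    have hFE : Function.Injective (F ∘ₗ E) := fun a b h => hE (hF h)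
    have h1 := LinearMap.finrank_le_finrank_of_injective hFE
    rw [Module.finrank_fintype_fun_eq_card, Module.finrank_pi_fintype,
      ← Nat.card_eq_fintype_card] at h1
    simpa only [Module.finrank_matrix, Fintype.card_fin, Module.finrank_self, mul_one] using h1
  have heq : m χ = H12.degree (χ : A → ℂ) := by
    by_contra hne
    have h1 : ∑ θ, m θ * m θ < ∑ θ : IrrCharacter A, H12.degree (θ : A → ℂ) ^ 2 := by
      refine Finset.sum_lt_sum (fun θ _ => by rw [pow_two]; exact Nat.mul_le_mul (hle θ) (hle θ))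
        ⟨χ, Finset.mem_univ χ, ?_⟩
      rw [pow_two]
      have := lt_of_le_of_ne (hle χ) hne
      exact Nat.mul_lt_mul_of_lt_of_lt this this
    rw [H12.sum_degree_sq_nat] at h1
    omega
  have aux : ∀ d, d = m χ → ∃ (s' : Matrix (Fin d) (Fin d) (H20.k M) →ₗ[H20.k M]
      MonoidAlgebra (H20.k M) A)
      (ψ' : MonoidAlgebra (H20.k M) A →ₐ[H20.k M] Matrix (Fin d) (Fin d) (H20.k M)),
      (∀ X Y, s' (X * Y) = s' X * s' Y) ∧ s' 1 = kIdem hM hA χ ∧ (∀ X, ψ' (s' X) = X) ∧
      ∀ x, x * kIdem hM hA χ = s' (ψ' x) := by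
    rintro d rfl
    exact ⟨s χ, ψ χ, hmul χ, hone χ, hψs χ, hker χ⟩
  exact aux _ heq.symm

theorem span_range_of_lift {n : ℕ}
    {ψ : MonoidAlgebra (H20.k M) A →ₐ[H20.k M] Matrix (Fin n) (Fin n) (H20.k M)}
    (hψ : Function.Surjective ψ) :
    Submodule.span (H20.k M) (Set.range fun a => ψ (MonoidAlgebra.single a 1)) = ⊤ := by
  refine eq_top_iff.2 fun X _ => ?_
  obtain ⟨z, rfl⟩ := hψ X
  induction z using MonoidAlgebra.induction_linear with
  | zero => rw [map_zero]; exact Submodule.zero_mem _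
  | add x y hx hy =>
    rw [map_add]
    exact Submodule.add_mem _ (hx Submodule.mem_top) (hy Submodule.mem_top)
  | single a c =>
    rw [show MonoidAlgebra.single a c = c • MonoidAlgebra.single a (1 : H20.k M) by
      rw [MonoidAlgebra.smul_single, smul_eq_mul, mul_one], map_smul]
    exact Submodule.smul_mem _ _ (Submodule.subset_span ⟨a, rfl⟩)

/-- The trace of the split representation. -/
theorem trace_split (χ : IrrCharacter A)
    (s : Matrix (Fin (H12.degree (χ : A → ℂ))) (Fin (H12.degree (χ : A → ℂ))) (H20.k M)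
        →ₗ[H20.k M] MonoidAlgebra (H20.k M) A)
    (ψ : MonoidAlgebra (H20.k M) A →ₐ[H20.k M]
        Matrix (Fin (H12.degree (χ : A → ℂ))) (Fin (H12.degree (χ : A → ℂ))) (H20.k M))
    (hmul : ∀ X Y, s (X * Y) = s X * s Y) (hone : s 1 = kIdem hM hA χ)
    (hker : ∀ x, x * kIdem hM hA χ = s (ψ x)) (a : A) :
    (ψ (MonoidAlgebra.single a 1)).trace = H20.redC M ((χ : A → ℂ) a) := by
  let f : Matrix (Fin (H12.degree (χ : A → ℂ))) (Fin (H12.degree (χ : A → ℂ))) (H20.k M)
      →ₗ[H20.k M] H20.k M :=
    { toFun := fun X => (Nat.card A : H20.k M) * (s X).coeff 1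
      map_add' := fun X Y => by simp [mul_add]
      map_smul' := fun c X => by simp; ring }
  have hsym : ∀ X Y, f (X * Y) = f (Y * X) := by
    intro X Y
    show (Nat.card A : H20.k M) * _ = (Nat.card A : H20.k M) * _
    congr 1
    rw [hmul, hmul, H20.coeff_mul_group, H20.coeff_mul_group]
    refine Fintype.sum_equiv (Equiv.inv A) _ _ fun g => ?_
    simp [mul_comm]
  obtain ⟨c, hc⟩ := symm_functional f hsym
  have hd := natCast_degree_ne_zero hM hA χ
  have h1 := hc 1
  rw [Matrix.trace_one, Fintype.card_fin] at h1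
  change (Nat.card A : H20.k M) * (s 1).coeff 1 = _ at h1
  rw [hone, card_mul_coeff_kIdem, inv_one, H12.irr_apply_one, H20.redC_natCast] at h1
  have h2 := hc (ψ (MonoidAlgebra.single a 1))
  change (Nat.card A : H20.k M) * (s _).coeff 1 = _ at h2
  rw [← hker, MonoidAlgebra.coeff_single_mul_apply, one_mul, mul_one, card_mul_coeff_kIdem,
    inv_inv, ← mul_right_cancel₀ hd h1] at h2
  exact (mul_left_cancel₀ hd h2).symm

/-- The residual representation of a character. -/
theorem exists_krep (χ : IrrCharacter A) :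
    ∃ Φ : A →* Matrix (Fin (H12.degree (χ : A → ℂ))) (Fin (H12.degree (χ : A → ℂ))) (H20.k M),
      IsKRep M (χ : A → ℂ) Φ := by
  obtain ⟨s, ψ, hmul, hone, hψs, hker⟩ := exists_split hM hA χ
  exact ⟨ψ.toMonoidHom.comp (MonoidAlgebra.of (H20.k M) A),
    span_range_of_lift hM hA fun X => ⟨s X, hψs X⟩,
    trace_split hM hA χ s ψ hmul hone hker⟩

end

namespace IsKRep

variable {θ θ' : A → ℂ} {n n' : ℕ} {Φ : A →* Matrix (Fin n) (Fin n) (H20.k M)}
  {Φ' : A →* Matrix (Fin n') (Fin n') (H20.k M)}

theorem exists_scalar (h : IsKRep M θ Φ) {T : Matrix (Fin n) (Fin n) (H20.k M)}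
    (hT : ∀ a, Φ a * T = T * Φ a) : ∃ c : H20.k M, T = c • 1 := by
  have hall : ∀ X, Commute X T := by
    intro X
    have : X ∈ Submodule.span (H20.k M) (Set.range Φ) := by rw [h.span]; exact Submodule.mem_top
    induction this using Submodule.span_induction with
    | mem x hx => obtain ⟨a, rfl⟩ := hx; exact hT a
    | zero => exact Commute.zero_left _
    | add x y _ _ hx hy => exact hx.add_left hy
    | smul c x _ hx => exact hx.smul_left c
  obtain ⟨c, hc⟩ : T ∈ Set.range (Matrix.scalar (Fin n)) :=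
    Matrix.mem_range_scalar_iff_commute_single'.2 fun i j => hall _
  exact ⟨c, by rw [← hc, Matrix.scalar_apply, Matrix.smul_one_eq_diagonal]⟩

/-- Averages are scalars. -/
theorem avg_eq (h : IsKRep M θ Φ) (hA : (Fintype.card A : H20.k M) ≠ 0) [NeZero n] :
    (n : H20.k M) ≠ 0 ∧ ∀ f, ∑ x, Φ x * f * Φ x⁻¹ =
      ((Fintype.card A : H20.k M) / n * f.trace) • 1 := by
  have key : ∀ f, ∃ c, ∑ x, Φ x * f * Φ x⁻¹ = c • 1 ∧
      (n : H20.k M) * c = (Fintype.card A : H20.k M) * f.trace := by
    intro f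
    obtain ⟨c, hc⟩ := h.exists_scalar (T := ∑ x, Φ x * f * Φ x⁻¹) fun a => by
      rw [Finset.mul_sum, Finset.sum_mul]
      refine Fintype.sum_equiv (Equiv.mulLeft a) _ _ fun x => ?_
      rw [Equiv.coe_mulLeft, mul_inv_rev, map_mul, map_mul]
      simp only [Matrix.mul_assoc]
      rw [← map_mul Φ a⁻¹ a, inv_mul_cancel, map_one, Matrix.mul_one]
    refine ⟨c, hc, ?_⟩
    have ht := congrArg Matrix.trace hc
    rw [Matrix.trace_smul, Matrix.trace_one, Fintype.card_fin, smul_eq_mul, mul_comm c,
      Matrix.trace_sum, Finset.sum_congr rfl (g := fun _ => f.trace) (fun x _ => by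
        rw [Matrix.trace_mul_comm, ← Matrix.mul_assoc, ← map_mul, inv_mul_cancel, map_one,
          Matrix.one_mul])] at ht
    rw [← ht, Finset.sum_const, Finset.card_univ, nsmul_eq_mul]
  have hn : (n : H20.k M) ≠ 0 := by
    obtain ⟨c, -, hc⟩ := key (Matrix.single 0 0 1)
    rw [Matrix.trace_single_eq_same, mul_one] at hc
    intro h0
    rw [h0, zero_mul] at hc
    exact hA hc.symm
  refine ⟨hn, fun f => ?_⟩
  obtain ⟨c, hc, hc'⟩ := key f
  rw [hc]
  congr 1
  rw [div_mul_eq_mul_div, eq_div_iff hn, mul_comm c, hc']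

/-- The section given by the traces. -/
theorem sec (h : IsKRep M θ Φ) (hA : (Fintype.card A : H20.k M) ≠ 0) [NeZero n] :
    ∃ c0 : H20.k M, c0 ≠ 0 ∧ ∀ f, ∑ x, (f * Φ x⁻¹).trace • Φ x = c0 • f := by
  obtain ⟨hn, havg⟩ := h.avg_eq hA
  refine ⟨(Fintype.card A : H20.k M) / n, div_ne_zero hA hn, fun f => ?_⟩
  have hmat : ∀ a b c d, ∑ x, Φ x a b * Φ x⁻¹ c d =
      (Fintype.card A : H20.k M) / n * ((if b = c then 1 else 0) * (if a = d then 1 else 0)) := by
    intro a b c d
    have e := congrFun (congrFun (havg (Matrix.single b c 1)) a) d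
    rw [Matrix.sum_apply, Matrix.smul_apply, smul_eq_mul, Matrix.one_apply] at e
    refine Eq.trans ?_ (e.trans ?_)
    · refine Finset.sum_congr rfl fun x _ => ?_
      rw [Matrix.mul_apply, Finset.sum_eq_single c]
      · rw [Matrix.mul_single_apply_same, mul_one]
      · intro y _ hy
        rw [Matrix.mul_single_apply_of_ne _ _ _ _ _ hy, zero_mul]
      · simp
    · by_cases hbc : b = c
      · subst hbc; simp
      · simp [Matrix.trace_single_eq_of_ne _ _ _ hbc, hbc]
  ext a b
  rw [Matrix.sum_apply, Matrix.smul_apply, smul_eq_mul]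
  simp only [Matrix.smul_apply, smul_eq_mul, Matrix.trace, Matrix.diag_apply, Matrix.mul_apply,
    Finset.sum_mul]
  rw [Finset.sum_comm]
  rw [Finset.sum_congr rfl (g := fun i => ∑ j, f i j *
    ((Fintype.card A : H20.k M) / n * ((if b = j then 1 else 0) * (if a = i then 1 else 0))))]
  · rw [Finset.sum_eq_single a, Finset.sum_eq_single b]
    · simp [mul_comm]
    · intro j _ hj; simp [Ne.symm hj]
    · simp
    · intro i _ hi; simp [Ne.symm hi]
    · simp
  · intro i _
    rw [Finset.sum_comm]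
    refine Finset.sum_congr rfl fun j _ => ?_
    rw [← hmat, Finset.mul_sum]
    refine Finset.sum_congr rfl fun x _ => ?_
    ring

/-- Representations with the same traces are conjugate. -/
theorem exists_conj (h : IsKRep M θ Φ) (h' : IsKRep M θ' Φ')
    (he : ∀ a, H20.redC M (θ a) = H20.redC M (θ' a)) (hn : n = n') :
    ∃ U V : Matrix (Fin n) (Fin n) (H20.k M), U * V = 1 ∧ V * U = 1 ∧
      ∀ a, (Φ' a).submatrix (Fin.cast hn) (Fin.cast hn) = U * Φ a * V := by
  subst hn
  let L := MonoidAlgebra.lift (H20.k M) (Matrix (Fin n) (Fin n) (H20.k M)) A Φ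
  let L' := MonoidAlgebra.lift (H20.k M) (Matrix (Fin n) (Fin n) (H20.k M)) A Φ'
  have hLs : ∀ a, L (MonoidAlgebra.single a 1) = Φ a := fun a => by simp [L]
  have hL's : ∀ a, L' (MonoidAlgebra.single a 1) = Φ' a := fun a => by simp [L']
  have hsurj : ∀ {m : ℕ} {Ψ : A →* Matrix (Fin m) (Fin m) (H20.k M)},
      Submodule.span (H20.k M) (Set.range Ψ) = ⊤ →
      Function.Surjective (MonoidAlgebra.lift (H20.k M) (Matrix (Fin m) (Fin m) (H20.k M)) A Ψ) := by
    intro m Ψ hΨ X
    have : X ∈ Submodule.span (H20.k M) (Set.range Ψ) := by rw [hΨ]; exact Submodule.mem_top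
    induction this using Submodule.span_induction with
    | mem x hx => obtain ⟨a, rfl⟩ := hx; exact ⟨MonoidAlgebra.single a 1, by simp⟩
    | zero => exact ⟨0, map_zero _⟩
    | add x y _ _ hx hy =>
      obtain ⟨u, rfl⟩ := hx
      obtain ⟨v, rfl⟩ := hy
      exact ⟨u + v, map_add _ _ _⟩
    | smul c x _ hx =>
      obtain ⟨u, rfl⟩ := hx
      exact ⟨c • u, map_smul _ _ _⟩
  have htr : ∀ z, (L z).trace = (L' z).trace := by
    intro z
    induction z using MonoidAlgebra.induction_linear with
    | zero => simp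
    | add x y hx hy => rw [map_add, map_add, Matrix.trace_add, Matrix.trace_add, hx, hy]
    | single a c =>
      rw [show MonoidAlgebra.single a c = c • MonoidAlgebra.single a (1 : H20.k M) by
        rw [MonoidAlgebra.smul_single, smul_eq_mul, mul_one], map_smul, map_smul, hLs, hL's,
        Matrix.trace_smul, Matrix.trace_smul, h.trace, h'.trace, he]
  have hL : Function.Surjective L := hsurj h.span
  have hL' : Function.Surjective L' := hsurj h'.span
  have hker : ∀ z, L z = 0 → L' z = 0 := by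
    intro z hz
    have h0 : ∀ X, (L' z * X).trace = 0 := fun X => by
      obtain ⟨y, rfl⟩ := hL' X
      rw [← map_mul, ← htr, map_mul, hz, Matrix.zero_mul, Matrix.trace_zero]
    ext i j
    have := h0 (Matrix.single j i 1)
    rw [Matrix.trace_mul_single] at this
    simpa using this
  choose sec hsec using hL
  have hfac : ∀ z, L' (sec (L z)) = L' z := fun z => by
    rw [← sub_eq_zero, ← map_sub]
    exact hker _ (by rw [map_sub, hsec, sub_self])
  let g : Matrix (Fin n) (Fin n) (H20.k M) →ₐ[H20.k M] Matrix (Fin n) (Fin n) (H20.k M) :=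
    AlgHom.ofLinearMap
      { toFun := fun X => L' (sec X)
        map_add' := fun X Y => by
          conv_lhs => rw [← hsec X, ← hsec Y, ← map_add, hfac, map_add]
        map_smul' := fun c X => by
          conv_lhs => rw [← hsec X, ← map_smul, hfac, map_smul]
          rfl }
      (by
        show L' (sec 1) = 1
        have h1 := hfac 1
        rwa [map_one, map_one] at h1)
      (fun X Y => by
        show L' (sec (X * Y)) = L' (sec X) * L' (sec Y)
        conv_lhs => rw [← hsec X, ← hsec Y, ← map_mul, hfac, map_mul])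
  have hgs : Function.Surjective g := fun X => by
    obtain ⟨z, rfl⟩ := hL' X
    exact ⟨L z, hfac z⟩
  obtain ⟨U, hU⟩ := H20.Twisted.exists_units_conj g
    ((LinearMap.injective_iff_surjective (f := g.toLinearMap)).2 hgs)
  refine ⟨U.val, U.inv, U.val_inv, U.inv_val, fun a => ?_⟩
  rw [← hLs]
  refine Eq.trans ?_ (hU _)
  show _ = L' (sec (L (MonoidAlgebra.single a 1)))
  rw [hfac, hL's]
  rfl

theorem comp_equiv {B : Type u} [Group B] [Fintype B] (h : IsKRep M θ Φ) (e : B ≃* A) :
    IsKRep M (fun b => θ (e b)) (Φ.comp e.toMonoidHom) where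
  span := by
    rw [← h.span]
    congr 1
    exact e.surjective.range_comp Φ
  trace b := h.trace (e b)

end IsKRep

section

variable (hM : IsPModular p M) (hA : ¬ p ∣ Nat.card A)
include hM hA

/-- Every absolutely irreducible residual representation comes from a character. -/
theorem exists_char_of_krep {n : ℕ} [NeZero n] (Φ : A →* Matrix (Fin n) (Fin n) (H20.k M))
    (hΦ : Submodule.span (H20.k M) (Set.range Φ) = ⊤) :
    ∃ χ : IrrCharacter A, H12.degree (χ : A → ℂ) = n ∧ IsKRep M (χ : A → ℂ) Φ := by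
  classical
  set L := MonoidAlgebra.lift (H20.k M) (Matrix (Fin n) (Fin n) (H20.k M)) A Φ
  have hLs : ∀ a, L (MonoidAlgebra.single a 1) = Φ a := fun a => by simp [L]
  have hL : Function.Surjective L := by
    intro X
    have : X ∈ Submodule.span (H20.k M) (Set.range Φ) := by rw [hΦ]; exact Submodule.mem_top
    induction this using Submodule.span_induction with
    | mem x hx => obtain ⟨a, rfl⟩ := hx; exact ⟨_, hLs a⟩
    | zero => exact ⟨0, map_zero _⟩
    | add x y _ _ hx hy =>
      obtain ⟨u, rfl⟩ := hx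
      obtain ⟨v, rfl⟩ := hy
      exact ⟨u + v, map_add _ _ _⟩
    | smul c x _ hx =>
      obtain ⟨u, rfl⟩ := hx
      exact ⟨c • u, map_smul _ _ _⟩
  obtain ⟨χ, hχ⟩ : ∃ χ : IrrCharacter A, L (kIdem hM hA χ) ≠ 0 := by
    by_contra hall
    push Not at hall
    have h1 : (1 : Matrix (Fin n) (Fin n) (H20.k M)) = 0 := by
      rw [← map_one L, ← sum_kIdem hM hA, map_sum]
      exact Finset.sum_eq_zero fun χ _ => hall χ
    exact one_ne_zero (α := H20.k M) (congrFun (congrFun h1 0) 0)
  obtain ⟨s, ψ, hmul, hone, hψs, hker⟩ := exists_split hM hA χ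
  obtain ⟨c, hc⟩ : ∃ c : H20.k M, L (kIdem hM hA χ) = c • 1 := by
    obtain ⟨c, hc⟩ : L (kIdem hM hA χ) ∈ Set.range (Matrix.scalar (Fin n)) :=
      Matrix.mem_range_scalar_iff_commute_single'.2 fun i j => by
        obtain ⟨z, hz⟩ := hL (Matrix.single i j 1)
        rw [← hz]
        exact (((kIdem_isCl hM hA χ).commute z).map L).symm
    exact ⟨c, by rw [← hc, Matrix.scalar_apply, Matrix.smul_one_eq_diagonal]⟩
  have hone' : L (kIdem hM hA χ) = 1 := by
    have h1 : L (kIdem hM hA χ) * L (kIdem hM hA χ) = L (kIdem hM hA χ) := by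
      rw [← map_mul, kIdem_mul_self]
    rw [hc, smul_mul_smul_comm, mul_one] at h1
    have h2 := congrFun (congrFun h1 0) 0
    simp only [Matrix.smul_apply, Matrix.one_apply_eq, smul_eq_mul, mul_one] at h2
    have hc0 : c ≠ 0 := fun h => hχ (by rw [hc, h, zero_smul])
    rw [hc, (mul_eq_right₀ hc0).1 h2, one_smul]
  let g : Matrix (Fin (H12.degree (χ : A → ℂ))) (Fin (H12.degree (χ : A → ℂ))) (H20.k M)
      →ₐ[H20.k M] Matrix (Fin n) (Fin n) (H20.k M) :=
    AlgHom.ofLinearMap (L.toLinearMap ∘ₗ s) (by show L (s 1) = 1; rw [hone, hone'])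
      (fun X Y => by show L (s (X * Y)) = L (s X) * L (s Y); rw [hmul, map_mul])
  have hg : ∀ z, L z = g (ψ z) := fun z => by
    show L z = L (s (ψ z))
    rw [← hker, map_mul, hone', mul_one]
  haveI : NeZero (H12.degree (χ : A → ℂ)) := ⟨(H12.irr_degree_pos χ).ne'⟩
  have hginj : Function.Injective g := g.toRingHom.injective
  have hgs : Function.Surjective g := fun X => by
    obtain ⟨z, rfl⟩ := hL X
    exact ⟨ψ z, (hg z).symm⟩
  have hdim := LinearEquiv.finrank_eq (AlgEquiv.ofBijective g ⟨hginj, hgs⟩).toLinearEquiv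
  rw [Module.finrank_matrix, Module.finrank_matrix, Fintype.card_fin, Fintype.card_fin,
    Module.finrank_self, mul_one, mul_one] at hdim
  have hd : H12.degree (χ : A → ℂ) = n := Nat.mul_self_inj.1 hdim
  refine ⟨χ, hd, hΦ, fun a => ?_⟩
  rw [← trace_split hM hA χ s ψ hmul hone hker a, ← hLs, hg]
  let f : Matrix (Fin (H12.degree (χ : A → ℂ))) (Fin (H12.degree (χ : A → ℂ))) (H20.k M)
      →ₗ[H20.k M] H20.k M := Matrix.traceLinearMap (Fin n) (H20.k M) (H20.k M) ∘ₗ g.toLinearMap
  obtain ⟨c', hc'⟩ := symm_functional f fun X Y => by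
    show (g (X * Y)).trace = (g (Y * X)).trace
    rw [map_mul, map_mul, Matrix.trace_mul_comm]
  have h1 : (g 1).trace = c' * (1 : Matrix (Fin (H12.degree (χ : A → ℂ)))
      (Fin (H12.degree (χ : A → ℂ))) (H20.k M)).trace := hc' 1
  rw [map_one, Matrix.trace_one, Matrix.trace_one, Fintype.card_fin, Fintype.card_fin] at h1
  have hc1 : c' = 1 := by
    have hne := natCast_degree_ne_zero hM hA χ
    refine mul_right_cancel₀ hne ?_
    rw [one_mul, ← h1, hd]
  show (g _).trace = _
  rw [show (g (ψ (MonoidAlgebra.single a 1))).trace =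
    c' * (ψ (MonoidAlgebra.single a 1)).trace from hc' _, hc1, one_mul]

end

end H23.PSolv
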