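import Mathlib.LinearAlgebra.Trace
import Mathlib.LinearAlgebra.Dual.Lemmas
import Mathlib.LinearAlgebra.FiniteDimensional.Lemmas
import Mathlib.Algebra.Algebra.Bilinear
import Mathlib.Tactic

/-!
An operator `Y` with `Y ^ p = 0` on a space of dimension prime to `p` has a single non-free block
as soon as its commutant is made of the scalars and the image of `(ad Y) ^ (p - 1)`.
-/

set_option autoImplicit false
set_option linter.unusedSectionVars false

namespace H23.PSolv

open Module

variable {F V : Type*} [Field F] [AddCommGroup V] [Module F V] [FiniteDimensional F V]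
variable {p : ℕ}

theorem range_pow_le_ker {Y : End F V} (hp : 0 < p) (hY : Y ^ p = 0) :
    LinearMap.range (Y ^ (p - 1)) ≤ LinearMap.ker Y := by
  rintro _ ⟨w, rfl⟩
  rw [LinearMap.mem_ker, ← Module.End.mul_apply, ← pow_succ', Nat.sub_add_cancel hp, hY,
    LinearMap.zero_apply]

theorem finrank_range_pow_succ (Y : End F V) (i : ℕ) :
    finrank F (LinearMap.range (Y ^ (i + 1))) +
      finrank F (LinearMap.ker Y ⊓ LinearMap.range (Y ^ i) : Submodule F V) =
      finrank F (LinearMap.range (Y ^ i)) := by
  have h := LinearMap.finrank_range_add_finrank_ker (Y.domRestrict (LinearMap.range (Y ^ i)))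
  rw [LinearMap.range_domRestrict, LinearMap.ker_domRestrict] at h
  have e1 : Submodule.map Y (LinearMap.range (Y ^ i)) = LinearMap.range (Y ^ (i + 1)) := by
    rw [pow_succ', ← LinearMap.range_comp]
    rfl
  rw [e1] at h
  rw [← h]
  congr 1
  refine (LinearEquiv.finrank_eq (Submodule.comapSubtypeEquivOfLe
    (p := LinearMap.ker Y ⊓ LinearMap.range (Y ^ i)) (q := LinearMap.range (Y ^ i))
    inf_le_right)).symm.trans ?_
  have e2 : Submodule.comap (LinearMap.range (Y ^ i)).subtype
      (LinearMap.ker Y ⊓ LinearMap.range (Y ^ i)) =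
      Submodule.comap (LinearMap.range (Y ^ i)).subtype (LinearMap.ker Y) := by
    ext x
    simp only [Submodule.mem_comap, Submodule.mem_inf]
    exact ⟨fun h => h.1, fun h => ⟨h, x.2⟩⟩
  rw [e2]

theorem range_antitone (Y : End F V) {i j : ℕ} (h : i ≤ j) :
    LinearMap.range (Y ^ j) ≤ LinearMap.range (Y ^ i) := by
  obtain ⟨m, rfl⟩ := Nat.exists_eq_add_of_le h
  rw [pow_add]
  exact LinearMap.range_comp_le_range _ _

theorem range_pow_zero (Y : End F V) : LinearMap.range (Y ^ 0) = ⊤ := by
  rw [pow_zero]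
  exact LinearMap.range_id

/-- A kernel of at most the `p`-th part of the space is made of `(p - 1)`-st powers. -/
theorem ker_le_range_of_small {Y : End F V} (hp : 0 < p) (hY : Y ^ p = 0)
    (h : p * finrank F (LinearMap.ker Y) ≤ finrank F V) :
    LinearMap.ker Y ≤ LinearMap.range (Y ^ (p - 1)) := by
  have key : ∀ i, finrank F V ≤ finrank F (LinearMap.range (Y ^ i)) +
      i * finrank F (LinearMap.ker Y) := by
    intro i
    induction i with
    | zero => rw [range_pow_zero, finrank_top, Nat.zero_mul, Nat.add_zero]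
    | succ i ih =>
      have h1 := finrank_range_pow_succ Y i
      have h2 : finrank F (LinearMap.ker Y ⊓ LinearMap.range (Y ^ i) : Submodule F V) ≤
          finrank F (LinearMap.ker Y) := Submodule.finrank_mono inf_le_left
      rw [Nat.succ_mul]
      omega
  have h3 := key (p - 1)
  have h4 : (p - 1) * finrank F (LinearMap.ker Y) + finrank F (LinearMap.ker Y) =
      p * finrank F (LinearMap.ker Y) := by
    rw [← Nat.succ_mul, Nat.succ_eq_add_one, Nat.sub_add_cancel hp]
  exact (Submodule.eq_of_le_of_finrank_le (range_pow_le_ker hp hY) (by omega)).ge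

/-- A free operator lives on a space of dimension divisible by `p`. -/
theorem dvd_of_ker_le_range {Y : End F V} (hp : 0 < p) (hY : Y ^ p = 0)
    (h : LinearMap.ker Y ≤ LinearMap.range (Y ^ (p - 1))) : p ∣ finrank F V := by
  have key : ∀ i, i ≤ p → finrank F V = finrank F (LinearMap.range (Y ^ i)) +
      i * finrank F (LinearMap.ker Y) := by
    intro i hi
    induction i with
    | zero => rw [range_pow_zero, finrank_top, Nat.zero_mul, Nat.add_zero]
    | succ i ih =>
      have h1 := finrank_range_pow_succ Y i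
      have h2 : LinearMap.ker Y ⊓ LinearMap.range (Y ^ i) = LinearMap.ker Y :=
        inf_eq_left.2 (h.trans (range_antitone Y (by omega)))
      rw [h2] at h1
      have h3 := ih (by omega)
      rw [Nat.succ_mul]
      omega
  have h3 := key p le_rfl
  rw [hY, LinearMap.range_zero, finrank_bot, zero_add] at h3
  exact ⟨_, h3⟩

/-- The commutator with `Y`. -/
noncomputable def adL (Y : End F V) : End F (End F V) :=
  LinearMap.mulLeft F Y - LinearMap.mulRight F Y

theorem adL_apply (Y u : End F V) : adL Y u = Y * u - u * Y := rfl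

theorem adL_pow_apply_ker (Y : End F V) {v : V} (hv : Y v = 0) (u : End F V) :
    ∀ j, ((adL Y ^ j) u) v = (Y ^ j) (u v) := by
  intro j
  induction j generalizing v with
  | zero => simp
  | succ j ih =>
    rw [pow_succ', Module.End.mul_apply, adL_apply, LinearMap.sub_apply, Module.End.mul_apply,
      Module.End.mul_apply, hv, map_zero, sub_zero, ih hv, pow_succ' Y, Module.End.mul_apply]

/-- One non-free block. -/
theorem finrank_ker_eq_succ {Y : End F V} (hp : 0 < p) (hY : Y ^ p = 0)
    (hd : ¬ p ∣ finrank F V)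
    (hcomm : ∀ f : End F V, Y * f = f * Y → ∃ (a : F) (u : End F V),
      f = a • (1 : End F V) + (adL Y ^ (p - 1)) u) :
    finrank F (LinearMap.ker Y) = finrank F (LinearMap.range (Y ^ (p - 1))) + 1 := by
  classical
  set R := LinearMap.range (Y ^ (p - 1)) with hR
  have hRker : R ≤ LinearMap.ker Y := range_pow_le_ker hp hY
  have hne : ¬ LinearMap.ker Y ≤ R := fun h => hd (dvd_of_ker_le_range hp hY h)
  set P : ℕ → Prop := fun h => ¬ LinearMap.ker Y ⊓ LinearMap.range (Y ^ h) ≤ R with hP
  have hP0 : P 0 := by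
    simp only [hP, range_pow_zero, inf_top_eq]
    exact hne
  set h := Nat.findGreatest P p with hh
  have hPh : P h := Nat.findGreatest_spec (Nat.zero_le p) hP0
  have hnext : LinearMap.ker Y ⊓ LinearMap.range (Y ^ (h + 1)) ≤ R := by
    by_contra hc
    have hle : h + 1 ≤ p := by
      by_contra hc'
      refine hc ((inf_le_right).trans (range_antitone Y ?_))
      omega
    have h1 : h + 1 ≤ Nat.findGreatest P p := Nat.le_findGreatest hle hc
    omega
  obtain ⟨v1, ⟨hv1k, w, hw⟩, hv1R⟩ := SetLike.not_le_iff_exists.1 hPh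
  rw [SetLike.mem_coe, LinearMap.mem_ker] at hv1k
  have hw1 : (Y ^ (h + 1)) w = 0 := by rw [pow_succ', Module.End.mul_apply, hw, hv1k]
  have hle : LinearMap.ker Y ≤ R ⊔ Submodule.span F {v1} := by
    by_contra hc
    obtain ⟨v2, hv2, hv2'⟩ := SetLike.not_le_iff_exists.1 hc
    have hv2k : Y v2 = 0 := hv2
    have hv1' : v1 ∉ LinearMap.range (Y ^ (h + 1)) ⊔ Submodule.span F {v2} := by
      intro hm
      obtain ⟨x, hx, y, hy, hxy⟩ := Submodule.mem_sup.1 hm
      obtain ⟨c, rfl⟩ := Submodule.mem_span_singleton.1 hy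
      have hx' : x ∈ R := hnext ⟨by
        rw [SetLike.mem_coe, LinearMap.mem_ker, eq_sub_of_add_eq hxy, map_sub, map_smul, hv1k,
          hv2k, smul_zero, sub_zero], hx⟩
      rcases eq_or_ne c 0 with rfl | hc0
      · exact hv1R (by rw [← hxy, zero_smul, add_zero]; exact hx')
      · refine hv2' (Submodule.mem_sup.2 ⟨-(c⁻¹) • x, R.smul_mem _ hx', c⁻¹ • v1,
          Submodule.smul_mem _ _ (Submodule.mem_span_singleton_self v1), ?_⟩)
        rw [← hxy, smul_add, smul_smul, inv_mul_cancel₀ hc0, one_smul, neg_smul]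
        abel
    obtain ⟨φ, hφ1, hφ0⟩ := Submodule.exists_dual_map_eq_bot_of_notMem hv1' inferInstance
    have hφR : ∀ x ∈ LinearMap.range (Y ^ (h + 1)) ⊔ Submodule.span F {v2}, φ x = 0 := fun x hx =>
      (Submodule.mem_bot F).1 (hφ0 ▸ Submodule.mem_map_of_mem hx)
    set ψ := (φ v1)⁻¹ • φ with hψ
    have hψ1 : ψ v1 = 1 := by simp [hψ, hφ1]
    have hψR : ∀ x, ψ ((Y ^ (h + 1)) x) = 0 := fun x => by
      simp [hψ, hφR _ (Submodule.mem_sup_left ⟨x, rfl⟩)]
    have hψ2 : ψ v2 = 0 := by
      simp [hψ, hφR _ (Submodule.mem_sup_right (Submodule.mem_span_singleton_self v2))]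
    let f : End F V :=
      ∑ j ∈ Finset.range (h + 1), (ψ.comp (Y ^ (h - j))).smulRight ((Y ^ j) w)
    have hf : ∀ x, f x = ∑ j ∈ Finset.range (h + 1), ψ ((Y ^ (h - j)) x) • (Y ^ j) w := fun x => by
      simp [f, LinearMap.sum_apply]
    have hcm : Y * f = f * Y := by
      refine LinearMap.ext fun x => ?_
      rw [Module.End.mul_apply, Module.End.mul_apply, hf, hf, map_sum,
        Finset.sum_range_succ' (fun j => ψ ((Y ^ (h - j)) (Y x)) • (Y ^ j) w),
        Finset.sum_range_succ]
      simp only [map_smul, ← Module.End.mul_apply, ← pow_succ']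
      rw [hw1, smul_zero, add_zero, Nat.sub_zero, ← pow_succ, hψR, zero_smul, add_zero]
      refine Finset.sum_congr rfl fun j hj => ?_
      rw [Finset.mem_range] at hj
      rw [← pow_succ, show h - (j + 1) + 1 = h - j by omega]
    have hkill : ∀ v, Y v = 0 → f v = ψ v • (Y ^ h) w := by
      intro v hv
      rw [hf, Finset.sum_eq_single_of_mem h (Finset.self_mem_range_succ h)]
      · simp
      · intro j hj hne'
        rw [Finset.mem_range] at hj
        rw [show h - j = (h - j - 1) + 1 by omega, pow_succ, Module.End.mul_apply, hv, map_zero,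
          map_zero, zero_smul]
    obtain ⟨a, u, he⟩ := hcomm f hcm
    have hmod : ∀ v, Y v = 0 → f v - a • v ∈ R := by
      intro v hv
      rw [he, LinearMap.add_apply, LinearMap.smul_apply, Module.End.one_apply,
        add_sub_cancel_left, adL_pow_apply_ker Y hv]
      exact ⟨u v, rfl⟩
    have h1 := hmod v1 hv1k
    rw [hkill v1 hv1k, hψ1, one_smul, hw] at h1
    have h2 := hmod v2 hv2k
    rw [hkill v2 hv2k, hψ2, zero_smul, zero_sub] at h2
    rcases eq_or_ne a 0 with rfl | ha
    · rw [zero_smul, sub_zero] at h1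
      exact hv1R h1
    · refine hv2' (Submodule.mem_sup_left ?_)
      have := R.smul_mem (-a⁻¹) h2
      rwa [neg_smul, smul_neg, neg_neg, smul_smul, inv_mul_cancel₀ ha, one_smul] at this
  refine le_antisymm ?_ ?_
  · refine (Submodule.finrank_mono hle).trans ((Submodule.finrank_add_le_finrank_add_finrank _ _).trans ?_)
    exact Nat.add_le_add_left ((finrank_span_le_card _).trans (by simp)) _
  · exact Submodule.finrank_lt_finrank_of_lt (lt_of_le_not_ge hRker hne)

/-- The kernel of `ad Y` from the ranks of a comparison operator. -/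
theorem commutant_of_ranks {Y : End F V} (hp : 1 < p) (hY : adL Y ^ p = 0)
    (hd : (finrank F V : F) ≠ 0)
    (h : finrank F (LinearMap.ker (adL Y)) ≤
      finrank F (LinearMap.range (adL Y ^ (p - 1))) + 1) :
    ∀ f : End F V, Y * f = f * Y → ∃ (a : F) (u : End F V),
      f = a • (1 : End F V) + (adL Y ^ (p - 1)) u := by
  intro f hf
  set R := LinearMap.range (adL Y ^ (p - 1))
  have htr : ∀ u, LinearMap.trace F V ((adL Y ^ (p - 1)) u) = 0 := by
    intro u
    obtain ⟨m, hm⟩ := Nat.exists_eq_add_of_le' (show 1 ≤ p - 1 by omega)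
    rw [hm, pow_succ', Module.End.mul_apply, adL_apply, map_sub, LinearMap.trace_mul_comm F Y,
      sub_self]
  have h1 : (1 : End F V) ∈ LinearMap.ker (adL Y) := by simp [adL_apply]
  have h1R : (1 : End F V) ∉ R := by
    rintro ⟨u, hu⟩
    have := htr u
    rw [hu, LinearMap.trace_one] at this
    exact hd this
  have hle : R ⊔ Submodule.span F {(1 : End F V)} ≤ LinearMap.ker (adL Y) :=
    sup_le (range_pow_le_ker (by omega) hY) (Submodule.span_le.2 (by simpa using h1))
  have hlt : finrank F R < finrank F (R ⊔ Submodule.span F {(1 : End F V)} : Submodule F (End F V)) :=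
    Submodule.finrank_lt_finrank_of_lt (lt_of_le_not_ge le_sup_left fun h' =>
      h1R (h' (Submodule.mem_sup_right (Submodule.mem_span_singleton_self _))))
  have he := Submodule.eq_of_le_of_finrank_le hle (by omega)
  have hfm : f ∈ R ⊔ Submodule.span F {(1 : End F V)} := by
    rw [he, LinearMap.mem_ker, adL_apply, hf, sub_self]
  obtain ⟨x, ⟨u, rfl⟩, y, hy, hxy⟩ := Submodule.mem_sup.1 hfm
  obtain ⟨a, rfl⟩ := Submodule.mem_span_singleton.1 hy
  exact ⟨a, u, by rw [← hxy, add_comm]⟩

end H23.PSolv
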