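import Cfsg.Agent.H23.PSolv.Twist
import Cfsg.Agent.H23.PSolv.OneBlock
import Mathlib.LinearAlgebra.Matrix.Rank
import Mathlib.GroupTheory.GroupAction.Quotient
import Mathlib.GroupTheory.Index

/-!
A permutation module without fixed points is free for the generic element.
-/

set_option autoImplicit false
set_option linter.unusedSectionVars false
set_option linter.style.haveILetI false

namespace H23.PSolv

open Module Matrix

universe u v

variable {Q : Type v} [Fintype Q] {k : Type u} [Field k] {F : Type*} [Field F]
  [Algebra (MvPolynomial Q k) F] [IsFractionRing (MvPolynomial Q k) F]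
variable {ι : Type*} [Fintype ι] [DecidableEq ι]

/-- Specialising the variables does not raise the rank. -/
theorem rank_spec_le (z : Q → Matrix ι ι k) (a : Q → k) :
    finrank k (LinearMap.range (Matrix.toLin' (∑ q, a q • z q))) ≤
      finrank F (LinearMap.range (genEl (F := F) z)) := by
  classical
  set m := ∑ q, a q • z q with hm
  set r := finrank k (LinearMap.range (Matrix.toLin' m)) with hr
  obtain b := Module.finBasis k (LinearMap.range (Matrix.toLin' m))
  choose w hw using fun i => LinearMap.mem_range.1 (b i).2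
  obtain ⟨L, hL⟩ := ((LinearMap.range (Matrix.toLin' m)).subtype.comp
    b.equivFun.symm.toLinearMap).exists_leftInverse_of_injective (by
      rw [LinearMap.ker_eq_bot]
      exact Subtype.val_injective.comp b.equivFun.symm.injective)
  let W : Matrix ι (Fin r) k := fun i j => w j i
  let M : Matrix ι ι (MvPolynomial Q k) :=
    ∑ q, (MvPolynomial.X q : MvPolynomial Q k) • (z q).map MvPolynomial.C
  let L' : Matrix (Fin r) ι k := LinearMap.toMatrix' L
  have hone : L' * m * W = 1 := by
    refine Matrix.toLin'.injective (LinearMap.pi_ext' fun j => LinearMap.ext_ring ?_)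
    rw [Matrix.toLin'_mul, Matrix.toLin'_mul, Matrix.toLin'_toMatrix', Matrix.toLin'_one]
    simp only [LinearMap.comp_apply, LinearMap.coe_single, LinearMap.id_apply]
    have h1 : Matrix.toLin' W (Pi.single j 1) = w j := by
      rw [Matrix.toLin'_apply, Matrix.mulVec_single_one]
      rfl
    rw [h1, hw]
    have := LinearMap.congr_fun hL (Pi.single j 1)
    simp only [LinearMap.comp_apply, LinearMap.id_apply, Submodule.subtype_apply] at this
    refine Eq.trans ?_ this
    congr 2
    simp
  have hMe : M.map (MvPolynomial.eval a) = m := by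
    simp only [M, hm]
    ext i j
    simp [Matrix.sum_apply, Matrix.map_apply]
  set D : Matrix (Fin r) (Fin r) (MvPolynomial Q k) :=
    Matrix.map L' (MvPolynomial.C : k →+* MvPolynomial Q k) * M *
      Matrix.map W (MvPolynomial.C : k →+* MvPolynomial Q k) with hD
  have hDe : D.map (MvPolynomial.eval a) = 1 := by
    rw [hD, Matrix.map_mul, Matrix.map_mul, hMe, Matrix.map_map, Matrix.map_map]
    have e : (MvPolynomial.eval a ∘ MvPolynomial.C : k → k) = id := funext fun c => by simp
    rw [e, Matrix.map_id, Matrix.map_id, hone]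
  have hdet : D.det ≠ 0 := by
    intro h0
    have := RingHom.map_det (MvPolynomial.eval a) D
    rw [RingHom.mapMatrix_apply, hDe, h0, map_zero, Matrix.det_one] at this
    exact zero_ne_one this
  set al := algebraMap (MvPolynomial Q k) F with hal
  have hDF : (D.map al).rank = r := by
    rw [Matrix.rank_of_isUnit, Fintype.card_fin]
    rw [Matrix.isUnit_iff_isUnit_det, ← RingHom.mapMatrix_apply, ← RingHom.map_det,
      isUnit_iff_ne_zero]
    exact (map_ne_zero_iff _ (IsFractionRing.injective (MvPolynomial Q k) F)).2 hdet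
  have hgen : genEl (F := F) z = Matrix.toLin' (M.map al) := by
    simp only [genEl, gEnd, M]
    rw [← map_sum_smul_toLin' (fun q => gx (F := F) k q)]
    congr 1
    ext i j
    simp [Matrix.sum_apply, Matrix.map_apply, gx, gC, hal]
    exact Finset.sum_congr rfl fun c _ => Algebra.smul_def _ _
  rw [← hDF, hgen, hD, Matrix.map_mul, Matrix.map_mul]
  refine (Matrix.rank_mul_le_left _ _).trans ((Matrix.rank_mul_le_right _ _).trans ?_)
  rw [Matrix.rank, Matrix.toLin'_apply']
where
  map_sum_smul_toLin' {K : Type _} [Field K] {z' : Q → Matrix ι ι K} (c : Q → K) :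
      Matrix.toLin' (∑ q, c q • z' q) = ∑ q, c q • Matrix.toLin' (z' q) := by
    simp [map_sum]

/-- The kernel of a specialised generic element bounds the generic one. -/
theorem ker_spec_ge (z : Q → Matrix ι ι k) (a : Q → k) :
    finrank F (LinearMap.ker (genEl (F := F) z)) ≤
      finrank k (LinearMap.ker (Matrix.toLin' (∑ q, a q • z q))) := by
  have h := rank_spec_le (F := F) z a
  have h1 := LinearMap.finrank_range_add_finrank_ker (genEl (F := F) z)
  have h2 := LinearMap.finrank_range_add_finrank_ker (Matrix.toLin' (∑ q, a q • z q))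
  rw [Module.finrank_fintype_fun_eq_card] at h1 h2
  omega

section Perm

variable [CommGroup Q] (p : ℕ) [hp : Fact p.Prime] [CharP F p]
variable {Ω : Type*} [Fintype Ω] [DecidableEq Ω] [MulAction Q Ω]

variable (k) in
/-- The permutation matrix. -/
def permMat (q : Q) : Matrix Ω Ω k := fun i j => if q • j = i then 1 else 0

variable (k) in
/-- The permutation matrices. -/
def permHom : Q →* Matrix Ω Ω k where
  toFun := permMat k
  map_one' := by
    ext i j
    simp [permMat, Matrix.one_apply, eq_comm]
  map_mul' a b := by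
    ext i j
    simp only [permMat, Matrix.mul_apply, mul_smul]
    rw [Finset.sum_eq_single (b • j)]
    · simp
    · intro c _ hc
      simp [Ne.symm hc]
    · simp

theorem permMat_mulVec (q : Q) (f : Ω → k) (i : Ω) : (permMat (Ω := Ω) k q *ᵥ f) i = f (q⁻¹ • i) := by
  rw [Matrix.mulVec, dotProduct, Finset.sum_eq_single (q⁻¹ • i)]
  · simp [permMat]
  · intro c _ hc
    have : q • c ≠ i := fun h => hc (by rw [← h, inv_smul_smul])
    simp [permMat, this]
  · simp

variable (hexp : ∀ q : Q, q ^ p = 1)
include hexp

theorem genEl_pow_char_eq_zero (τ : Q →* Matrix ι ι k) :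
    genEl (F := F) (fun q => τ q - 1) ^ p = 0 := by
  have e : genEl (F := F) (fun q => τ q - 1) =
      act τ (∑ q, gx (F := F) k q • (MonoidAlgebra.single q 1 - 1)) := by
    rw [genEl, map_sum]
    refine Finset.sum_congr rfl fun q _ => ?_
    rw [map_smul, map_sub, map_one, act_single, one_smul]
    congr 1
    simp only [gEnd, Matrix.map_sub _ (map_sub _), Matrix.map_one _ (map_zero _) (map_one _),
      map_sub, Matrix.toLin'_one]
    rfl
  rw [e, ← map_pow, pow_char_eq p hexp, map_sum]
  simp only [map_smul, map_sub, eps_single, map_one, sub_self, smul_zero, Finset.sum_const_zero,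
    zero_pow hp.out.ne_zero, MonoidAlgebra.single_zero, map_zero]

/-- A fixed point free element makes the permutation module free. -/
theorem perm_ker_le_range {g : Q} (hg : ∀ ω : Ω, g • ω ≠ ω) :
    LinearMap.ker (genEl (F := F) fun q => permHom (Q := Q) (Ω := Ω) k q - 1) ≤
      LinearMap.range (genEl (F := F) (fun q => permHom (Q := Q) (Ω := Ω) k q - 1) ^ (p - 1)) := by
  classical
  refine ker_le_range_of_small hp.out.pos (genEl_pow_char_eq_zero p hexp _) ?_
  rw [Module.finrank_fintype_fun_eq_card]
  refine (Nat.mul_le_mul_left p (ker_spec_ge (F := F) (fun q => permHom (Q := Q) (Ω := Ω) k q - 1)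
    (Pi.single g 1))).trans ?_
  rw [Finset.sum_eq_single g (fun q _ hq => by simp [Pi.single_eq_of_ne hq]) (by simp),
    Pi.single_eq_same, one_smul]
  set Z := Subgroup.zpowers g
  have hker : ∀ f ∈ LinearMap.ker (Matrix.toLin' (permHom (Q := Q) (Ω := Ω) k g - 1)),
      ∀ i, f (g⁻¹ • i) = f i := by
    intro f hf i
    rw [LinearMap.mem_ker, Matrix.toLin'_apply, Matrix.sub_mulVec, Matrix.one_mulVec] at hf
    have := congrFun hf i
    rw [Pi.sub_apply, Pi.zero_apply, sub_eq_zero] at this
    rw [← this]
    exact (permMat_mulVec g f i).symm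
  let O := Quotient (MulAction.orbitRel Z Ω)
  let e : LinearMap.ker (Matrix.toLin' (permHom (Q := Q) (Ω := Ω) k g - 1)) →ₗ[k] (O → k) :=
    { toFun := fun f o => (f : Ω → k) o.out
      map_add' := fun _ _ => rfl
      map_smul' := fun _ _ => rfl }
  have hinj : Function.Injective e := by
    intro f f' h
    refine Subtype.ext (funext fun i => ?_)
    have hinv : ∀ f : LinearMap.ker (Matrix.toLin' (permHom (Q := Q) (Ω := Ω) k g - 1)),
        ∀ z : Z, (f : Ω → k) (z • i) = (f : Ω → k) i := by
      rintro ⟨f, hf⟩ ⟨z, hz⟩
      show f (z • i) = f i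
      obtain ⟨n, rfl⟩ := hz
      induction n using Int.induction_on with
      | zero => simp
      | succ n ih =>
        show f (g ^ ((n : ℤ) + 1) • i) = f i
        rw [_root_.zpow_add_one, mul_comm, mul_smul, ← hker f hf, inv_smul_smul]
        exact ih
      | pred n ih =>
        show f (g ^ (-(n : ℤ) - 1) • i) = f i
        rw [_root_.zpow_sub_one, mul_comm, mul_smul, hker f hf]
        exact ih
    obtain ⟨z, hz⟩ := Quotient.exact (Quotient.out_eq (Quotient.mk (MulAction.orbitRel Z Ω) i))
    have := congrFun h (Quotient.mk _ i)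
    change (f : Ω → k) _ = (f' : Ω → k) _ at this
    rw [← hz] at this
    rwa [hinv, hinv] at this
  have hle := LinearMap.finrank_le_finrank_of_injective hinj
  rw [Module.finrank_fintype_fun_eq_card] at hle
  refine (Nat.mul_le_mul_left p hle).trans (le_of_eq ?_)
  have hg1 : ∀ i : Ω, ∀ z : Z, z • i = i → z = 1 := by
    rintro i ⟨z, hz⟩ he
    refine Subtype.ext ?_
    by_contra hne
    change z ≠ 1 at hne
    obtain ⟨n, hn⟩ := hz
    have hco : ¬ (p : ℤ) ∣ n := by
      intro hd
      obtain ⟨c, rfl⟩ := hd
      apply hne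
      rw [← hn]
      show g ^ ((p : ℤ) * c) = 1
      rw [_root_.zpow_mul, zpow_natCast, hexp, _root_.one_zpow]
    obtain ⟨u, v, huv⟩ := Int.isCoprime_iff_gcd_eq_one.2
      (Int.isCoprime_iff_gcd_eq_one.1 ((Nat.prime_iff_prime_int.1 hp.out).coprime_iff_not_dvd.2 hco))
    refine hg i ?_
    have : g = z ^ v := by
      rw [← hn]
      show g = (g ^ n) ^ v
      rw [← _root_.zpow_mul, show n * v = 1 - u * p by linarith, _root_.zpow_sub, zpow_one, mul_comm u,
        _root_.zpow_mul, zpow_natCast, hexp, _root_.one_zpow, inv_one, mul_one]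
    rw [this]
    have hm : z ∈ MulAction.stabilizer Q i := he
    exact Subgroup.zpow_mem _ hm v
  have hcard : ∀ o : O, Nat.card (MulAction.orbit Z o.out) = p := by
    intro o
    have hne : g ≠ 1 := fun h => hg o.out (by rw [h, one_smul])
    rw [Nat.card_coe_set_eq, ← MulAction.index_stabilizer,
      show MulAction.stabilizer Z o.out = ⊥ from (Subgroup.eq_bot_iff_forall _).2 fun z hz => hg1 _ z hz,
      Subgroup.index_bot, Nat.card_zpowers, orderOf_eq_prime (hexp g) hne]
  rw [← Nat.card_eq_fintype_card (α := Ω),
    Nat.card_congr (MulAction.selfEquivSigmaOrbits Z Ω), Nat.card_sigma]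
  simp only [hcard]
  rw [Finset.sum_const, Finset.card_univ, smul_eq_mul, mul_comm]

end Perm

end H23.PSolv
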