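import Cfsg.Agent.H23.PSolv.IsoTools
import Cfsg.Agent.H12.Induction
import Cfsg.Agent.H21.BrauerInduced

/-!
Moving a perfect isometry along induction and along an isomorphism, and what it gives.
-/

set_option autoImplicit false
set_option linter.unusedSectionVars false
set_option linter.style.haveILetI false

open Cfsg
open scoped ComplexConjugate

namespace H23.PSolv

variable {M : Ideal AlgInt} [hMp : M.IsPrime] {p : ℕ} [hp : Fact p.Prime]

theorem sum_bijOn {X Y : Type*} [Fintype X] [Fintype Y] {c : Set X} {b : Set Y} {I : X → Y}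
    (h : Set.BijOn I c b) (F : Y → ℂ) : ∑ᶠ η ∈ c, F (I η) = ∑ᶠ χ ∈ b, F χ :=
  finsum_mem_eq_of_bijOn I h fun _ _ => rfl

/-- Averages of invariant values divisible by the stabilisers. -/
theorem memRing_average' {D Ω : Type*} [Group D] [Finite D] [Fintype Ω]
    [MulAction D Ω] (f : Ω → ℂ) (hinv : ∀ (d : D) ω, f (d • ω) = f ω)
    (hf : ∀ ω, MemLocalRing M (f ω / (Nat.card (MulAction.stabilizer D ω) : ℂ))) :
    MemLocalRing M ((Nat.card D : ℂ)⁻¹ * ∑ ω, f ω) := by
  classical
  haveI := Fintype.ofFinite D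
  have he : ∑ ω, f ω = ∑ q : Quotient (MulAction.orbitRel D Ω),
      ((MulAction.stabilizer D q.out).index : ℂ) * f q.out := by
    rw [← Fintype.sum_equiv (MulAction.selfEquivSigmaOrbits D Ω).symm
      (fun x => f ((MulAction.selfEquivSigmaOrbits D Ω).symm x)) f fun x => rfl, Fintype.sum_sigma]
    refine Finset.sum_congr rfl fun q _ => ?_
    rw [Finset.sum_congr rfl fun x _ => show
      f ((MulAction.selfEquivSigmaOrbits D Ω).symm ⟨q, x⟩) = f q.out by
        obtain ⟨_, d, rfl⟩ := x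
        exact hinv d _, Finset.sum_const, Finset.card_univ, nsmul_eq_mul,
      MulAction.index_stabilizer, ← Nat.card_coe_set_eq, ← Nat.card_eq_fintype_card]
  rw [he, Finset.mul_sum]
  refine H20.memRing_sum _ _ fun q _ => ?_
  have h := Subgroup.card_mul_index (MulAction.stabilizer D q.out)
  have h0 : ((MulAction.stabilizer D q.out).index : ℂ) ≠ 0 :=
    Nat.cast_ne_zero.2 Subgroup.index_ne_zero_of_finite
  rw [← h, Nat.cast_mul, mul_inv, mul_assoc, inv_mul_cancel_left₀ h0, inv_mul_eq_div]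
  exact hf _

/-- Local divisibility for a function supported on `T × U` after two inductions. -/
theorem memRing_two_ind {A B : Type*} [Group A] [Fintype A] [Group B] [Fintype B] (T : Subgroup A)
    (U : Subgroup B) (F : A → B → ℂ)
    (hF : ∀ (t : T) (u : U) a b, F ((t : A) * a * (t : A)⁻¹) ((u : B) * b * (u : B)⁻¹) = F a b)
    (hz : ∀ a b, F a b ≠ 0 → a ∈ T ∧ b ∈ U)
    (hloc : ∀ (t : T) (u : U),
      MemLocalRing M (F t u / (Nat.card (Subgroup.centralizer ({t} : Set T)) : ℂ))) (x : A) (y : B) :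
    MemLocalRing M (((Nat.card T : ℂ)⁻¹ * (Nat.card U : ℂ)⁻¹ *
      ∑ a : A, ∑ b : B, F (a * x * a⁻¹) (b * y * b⁻¹)) /
      (Nat.card (Subgroup.centralizer ({x} : Set A)) : ℂ)) := by
  classical
  letI : MulAction (T × U) ({z : A // IsConj x z} × B) :=
    { smul := fun d w => (⟨(d.1 : A) * w.1.1 * (d.1 : A)⁻¹, w.1.2.trans (isConj_iff.2 ⟨_, rfl⟩)⟩,
        (d.2 : B) * w.2)
      one_smul := fun w => Prod.ext (Subtype.ext (by
        show ((1 : T) : A) * w.1.1 * ((1 : T) : A)⁻¹ = _; simp)) (by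
        show ((1 : U) : B) * w.2 = _; simp)
      mul_smul := fun d e w => Prod.ext (Subtype.ext (by
        show ((d.1 * e.1 : T) : A) * w.1.1 * ((d.1 * e.1 : T) : A)⁻¹ =
          (d.1 : A) * ((e.1 : A) * w.1.1 * (e.1 : A)⁻¹) * (d.1 : A)⁻¹
        rw [Subgroup.coe_mul]; group)) (by
        show ((d.2 * e.2 : U) : B) * w.2 = (d.2 : B) * ((e.2 : B) * w.2)
        rw [Subgroup.coe_mul, mul_assoc]) }
  have h := memRing_average' (M := M) (D := T × U) (fun w : {z : A // IsConj x z} × B =>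
      F w.1 (w.2 * y * w.2⁻¹))
    (fun d w => by
      show F ((d.1 : A) * w.1.1 * (d.1 : A)⁻¹) ((d.2 : B) * w.2 * y * ((d.2 : B) * w.2)⁻¹) = _
      rw [← hF d.1 d.2 w.1.1 (w.2 * y * w.2⁻¹)]
      congr 1
      group)
    (fun w => by
      rcases eq_or_ne (F w.1.1 (w.2 * y * w.2⁻¹)) 0 with h0 | h0
      · rw [h0, zero_div]; exact H20.memRing_of_isIntegral isIntegral_zero
      obtain ⟨ht, hu⟩ := hz _ _ h0
      have hst : Nat.card (MulAction.stabilizer (T × U) w) =
          Nat.card (Subgroup.centralizer ({(⟨_, ht⟩ : T)} : Set T)) := by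
        refine Nat.card_congr
          { toFun := fun d => ⟨d.1.1, Subgroup.mem_centralizer_singleton_iff.2 (Subtype.ext
              (mul_inv_eq_iff_eq_mul.1 (congrArg (fun v : {z : A // IsConj x z} × B => v.1.1) d.2)))⟩
            invFun := fun t => ⟨(t.1, 1), Prod.ext (Subtype.ext (mul_inv_eq_iff_eq_mul.2
              (congrArg Subtype.val (Subgroup.mem_centralizer_singleton_iff.1 t.2) :
                (t.1 : A) * w.1.1 = w.1.1 * (t.1 : A)))) (one_mul _)⟩
            left_inv := fun d => Subtype.ext (Prod.ext rfl (Subtype.ext (mul_right_cancel (b := w.2)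
              ((one_mul _).trans (congrArg (fun v : {z : A // IsConj x z} × B => v.2) d.2).symm))))
            right_inv := fun t => rfl }
      rw [hst]
      exact hloc ⟨_, ht⟩ ⟨_, hu⟩)
  convert h using 1
  rw [sum_conj_eq x (fun a => ∑ b : B, F a (b * y * b⁻¹)), ← Fintype.sum_prod_type',
    mul_left_comm, mul_div_cancel_left₀ _ (Nat.cast_ne_zero.2 Nat.card_pos.ne'), Nat.card_prod,
    Nat.cast_mul, mul_inv]

theorem kernel_one {A B : Type*} [Group A] [Group B] (c : Set (IrrCharacter B))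
    (I : IrrCharacter B → IrrCharacter A) (x : A) (y : B) :
    signedBijectionKernel c I (fun _ => 1) x y = ∑ᶠ η ∈ c, (I η : A → ℂ) x * (η : B → ℂ) y :=
  finsum_mem_congr rfl fun η _ => by rw [Int.cast_one, one_mul]

theorem kernel_conj {A B : Type*} [Group A] [Finite A] [Group B] [Finite B]
    (c : Set (IrrCharacter B)) (I : IrrCharacter B → IrrCharacter A) (a x : A) (b y : B) :
    signedBijectionKernel c I (fun _ => 1) (a * x * a⁻¹) (b * y * b⁻¹) =
      signedBijectionKernel c I (fun _ => 1) x y := by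
  haveI := Fintype.ofFinite A
  haveI := Fintype.ofFinite B
  rw [kernel_one, kernel_one]
  exact finsum_mem_congr rfl fun η _ => by
    rw [H12.irr_isClassFunction (I η) x a, H12.irr_isClassFunction η y b]

/-- A perfect isometry moves along induction. -/
theorem perfect_induced {A B : Type*} [Group A] [Fintype A] [Group B] [Fintype B] (T : Subgroup A)
    (U : Subgroup B) {b' : Set (IrrCharacter T)} {c' : Set (IrrCharacter U)}
    {I' : IrrCharacter U → IrrCharacter T} (hI' : Set.BijOn I' c' b')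
    (hperf : IsPerfectFun p M (signedBijectionKernel c' I' fun _ => 1))
    {b : Set (IrrCharacter A)} {c : Set (IrrCharacter B)}
    (hb : ∀ χ : IrrCharacter A, χ ∈ b ↔ ∃ ψ ∈ b', (χ : A → ℂ) = indFun T (ψ : T → ℂ))
    (hc : ∀ η : IrrCharacter B, η ∈ c ↔ ∃ φ ∈ c', (η : B → ℂ) = indFun U (φ : U → ℂ))
    (hirrb : ∀ ψ ∈ b', IsIrrCharacter A (indFun T (ψ : T → ℂ)))
    (hirrc : ∀ φ ∈ c', IsIrrCharacter B (indFun U (φ : U → ℂ)))
    (hinjb : ∀ ψ ∈ b', ∀ ψ' ∈ b', indFun T (ψ : T → ℂ) = indFun T (ψ' : T → ℂ) → ψ = ψ')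
    (hinjc : ∀ φ ∈ c', ∀ φ' ∈ c', indFun U (φ : U → ℂ) = indFun U (φ' : U → ℂ) → φ = φ') :
    ∃ I : IrrCharacter B → IrrCharacter A,
      Set.BijOn I c b ∧ IsPerfectFun p M (signedBijectionKernel c I fun _ => 1) := by
  classical
  let indA : IrrCharacter T → IrrCharacter A := fun ψ =>
    if h : IsIrrCharacter A (indFun T (ψ : T → ℂ)) then ⟨_, h⟩ else H12.oneIrr A
  let indB : IrrCharacter U → IrrCharacter B := fun φ =>
    if h : IsIrrCharacter B (indFun U (φ : U → ℂ)) then ⟨_, h⟩ else H12.oneIrr B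
  have hA : ∀ ψ ∈ b', (indA ψ : A → ℂ) = indFun T (ψ : T → ℂ) := fun ψ h => by
    simp only [indA, dif_pos (hirrb ψ h)]
  have hB : ∀ φ ∈ c', (indB φ : B → ℂ) = indFun U (φ : U → ℂ) := fun φ h => by
    simp only [indB, dif_pos (hirrc φ h)]
  have hAb : Set.BijOn indA b' b := ⟨fun ψ h => (hb _).2 ⟨ψ, h, hA ψ h⟩,
    fun ψ h ψ' h' e => hinjb ψ h ψ' h' (by rw [← hA ψ h, e, hA ψ' h']),
    fun χ h => by
      obtain ⟨ψ, hψ, e⟩ := (hb χ).1 h
      exact ⟨ψ, hψ, Subtype.ext ((hA ψ hψ).trans e.symm)⟩⟩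
  have hBc : Set.BijOn indB c' c := ⟨fun φ h => (hc _).2 ⟨φ, h, hB φ h⟩,
    fun φ h φ' h' e => hinjc φ h φ' h' (by rw [← hB φ h, e, hB φ' h']),
    fun η h => by
      obtain ⟨φ, hφ, e⟩ := (hc η).1 h
      exact ⟨φ, hφ, Subtype.ext ((hB φ hφ).trans e.symm)⟩⟩
  haveI : Nonempty (IrrCharacter U) := ⟨H12.oneIrr U⟩
  let J := Function.invFunOn indB c'
  have hJ : ∀ φ ∈ c', J (indB φ) = φ := fun φ h => hBc.injOn.leftInvOn_invFunOn h
  let I : IrrCharacter B → IrrCharacter A := fun η => indA (I' (J η))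
  have hJc : Set.BijOn J c c' :=
    hBc.invOn_invFunOn.symm.bijOn hBc.surjOn.mapsTo_invFunOn hBc.mapsTo
  have hIJ : Set.BijOn I c b := hAb.comp (hI'.comp hJc)
  refine ⟨I, hIJ, ?_⟩
  let F : A → B → ℂ := fun a b => ∑ᶠ φ ∈ c',
    extendByZero T (I' φ : T → ℂ) a * extendByZero U (φ : U → ℂ) b
  have hker : ∀ x y, signedBijectionKernel c I (fun _ => 1) x y =
      (Nat.card T : ℂ)⁻¹ * (Nat.card U : ℂ)⁻¹ * ∑ a : A, ∑ b : B, F (a * x * a⁻¹) (b * y * b⁻¹) := by
    intro x y
    rw [kernel_one, ← finsum_mem_eq_of_bijOn indB hBc (f := fun φ =>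
      indFun T (I' φ : T → ℂ) x * indFun U (φ : U → ℂ) y) fun φ hφ => by
        simp only [I, hJ φ hφ, hB φ hφ, hA _ (hI'.1 hφ)]]
    simp only [F, finsum_mem_eq_finite_toFinset_sum _ c'.toFinite, Finset.mul_sum]
    rw [Finset.sum_congr rfl fun a _ => Finset.sum_comm, Finset.sum_comm]
    refine Finset.sum_congr rfl fun φ _ => ?_
    unfold indFun
    rw [mul_mul_mul_comm, Finset.sum_mul_sum, Finset.mul_sum]
    refine Fintype.sum_equiv (Equiv.inv A) _ _ fun a => ?_
    rw [Finset.mul_sum]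
    refine Fintype.sum_equiv (Equiv.inv B) _ _ fun b => ?_
    simp
  have hTU : ∀ (t : T) (u : U), F t u = signedBijectionKernel c' I' (fun _ => 1) t u := fun t u => by
    rw [kernel_one]
    exact finsum_mem_congr rfl fun φ _ => by rw [H12.extendByZero_coe, H12.extendByZero_coe]
  have hz : ∀ a b, F a b ≠ 0 → a ∈ T ∧ b ∈ U := by
    intro a b h
    refine ⟨by_contra fun ha => h ?_, by_contra fun hb' => h ?_⟩
    · exact finsum_mem_eq_zero_of_forall_eq_zero fun φ _ => by
        rw [H12.extendByZero_of_notMem _ _ ha, zero_mul]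
    · exact finsum_mem_eq_zero_of_forall_eq_zero fun φ _ => by
        rw [H12.extendByZero_of_notMem _ _ hb', mul_zero]
  have hmem : ∀ {X : Type _} [Group X] (S : Subgroup X) (s : S) (g : X),
      (s : X) * g * (s : X)⁻¹ ∈ S ↔ g ∈ S := fun S s g => by
    constructor
    · intro h
      have := mul_mem (mul_mem (inv_mem s.2) h) s.2
      rwa [← mul_assoc, inv_mul_cancel_right, inv_mul_cancel_left] at this
    · exact fun h => mul_mem (mul_mem s.2 h) (inv_mem s.2)
  have hF : ∀ (t : T) (u : U) a b,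
      F ((t : A) * a * (t : A)⁻¹) ((u : B) * b * (u : B)⁻¹) = F a b := by
    intro t u a b
    by_cases h : a ∈ T ∧ b ∈ U
    · obtain ⟨ha, hb'⟩ := h
      have e1 := hTU ⟨a, ha⟩ ⟨b, hb'⟩
      have e2 := hTU (t * ⟨a, ha⟩ * t⁻¹) (u * ⟨b, hb'⟩ * u⁻¹)
      simp only [Subgroup.coe_mul, Subgroup.coe_inv] at e1 e2
      rw [e1, e2, kernel_conj]
    · have e1 : F a b = 0 := by_contra fun hne => h (hz _ _ hne)
      rw [e1]
      by_contra hne
      obtain ⟨ha, hb'⟩ := hz _ _ hne
      exact h ⟨(hmem T t a).1 ha, by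
        have := mul_mem (mul_mem (inv_mem u.2) hb') u.2
        rwa [← mul_assoc, inv_mul_cancel_right, inv_mul_cancel_left] at this⟩
  intro x y
  refine ⟨?_, ?_, ?_⟩
  · rw [hker]
    exact memRing_two_ind T U F hF hz (fun t u => by rw [hTU]; exact (hperf t u).1) x y
  · rw [hker, Finset.sum_comm, mul_comm (Nat.card T : ℂ)⁻¹]
    exact memRing_two_ind U T (fun b a => F a b) (fun u t b a => hF t u a b)
      (fun b a h => (hz a b h).symm) (fun u t => by rw [hTU]; exact (hperf t u).2.1) y x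
  · by_cases h0 : signedBijectionKernel c I (fun _ => 1) x y = 0
    · exact Or.inr h0
    refine Or.inl ?_
    rw [hker] at h0
    obtain ⟨a, -, ha⟩ := Finset.exists_ne_zero_of_sum_ne_zero (right_ne_zero_of_mul h0)
    obtain ⟨b, -, hb'⟩ := Finset.exists_ne_zero_of_sum_ne_zero ha
    obtain ⟨ht, hu⟩ := hz _ _ hb'
    have h := (hperf ⟨_, ht⟩ ⟨_, hu⟩).2.2.resolve_right (by rw [← hTU]; exact hb')
    have e1 : orderOf (a * x * a⁻¹) = orderOf x :=
      orderOf_injective (MulAut.conj a).toMonoidHom (MulAut.conj a).injective x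
    have e2 : orderOf (b * y * b⁻¹) = orderOf y :=
      orderOf_injective (MulAut.conj b).toMonoidHom (MulAut.conj b).injective y
    rwa [IsPRegular, IsPRegular, ← Subgroup.orderOf_coe, ← Subgroup.orderOf_coe, e1, e2] at h

/-- A perfect isometry moves along an isomorphism of the local group. -/
theorem perfect_comp_equiv {A B B' : Type*} [Group A] [Group B] [Finite B] [Group B'] [Finite B']
    (e : B ≃* B') {b : Set (IrrCharacter A)} {c' : Set (IrrCharacter B')}
    {I' : IrrCharacter B' → IrrCharacter A} (hI' : Set.BijOn I' c' b)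
    (hperf : IsPerfectFun p M (signedBijectionKernel c' I' fun _ => 1))
    {c : Set (IrrCharacter B)} (hc : ∀ η, η ∈ c ↔ H12.irrCongr e.symm η ∈ c') :
    ∃ I : IrrCharacter B → IrrCharacter A,
      Set.BijOn I c b ∧ IsPerfectFun p M (signedBijectionKernel c I fun _ => 1) := by
  let f : IrrCharacter B → IrrCharacter B' := fun η => H12.irrCongr e.symm η
  have hf : Set.BijOn f c c' := ⟨fun η h => (hc η).1 h,
    fun η _ η' _ h => (H12.irrCongr e.symm).injective h, fun φ h => by
      obtain ⟨η, rfl⟩ := (H12.irrCongr e.symm).surjective φ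
      exact ⟨η, (hc η).2 h, rfl⟩⟩
  refine ⟨fun η => I' (f η), hI'.comp hf, fun x y => ?_⟩
  have hk : signedBijectionKernel c (fun η => I' (f η)) (fun _ => 1) x y =
      signedBijectionKernel c' I' (fun _ => 1) x (e y) := by
    rw [kernel_one, kernel_one]
    refine finsum_mem_eq_of_bijOn f hf fun η _ => ?_
    show _ = (I' (f η) : A → ℂ) x * (η : B → ℂ) (e.symm (e y))
    rw [e.symm_apply_apply]
  have hcard : Nat.card (Subgroup.centralizer ({y} : Set B)) =
      Nat.card (Subgroup.centralizer ({e y} : Set B')) := by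
    refine Nat.card_congr (e.toEquiv.subtypeEquiv fun z => ?_)
    simp only [Subgroup.mem_centralizer_singleton_iff]
    exact ⟨fun h => by
      show e z * e y = e y * e z
      rw [← map_mul, h, map_mul], fun h => e.injective (by rw [map_mul, map_mul]; exact h)⟩
  obtain ⟨h1, h2, h3⟩ := hperf x (e y)
  rw [hk, hcard]
  exact ⟨h1, h2, by rwa [IsPRegular, IsPRegular, ← e.orderOf_eq y]⟩

/-- What a perfect isometry with trivial signs gives. -/
theorem consequences {A B : Type*} [Group A] [Finite A] [Group B] [Finite B]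
    {b : Set (IrrCharacter A)} {c : Set (IrrCharacter B)} {I : IrrCharacter B → IrrCharacter A}
    (hI : Set.BijOn I c b) (hperf : IsPerfectFun p M (signedBijectionKernel c I fun _ => 1)) :
    Nat.card c = Nat.card b ∧ blockRank p c = blockRank p b := by
  classical
  haveI := Fintype.ofFinite A
  haveI := Fintype.ofFinite B
  refine ⟨Nat.card_congr (Set.BijOn.equiv I hI), le_antisymm ?_ ?_⟩
  · haveI : Nonempty (IrrCharacter B) := ⟨H12.oneIrr B⟩
    let J := Function.invFunOn I c
    have hJ : Set.BijOn J b c := hI.invOn_invFunOn.symm.bijOn hI.surjOn.mapsTo_invFunOn hI.mapsTo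
    refine blockRank_le_of_kernel J hJ (fun y x => signedBijectionKernel c I (fun _ => 1) x y)
      (fun y x => ?_) (fun y x h => ((hperf x y).2.2.resolve_right h).symm)
    rw [kernel_one]
    refine finsum_mem_eq_of_bijOn I hI fun η hη => ?_
    rw [show J (I η) = η from hI.injOn.leftInvOn_invFunOn hη, mul_comm]
  · exact blockRank_le_of_kernel I hI _ (fun x y => kernel_one c I x y)
      (fun x y h => (hperf x y).2.2.resolve_right h)

end H23.PSolv
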