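import Cfsg.Agent.H23.PSolv.Isometry
import Cfsg.Agent.H23.PSolv.Transfer
import Cfsg.Agent.H23.PSolv.Correspondent
import Cfsg.Agent.H21.FongReynolds
import Cfsg.Agent.H25.FongConstrained
import Cfsg.Agent.H20.OrthConv
import Cfsg.Agent.H10.PSolvable

/-!
Blocks of `p`-solvable groups with abelian defect groups: reduction to an invariant character of
the `p'`-core.
-/

set_option autoImplicit false
set_option linter.unusedSectionVars false
set_option linter.style.haveILetI false

open Cfsg H87.McKay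
open scoped ComplexConjugate

namespace H23.PSolv

universe u

attribute [local instance high] Fintype.ofFinite

theorem classInner_congr_equiv {A B : Type*} [Group A] [Finite A] [Group B] [Finite B] (e : A ≃* B)
    {f g : A → ℂ} {f' g' : B → ℂ} (hf : ∀ a, f a = f' (e a)) (hg : ∀ a, g a = g' (e a)) :
    classInner f g = classInner f' g' := by
  rw [← H12.classInner_comp_equiv e f' g', funext hf, funext hg]
  rfl

theorem irrCongr_symm_apply' {A B : Type*} [Group A] [Group B] (e : A ≃* B) (χ : IrrCharacter A) :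
    H12.irrCongr e (H12.irrCongr e.symm χ) = χ :=
  Subtype.ext (funext fun a => by
    rw [H12.irrCongr_apply, H12.irrCongr_apply, e.symm_apply_apply])

theorem irrCongr_symm_apply {A B : Type*} [Group A] [Group B] (e : A ≃* B) (χ : IrrCharacter B) :
    H12.irrCongr e.symm (H12.irrCongr e χ) = χ :=
  Subtype.ext (funext fun a => by
    rw [H12.irrCongr_apply, H12.irrCongr_apply, e.apply_symm_apply])

variable {M : Ideal AlgInt} [hMp : M.IsPrime] {p : ℕ} [hp : Fact p.Prime]

theorem sameBlock_congr_iff {A B : Type u} [Group A] [Group B] (e : A ≃* B)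
    (φ ψ : IrrCharacter A) :
    SameBlock M (H12.irrCongr e.symm φ : B → ℂ) (H12.irrCongr e.symm ψ : B → ℂ) ↔
      SameBlock M (φ : A → ℂ) (ψ : A → ℂ) := by
  refine ⟨fun h => ?_, H21.sameBlock_irrCongr e.symm⟩
  have := H21.sameBlock_irrCongr (M := M) e h
  rwa [irrCongr_symm_apply', irrCongr_symm_apply'] at this

/-- The value of a lifted multiplicity. -/
theorem mlt_lift {G : Type u} [Group G] [Finite G] {C K T : Subgroup G} (hCK : C ≤ K) (hKT : K ≤ T)
    (θ : IrrCharacter K) (β : IrrCharacter C) :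
    mlt (lift hKT θ : K.subgroupOf T → ℂ) (lift (hCK.trans hKT) β : C.subgroupOf T → ℂ) =
      mlt (θ : K → ℂ) (β : C → ℂ) := by
  suffices h : ip (C.subgroupOf T) (cf (lift hKT θ : K.subgroupOf T → ℂ))
      (cf (lift (hCK.trans hKT) β : C.subgroupOf T → ℂ)) = ip C (cf (θ : K → ℂ)) (cf (β : C → ℂ)) by
    rw [mlt, mlt, h]
  refine classInner_congr_equiv (Subgroup.subgroupOfEquivOfLe (hCK.trans hKT)) (fun a => ?_)
    fun a => ?_
  · rw [cf_apply _ (show (a : T) ∈ K.subgroupOf T from hCK a.2), lift_apply]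
    rfl
  · rw [cf_coe, lift_apply]
    rfl

theorem st_lift {G : Type u} [Group G] [Finite G] {K T : Subgroup G} (hKT : K ≤ T)
    (θ : IrrCharacter K) {t : T} (ht : (t : G) ∈ st (θ : K → ℂ)) :
    t ∈ st (lift hKT θ : K.subgroupOf T → ℂ) := by
  have hn : t ∈ Subgroup.normalizer (K.subgroupOf T : Set T) := by
    refine Subgroup.mem_normalizer_iff.2 fun y => ?_
    exact Subgroup.mem_normalizer_iff.1 ht.1 (y : G)
  refine ⟨hn, fun a ha => ?_⟩
  rw [cf_apply _ ((Subgroup.mem_normalizer_iff.1 hn a).1 ha), cf_apply _ ha, lift_apply, lift_apply]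
  exact ht.2 _ ha

variable {G : Type u} [Group G] [Finite G]

theorem mem_centralizer_of_mem_normalizer {K P : Subgroup G} [hKn : K.Normal]
    (hK : ¬ p ∣ Nat.card K) (hP : IsPGroup p P) {n : G}
    (hn : n ∈ Subgroup.normalizer (P : Set G)) (hnK' : n ∈ K) :
    n ∈ K ⊓ Subgroup.centralizer (P : Set G) := by
  refine ⟨hnK', Subgroup.mem_centralizer_iff.2 fun x hx => ?_⟩
  have h1 : n * x * n⁻¹ * x⁻¹ ∈ P :=
    mul_mem ((Subgroup.mem_normalizer_iff.1 hn x).1 hx) (inv_mem hx)
  have h2 : n * x * n⁻¹ * x⁻¹ ∈ K := by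
    rw [show n * x * n⁻¹ * x⁻¹ = n * (x * n⁻¹ * x⁻¹) by group]
    exact mul_mem hnK' (hKn.conj_mem _ (inv_mem hnK') x)
  have h3 : n * x * n⁻¹ * x⁻¹ = 1 := by
    obtain ⟨j, hj⟩ := hP ⟨_, h1⟩
    have hd1 := orderOf_dvd_of_pow_eq_one
      (congrArg Subtype.val hj : (n * x * n⁻¹ * x⁻¹) ^ p ^ j = 1)
    have hd2 := orderOf_dvd_of_pow_eq_one
      (congrArg Subtype.val (pow_card_eq_one' (x := (⟨_, h2⟩ : K))) :
        (n * x * n⁻¹ * x⁻¹) ^ Nat.card K = 1)
    exact orderOf_eq_one_iff.1 (Nat.eq_one_of_dvd_coprimes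
      (Nat.Coprime.pow_left _ ((hp.out.coprime_iff_not_dvd).2 hK)) hd1 hd2)
  exact (mul_inv_eq_iff_eq_mul.1 (mul_inv_eq_one.1 h3)).symm

set_option maxHeartbeats 2000000 in
/-- The base of the reduction: an invariant character of the core. -/
theorem base_case (hM : IsPModular p M) (hsolv : IsPSolvable p G) {K : Subgroup G} [hKn : K.Normal]
    (hKdef : K = pPrimeCore p G) {B : Set (IrrCharacter G)} (hB : IsPBlock M B) {P : Subgroup G}
    (hPD : IsDefectGroup p M B P) (hab : ∀ x ∈ P, ∀ y ∈ P, x * y = y * x) {θ : IrrCharacter K}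
    (hinv : ∀ g : G, g ∈ st (θ : K → ℂ)) {χ : IrrCharacter G} (hχ : χ ∈ B)
    (hχθ : classInner (fun k : K => (χ : G → ℂ) k) (θ : K → ℂ) ≠ 0)
    {c : Set (IrrCharacter (Subgroup.normalizer (P : Set G)))}
    (hc : IsInducedBlock M (Subgroup.normalizer (P : Set G)) c B) :
    ∃ I : IrrCharacter (Subgroup.normalizer (P : Set G)) → IrrCharacter G,
      Set.BijOn I c B ∧ IsPerfectFun p M (signedBijectionKernel c I fun _ => 1) := by
  classical
  have hcon := H10.isPConstrained_of_isPSolvable hsolv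
  have hP : IsPGroup p P := H20.IsDefectGroup.isPGroup hPD
  have hK : ¬ p ∣ Nat.card K := fun h =>
    (Nat.Prime.coprime_iff_not_dvd hp.out).1
      (hKdef ▸ H1.card_pPrimeCore_coprime p G : (Nat.card K).Coprime p).symm h
  have hθinv : ∀ (g : G) (k : K), (θ : K → ℂ) ⟨g * k * g⁻¹, hKn.conj_mem k k.2 g⟩ = (θ : K → ℂ) k :=
    fun g k => by
      rw [← cf_apply (θ : K → ℂ) (hKn.conj_mem k k.2 g), (hinv g).2 k k.2, cf_coe]
  obtain ⟨hBθ, hsyl, -, -⟩ := H25.isPBlock_over_constrained hM hcon K hKdef θ hθinv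
  have hBeq := H20.block_eq_of_mem hB hBθ hχ hχθ
  obtain ⟨S0⟩ : Nonempty (Sylow p G) := inferInstance
  obtain ⟨x, hx⟩ := H20.defectGroup_conj hM hBθ (hsyl S0) (hBeq ▸ hPD)
  let S : Sylow p G := Sylow.ofCard P (by rw [← hx, H20.card_conjSub, Sylow.card_eq_multiplicity])
  have hS : (S : Subgroup G) = P := rfl
  -- the product with the core is normal
  haveI := H1.pCore_normal' p (G ⧸ K)
  have hsur := QuotientGroup.mk'_surjective K
  have hS' : ((S.mapSurjective hsur : Sylow p (G ⧸ K)) : Subgroup (G ⧸ K)) =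
      P.map (QuotientGroup.mk' K) := by rw [Sylow.coe_mapSurjective, hS]
  have hle : pCore p (G ⧸ K) ≤ P.map (QuotientGroup.mk' K) := hS' ▸ H1.pCore_le_sylow _
  have hcore : pPrimeCore p (G ⧸ K) = ⊥ := by
    subst hKdef
    exact H1.pPrimeCore_quotient_pPrimeCore p
  have hge : P.map (QuotientGroup.mk' K) ≤ pCore p (G ⧸ K) := by
    refine le_trans ?_ (H10.centralizer_pCore_le (H10.isPSolvable_quotient hsolv K) hcore)
    rintro _ ⟨a, ha, rfl⟩
    refine Subgroup.mem_centralizer_iff.2 fun q hq => ?_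
    obtain ⟨b, hb, rfl⟩ := hle hq
    rw [← map_mul, ← map_mul, hab b hb a ha]
  set L : Subgroup G := (pCore p (G ⧸ K)).comap (QuotientGroup.mk' K) with hL
  haveI : L.Normal := Subgroup.Normal.comap inferInstance _
  have hPL : (S : Subgroup G) ≤ L := fun a ha =>
    hge ⟨a, hS ▸ ha, rfl⟩
  have hfrat : Subgroup.normalizer (P : Set G) ⊔ L = ⊤ := Sylow.normalizer_sup_eq_top' S hPL
  have hLK : L ≤ Subgroup.normalizer (P : Set G) ⊔ K := fun l hl => by
    obtain ⟨a, ha, he⟩ := hle hl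
    have h1 : a⁻¹ * l ∈ K := QuotientGroup.eq.1 he
    rw [show l = a * (a⁻¹ * l) by group]
    exact mul_mem (Subgroup.mem_sup_left (Subgroup.le_normalizer ha)) (Subgroup.mem_sup_right h1)
  have htop : Subgroup.normalizer (P : Set G) ⊔ K = ⊤ :=
    le_antisymm le_top (hfrat ▸ sup_le le_sup_left hLK)
  -- the correspondent
  set C : Subgroup G := K ⊓ Subgroup.centralizer (P : Set G) with hCdef
  have hCN : C ≤ Subgroup.normalizer (P : Set G) :=
    inf_le_right.trans (Subgroup.centralizer_le_normalizer (P : Set G))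
  have hnK : ∀ g : G, g ∈ Subgroup.normalizer (K : Set G) := fun g => (hinv g).1
  obtain ⟨β, hβ⟩ := sg_exists (fun g _ => hnK g) hCdef hP hK (θ := θ) fun g _ => hinv g
  obtain ⟨I, hI⟩ := exists_isometry hM (T := ⊤) (C := C) hK hP hab θ
    (eq_top_iff.2 fun g _ => hinv g).symm le_top
    (fun t _ => by
      have ht : t ∈ Subgroup.normalizer (P : Set G) ⊔ K := htop ▸ Subgroup.mem_top t
      obtain ⟨n, hn, k, hk, rfl⟩ := Subgroup.mem_sup_of_normal_right.1 ht
      exact ⟨n, ⟨Subgroup.mem_top n, hn⟩, hKn.conj_mem k hk n⟩)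
    hCdef β hβ hCN (B := B) (fun χ' => by rw [hBeq]; rfl)
    (c := {η | classInner (fun z : C.subgroupOf (Subgroup.normalizer (P : Set G)) =>
        (η : Subgroup.normalizer (P : Set G) → ℂ) z)
        (lift hCN β : C.subgroupOf (Subgroup.normalizer (P : Set G)) → ℂ) ≠ 0})
    (fun η => Iff.rfl)
  -- identification of `c`
  haveI hCn : (C.subgroupOf (Subgroup.normalizer (P : Set G))).Normal := normal_of_le fun y hy =>
    mem_normalizer_inf_centralizer (hnK y) hy
  have hCcore : C.subgroupOf (Subgroup.normalizer (P : Set G)) =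
      pPrimeCore p ↥(Subgroup.normalizer (P : Set G)) := by
    haveI := H1.pPrimeCore_normal' p G
    have h := H11.pPrimeCore_normalizer (H11.isPConstrained_iff_core.mp hcon) P hP
    rw [← hKdef] at h
    refine Subgroup.map_injective (Subgroup.subtype_injective _) ?_
    rw [h, Subgroup.subgroupOf_map_subtype, inf_of_le_left hCN]
    exact le_antisymm (le_inf inf_le_left hCN)
      fun n hn => mem_centralizer_of_mem_normalizer hK hP hn.2 hn.1
  have hβinv : ∀ (g : Subgroup.normalizer (P : Set G))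
      (z : C.subgroupOf (Subgroup.normalizer (P : Set G))),
      (lift hCN β : C.subgroupOf (Subgroup.normalizer (P : Set G)) → ℂ)
        ⟨g * z * g⁻¹, hCn.conj_mem z z.2 g⟩ =
      (lift hCN β : C.subgroupOf (Subgroup.normalizer (P : Set G)) → ℂ) z := by
    intro g z
    rw [lift_apply, lift_apply]
    exact ((sg_st_iff (fun g _ => hnK g) hCdef hP hK (fun g _ => hinv g) hβ (hnK g) g.2).1
      (hinv g)).2 _ z.2
  obtain ⟨hcβ, -, -, -⟩ := H25.isPBlock_over_constrained hM
    (H10.isPConstrained_of_isPSolvable (H10.isPSolvable_subgroup hsolv _)) _ hCcore _ hβinv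
  obtain ⟨φ, hφ⟩ := H20.block_nonempty hc.1
  obtain ⟨δ', hδ'⟩ := H21.exists_constituent (C.subgroupOf (Subgroup.normalizer (P : Set G))) φ
  obtain ⟨δ, rfl⟩ := (H12.irrCongr (Subgroup.subgroupOfEquivOfLe hCN)).surjective δ'
  obtain ⟨g, -, hg⟩ := exists_correspondent hM hK hP hCdef rfl
    (fun n hn hnK' => mem_centralizer_of_mem_normalizer hK hP hn hnK') hCN hc hχ hφ hχθ
    (β := δ) hδ'
  have hgθ : H21.conjChar K g θ = θ := Subtype.ext (funext fun k => by
    rw [H21.conjChar_apply]; exact hθinv g k)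
  rw [hgθ] at hg
  have hδβ := sg_unique (fun g _ => hnK g) hCdef hP hK (fun g _ => hinv g) hg hβ
  subst hδβ
  rw [H20.block_eq_of_mem hc.1 hcβ hφ hδ']
  exact ⟨I, hI⟩

set_option maxHeartbeats 1000000 in
/-- The reduction by induction on the order of the group. -/
theorem exists_isometry_block (hM : IsPModular p M) (n : ℕ) :
    ∀ (G : Type u) [Group G] [Finite G], Nat.card G = n → IsPSolvable p G →
    ∀ (B : Set (IrrCharacter G)), IsPBlock M B → ∀ (P : Subgroup G), IsDefectGroup p M B P →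
    (∀ x ∈ P, ∀ y ∈ P, x * y = y * x) →
    ∀ (H : Subgroup G), H = Subgroup.normalizer (P : Set G) →
    ∀ (c : Set (IrrCharacter H)), IsInducedBlock M H c B →
    ∃ I : IrrCharacter H → IrrCharacter G,
      Set.BijOn I c B ∧ IsPerfectFun p M (signedBijectionKernel c I fun _ => 1) := by
  induction n using Nat.strong_induction_on with
  | _ n ih =>
  intro G _ _ hn hsolv B hB P hPD hab H hH c hc
  classical
  subst hH
  have hP : IsPGroup p P := H20.IsDefectGroup.isPGroup hPD
  haveI hKn : (pPrimeCore p G).Normal := H1.pPrimeCore_normal' p G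
  set K := pPrimeCore p G with hKdef
  have hK : ¬ p ∣ Nat.card K := fun h =>
    (Nat.Prime.coprime_iff_not_dvd hp.out).1 (H1.card_pPrimeCore_coprime p G).symm h
  have hnK : ∀ g : G, g ∈ Subgroup.normalizer (K : Set G) := fun g => by
    rw [Subgroup.normalizer_eq_top]; exact Subgroup.mem_top g
  set C : Subgroup G := K ⊓ Subgroup.centralizer (P : Set G) with hCdef
  have hCK : C ≤ K := inf_le_left
  have hCN : C ≤ Subgroup.normalizer (P : Set G) :=
    inf_le_right.trans (Subgroup.centralizer_le_normalizer (P : Set G))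
  obtain ⟨φ, hφ⟩ := H20.block_nonempty hc.1
  obtain ⟨χ, hχ⟩ := H20.block_nonempty hB
  haveI hCn : (C.subgroupOf (Subgroup.normalizer (P : Set G))).Normal := normal_of_le fun y hy =>
    mem_normalizer_inf_centralizer (hnK y) hy
  obtain ⟨θ0, hθ0⟩ := H21.exists_constituent K χ
  obtain ⟨δ', hδ'⟩ := H21.exists_constituent (C.subgroupOf (Subgroup.normalizer (P : Set G))) φ
  obtain ⟨β, rfl⟩ := (H12.irrCongr (Subgroup.subgroupOfEquivOfLe hCN)).surjective δ'
  obtain ⟨g, hPτ, hτβ⟩ := exists_correspondent hM hK hP hCdef rfl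
    (fun n hn hnK' => mem_centralizer_of_mem_normalizer hK hP hn hnK') hCN hc hχ hφ hθ0
    (β := β) hδ'
  set τ := H21.conjChar K g θ0 with hτdef
  have hχτ : classInner (fun k : K => (χ : G → ℂ) k) (τ : K → ℂ) ≠ 0 := by
    rw [hτdef, H21.classInner_res_conjChar]; exact hθ0
  by_cases htop : ∀ x : G, x ∈ st (τ : K → ℂ)
  · exact base_case hM hsolv hKdef hB hPD hab htop hχ hχτ hc
  set T : Subgroup G := st (τ : K → ℂ) with hT
  have hKT : K ≤ T := le_st τ
  have hPT : P ≤ T := hPτ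
  have hTlt : Nat.card T < n := by
    rw [← hn]
    refine lt_of_le_of_ne (Subgroup.card_le_card_group T) fun he => htop fun x => ?_
    rw [Subgroup.eq_top_of_card_eq T he]
    exact Subgroup.mem_top x
  have hTtw : ∀ a : G, a ∈ T ↔ H13.twist K a (τ : K → ℂ) = τ := fun a => by
    constructor
    · intro ha
      funext k
      rw [H13.twist_apply, ← cf_apply (τ : K → ℂ) (hKn.conj_mem k k.2 a), ha.2 k k.2, cf_coe]
    · intro ha
      refine ⟨hnK a, fun k hk => ?_⟩
      rw [cf_apply _ (hKn.conj_mem k hk a), cf_apply _ hk]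
      exact congrFun ha ⟨k, hk⟩
  -- singleton blocks of the core
  have hbK : IsPBlock M ({τ} : Set (IrrCharacter K)) := ⟨τ, ((H20.blockOf_eq_singleton_iff hM τ).1
    fun h => hK (h.trans (Nat.div_dvd_of_dvd (H12.irr_degree_dvd_card τ)))).symm⟩
  have hst : H21.IsBlockStab K T ({τ} : Set (IrrCharacter K)) :=
    ⟨fun a ha θ hθ => by
      rw [Set.mem_singleton_iff] at hθ ⊢
      subst hθ
      exact Subtype.ext (funext fun k => (H21.conjChar_apply K a τ k).trans
        (congrFun ((hTtw a).1 ha) k)),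
    fun a ha θ hθ hmem => ha ((hTtw a).2 (funext fun k => by
      rw [Set.mem_singleton_iff] at hθ hmem
      subst hθ
      have h := congrArg (fun z : IrrCharacter K => (z : K → ℂ) k) hmem
      exact (H21.conjChar_apply K a τ k).symm.trans h))⟩
  -- the local side
  set CN := C.subgroupOf (Subgroup.normalizer (P : Set G)) with hCNdef
  set β' : IrrCharacter CN := lift hCN β with hβ'
  have hCNcard : ¬ p ∣ Nat.card CN := fun h => hK (h.trans (by
    rw [hCNdef, Nat.card_congr (Subgroup.subgroupOfEquivOfLe hCN).toEquiv]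
    exact Subgroup.card_dvd_of_le hCK))
  have hbC : IsPBlock M ({β'} : Set (IrrCharacter CN)) :=
    ⟨β', ((H20.blockOf_eq_singleton_iff hM β').1
      fun h => hCNcard (h.trans (Nat.div_dvd_of_dvd (H12.irr_degree_dvd_card β')))).symm⟩
  set L : Subgroup G := T ⊓ Subgroup.normalizer (P : Set G) with hL
  have hLN : L ≤ Subgroup.normalizer (P : Set G) := inf_le_right
  have hLT : L ≤ T := inf_le_left
  set U : Subgroup (Subgroup.normalizer (P : Set G)) :=
    L.subgroupOf (Subgroup.normalizer (P : Set G)) with hU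
  have hCU : CN ≤ U := fun z hz => ⟨hKT (hCK hz), z.2⟩
  have hUtw : ∀ a : Subgroup.normalizer (P : Set G), a ∈ U ↔ H13.twist CN a (β' : CN → ℂ) = β' := by
    intro a
    have hiff := sg_st_iff (S := P) (fun x _ => hnK x) hCdef hP hK hPτ hτβ (hnK a) a.2
    have hUa : a ∈ U ↔ (a : G) ∈ st (β : C → ℂ) :=
      ⟨fun ha => hiff.1 ha.1, fun ha => ⟨hiff.2 ha, a.2⟩⟩
    rw [hUa]
    constructor
    · intro ha
      funext z
      rw [H13.twist_apply, lift_apply, lift_apply]
      exact ha.2 _ z.2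
    · intro ha
      refine ⟨mem_normalizer_inf_centralizer (hnK a) a.2, fun z hz => ?_⟩
      have := congrFun ha ⟨⟨z, hCN hz⟩, hz⟩
      rw [H13.twist_apply, lift_apply, lift_apply] at this
      exact this
  have hstC : H21.IsBlockStab CN U ({β'} : Set (IrrCharacter CN)) :=
    ⟨fun a ha θ hθ => by
      rw [Set.mem_singleton_iff] at hθ ⊢
      subst hθ
      exact Subtype.ext (funext fun k => (H21.conjChar_apply CN a β' k).trans
        (congrFun ((hUtw a).1 ha) k)),
    fun a ha θ hθ hmem => ha ((hUtw a).2 (funext fun k => by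
      rw [Set.mem_singleton_iff] at hθ hmem
      subst hθ
      have h := congrArg (fun z : IrrCharacter CN => (z : CN → ℂ) k) hmem
      exact (H21.conjChar_apply CN a β' k).symm.trans h))⟩
  obtain ⟨c1, hc1, hcov1, hc1c⟩ := H21.fong_reynolds_surj CN U hCU hstC hbC hc.1
    ⟨φ, hφ, β', Set.mem_singleton β', hδ'⟩
  obtain ⟨c', hc1c', hall1, -, hirr1, hmem1⟩ :=
    H21.fong_reynolds_block CN U hCU hstC hbC hc1 hcov1
  rw [H21.isInducedBlock_unique hc1c' hc1c] at hmem1
  obtain ⟨φ1, hφ1⟩ := H20.block_nonempty hc1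
  -- the same block seen in the stabiliser
  set V : Subgroup T := L.subgroupOf T with hV
  set eU : U ≃* L := Subgroup.subgroupOfEquivOfLe hLN
  set eV : V ≃* L := Subgroup.subgroupOfEquivOfLe hLT
  set e : U ≃* V := eU.trans eV.symm with he
  set ξ : IrrCharacter L := H12.irrCongr eU.symm φ1 with hξ
  have hupU : H21.upSub hLN ξ = φ1 := irrCongr_symm_apply' eU φ1
  set φ2 : IrrCharacter V := H21.upSub hLT ξ with hφ2
  set c2 : Set (IrrCharacter V) := blockOf M (φ2 : V → ℂ) with hc2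
  have hφ2e : H12.irrCongr e.symm φ1 = φ2 := Subtype.ext (funext fun v => by
    rw [H12.irrCongr_apply, hφ2, H21.upSub, H12.irrCongr_apply, hξ, H12.irrCongr_apply]
    rfl)
  have hmem2 : ∀ η : IrrCharacter U, η ∈ c1 ↔ H12.irrCongr e.symm η ∈ c2 := fun η => by
    rw [H20.mem_block_iff hc1 hφ1 η, ← sameBlock_congr_iff e φ1 η, hφ2e]
    rfl
  set P' : Subgroup T := P.subgroupOf T with hP'def
  have hP' : IsPGroup p P' := hP.comap_of_injective T.subtype T.subtype_injective
  have hVeq : V = Subgroup.normalizer (P' : Set T) := by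
    ext t
    constructor
    · intro ht
      exact Subgroup.mem_normalizer_iff.2 fun y => Subgroup.mem_normalizer_iff.1 ht.2 (y : G)
    · intro ht
      refine ⟨t.2, Subgroup.mem_normalizer_iff.2 fun x => ⟨fun hx => ?_, fun hx => ?_⟩⟩
      · exact (Subgroup.mem_normalizer_iff.1 ht ⟨x, hPT hx⟩).1 hx
      · have hxT : x ∈ T := by
          simp only [Subgroup.coe_subtype] at hx
          have := mul_mem (mul_mem (inv_mem t.2) (hPT hx)) t.2
          rwa [← mul_assoc, inv_mul_cancel_right, inv_mul_cancel_left] at this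
        exact (Subgroup.mem_normalizer_iff.1 ht ⟨x, hxT⟩).2 hx
  have hPV : P' ⊔ Subgroup.centralizer (P' : Set T) ≤ V :=
    hVeq ▸ sup_le Subgroup.le_normalizer (Subgroup.centralizer_le_normalizer (P' : Set T))
  obtain ⟨B2, hB2⟩ := H21.exists_inducedBlock hM hP' hPV hVeq.le (H20.isPBlock_blockOf φ2)
  obtain ⟨ψ, hψ⟩ := H20.block_nonempty hB2.2.1
  -- transitivity
  have hB2B : IsInducedBlock M T B2 B := by
    refine (H21.isInducedBlock_iff hB2.2.1 hB hψ hχ).2 fun a ha =>
      H21.indLam_eq_lam_of_clSum T ψ χ (fun x => ?_) ha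
    obtain ⟨η, hη⟩ : ∃ η, η ∈ c := ⟨φ, hφ⟩
    rw [← (H21.isInducedBlock_iff hc.1 hB hη hχ).1 hc _ (H20.isCl_clSum _ x), H21.indLam,
      ← (H21.isInducedBlock_iff hB2.1 hB2.2.1 (H20.mem_blockOf_self φ2) hψ).1 hB2 _
        (H21.resSub_isCl T ((H20.isCl_clSum _ x).isInv T)),
      H21.indLam_trans hLT ξ x, ← H21.indLam_trans hLN ξ x, hupU,
      (H21.isInducedBlock_iff hc1 hc.1 hφ1 hη).1 hc1c _
        (H21.resSub_isCl _ ((H20.isCl_clSum _ x).isInv _))]
    rfl
  -- `ψ` lies over `τ`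
  haveI hKTn : (K.subgroupOf T).Normal := normal_of_le fun t _ => hnK t
  have hK' : ¬ p ∣ Nat.card (K.subgroupOf T) := by
    rwa [Nat.card_congr (Subgroup.subgroupOfEquivOfLe hKT).toEquiv]
  have hC'eq : C.subgroupOf T = K.subgroupOf T ⊓ Subgroup.centralizer (P' : Set T) := by
    ext t
    constructor
    · intro ht
      exact ⟨ht.1, Subgroup.mem_centralizer_iff.2 fun y hy =>
        Subtype.ext (Subgroup.mem_centralizer_iff.1 ht.2 (y : G) hy)⟩
    · rintro ⟨h1, h2⟩
      exact ⟨h1, Subgroup.mem_centralizer_iff.2 fun x hx =>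
        congrArg Subtype.val (Subgroup.mem_centralizer_iff.1 h2 ⟨x, hPT hx⟩ hx)⟩
  have hC'V : C.subgroupOf T ≤ V := fun t ht => ⟨t.2, hCN ht⟩
  have hφ1β : classInner (fun z : CN => (φ1 : U → ℂ) ⟨z, hCU z.2⟩) (β' : CN → ℂ) ≠ 0 := by
    obtain ⟨θ, hθ, hne⟩ := hall1 φ1 hφ1
    rw [Set.mem_singleton_iff] at hθ
    subst hθ
    exact hne
  have hφ2β : classInner (fun z : (C.subgroupOf T).subgroupOf V => (φ2 : V → ℂ) z)
      (lift hC'V (lift (hCK.trans hKT) β) : (C.subgroupOf T).subgroupOf V → ℂ) ≠ 0 := by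
    rw [classInner_congr_equiv (((Subgroup.subgroupOfEquivOfLe hC'V).trans
      (Subgroup.subgroupOfEquivOfLe (hCK.trans hKT))).trans
      (Subgroup.subgroupOfEquivOfLe hCN).symm) (f' := fun z : CN => (φ1 : U → ℂ) ⟨z, hCU z.2⟩)
      (g' := (β' : CN → ℂ)) (fun z => ?_) (fun z => ?_)]
    · exact hφ1β
    · rw [← hφ2e, H12.irrCongr_apply]
      rfl
    · rw [lift_apply, lift_apply, cf_apply _ (show ((z : V) : T) ∈ C.subgroupOf T from z.2),
        lift_apply]
      rfl
  obtain ⟨θ3, hθ3⟩ := H21.exists_constituent (K.subgroupOf T) ψ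
  obtain ⟨a, ha1, ha2⟩ := exists_correspondent (G := T) hM hK' hP' hC'eq hVeq
    (fun t ht htK => by
      have h := mem_centralizer_of_mem_normalizer hK' hP' (hVeq ▸ ht) htK
      rwa [← hC'eq] at h)
    hC'V hB2 hψ (H20.mem_blockOf_self φ2) hθ3 (β := lift (hCK.trans hKT) β) hφ2β
  have hPst : P' ≤ st (lift hKT τ : K.subgroupOf T → ℂ) := fun t ht => st_lift hKT τ (hPτ ht)
  have hPK' : P' ≤ Subgroup.normalizer (K.subgroupOf T : Set T) := fun t _ =>
    Subgroup.mem_normalizer_iff.2 fun y => Subgroup.mem_normalizer_iff.1 (hnK (t : G)) (y : G)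
  have heq := sg_injective hPK' hC'eq hP' hK' ha1 hPst ha2
    (show GCor p (lift hKT τ : K.subgroupOf T → ℂ) (lift (hCK.trans hKT) β : C.subgroupOf T → ℂ) by
      rw [GCor, mlt_lift hCK hKT]; exact hτβ)
  have hover : H21.OverB K T hKT ({τ} : Set (IrrCharacter K)) ψ := by
    refine ⟨τ, Set.mem_singleton τ, ?_⟩
    rw [← classInner_congr_equiv (Subgroup.subgroupOfEquivOfLe hKT)
      (f := fun z : K.subgroupOf T => (ψ : T → ℂ) z) (g := (lift hKT τ : K.subgroupOf T → ℂ))
      (f' := H21.resN K T hKT (ψ : T → ℂ)) (g' := (τ : K → ℂ))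
      (fun z => rfl) (fun z => rfl), ← heq, H21.classInner_res_conjChar]
    exact hθ3
  have hcov : ∃ ψ ∈ B2, H21.OverB K T hKT ({τ} : Set (IrrCharacter K)) ψ := ⟨ψ, hψ, hover⟩
  obtain ⟨B0, hB20, hall, -, hirr, hmem⟩ :=
    H21.fong_reynolds_block K T hKT hst hbK hB2.2.1 hcov
  rw [H21.isInducedBlock_unique hB20 hB2B] at hmem
  -- the defect group
  obtain ⟨E, hE⟩ := H20.exists_defectGroup hM hB2.2.1
  have hEB := (H21.fong_reynolds_defect K T hKT hst hM hbK hcov hB2B).1 E hE
  obtain ⟨D2, hD2⟩ := H20.exists_defectGroup hM hB2.1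
  haveI hP'n : (P'.subgroupOf V).Normal := Subgroup.normal_subgroupOf_of_le_normalizer hVeq.le
  have hle : P'.subgroupOf V ≤ D2 := H20.normal_le_defectGroup (Q := P'.subgroupOf V) hM hB2.1
    (hP'.comap_of_injective V.subtype V.subtype_injective) hD2
  obtain ⟨x, hx⟩ := H21.defectGroup_le_of_induced hM hP' hPV hVeq.le hB2 hD2 hE
  have hPx : P' ≤ H20.conjSub x E := fun y hy =>
    hx ⟨⟨y, hPV (Subgroup.mem_sup_left hy)⟩, hle hy, rfl⟩
  have hPE : P' = H20.conjSub x E := by
    refine Subgroup.eq_of_le_of_card_ge hPx (le_of_eq ?_)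
    rw [H20.card_conjSub, ← Subgroup.card_map_of_injective (K := E) T.subtype_injective,
      H20.card_defectGroup hM hB hEB, ← H20.card_defectGroup hM hB hPD,
      Nat.card_congr (Subgroup.subgroupOfEquivOfLe hPT).toEquiv]
  have hPD' : IsDefectGroup p M B2 P' := hPE ▸ H20.isDefectGroup_conj hM hB2.2.1 hE x
  obtain ⟨I2, hI2, hperf2⟩ := ih _ hTlt T rfl (H10.isPSolvable_subgroup hsolv T) B2 hB2.2.1 P' hPD'
    (fun y hy z hz => Subtype.ext (hab _ hy _ hz)) V hVeq c2 hB2
  obtain ⟨I1, hI1, hperf1⟩ := perfect_comp_equiv e hI2 hperf2 (c := c1) hmem2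
  refine perfect_induced T U hI1 hperf1 hmem hmem1 hirr hirr1 (fun ψ1 h1 ψ2 h2 heq' => ?_)
    fun φa ha' φb hb' heq' => ?_
  · refine Subtype.ext (H13.clifford_correspondence_inj K τ.2
      (Subgroup.ext fun y => hTtw y) hKT ψ1.2 ψ2.2 ?_ ?_ heq')
    · obtain ⟨θ, hθ, hne⟩ := hall ψ1 h1
      rw [Set.mem_singleton_iff] at hθ
      subst hθ
      exact hne
    · obtain ⟨θ, hθ, hne⟩ := hall ψ2 h2
      rw [Set.mem_singleton_iff] at hθ
      subst hθ
      exact hne
  · refine Subtype.ext (H13.clifford_correspondence_inj CN β'.2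
      (Subgroup.ext fun y => hUtw y) hCU φa.2 φb.2 ?_ ?_ heq')
    · obtain ⟨θ, hθ, hne⟩ := hall1 φa ha'
      rw [Set.mem_singleton_iff] at hθ
      subst hθ
      exact hne
    · obtain ⟨θ, hθ, hne⟩ := hall1 φb hb'
      rw [Set.mem_singleton_iff] at hθ
      subst hθ
      exact hne

end H23.PSolv
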