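import Cfsg.Agent.H23.PSolv.GenMain
import Cfsg.Agent.H23.PSolv.KRep
import Cfsg.Agent.H87.McKay.Glau

/-!
Intertwiners of residual representations, the honest action of a commutative `p`-group of operators,
and the multiplicity data of a residual representation on the fixed points of the operators.
-/

set_option autoImplicit false
set_option linter.unusedSectionVars false
set_option linter.style.haveILetI false

open Cfsg
open scoped ComplexConjugate

namespace H23.PSolv

universe u v

variable {M : Ideal AlgInt} [hMp : M.IsPrime] {p : ℕ} [hp : Fact p.Prime]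
variable {A : Type u} [Group A] [Fintype A]

theorem IsKRep.exists_twist {θ : A → ℂ} {n : ℕ} {Φ : A →* Matrix (Fin n) (Fin n) (H20.k M)}
    (h : IsKRep M θ Φ) (e : MulAut A) (he : ∀ a, θ (e a) = θ a) :
    ∃ U V : Matrix (Fin n) (Fin n) (H20.k M), U * V = 1 ∧ V * U = 1 ∧
      ∀ a, U * Φ a = Φ (e a) * U := by
  obtain ⟨U, V, h1, h2, h3⟩ := h.exists_conj (h.comp_equiv e) (fun a => by rw [he]) rfl
  refine ⟨U, V, h1, h2, fun a => ?_⟩
  have h4 : Φ (e a) = U * Φ a * V := h3 a
  rw [h4, Matrix.mul_assoc, h2, Matrix.mul_one]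

/-- Two intertwiners for the same automorphism differ by a scalar. -/
theorem IsKRep.twist_unique {θ : A → ℂ} {n : ℕ} {Φ : A →* Matrix (Fin n) (Fin n) (H20.k M)}
    (h : IsKRep M θ Φ) {e : MulAut A} {U V U' : Matrix (Fin n) (Fin n) (H20.k M)}
    (h1 : U * V = 1) (h2 : V * U = 1) (hU : ∀ a, U * Φ a = Φ (e a) * U)
    (hU' : ∀ a, U' * Φ a = Φ (e a) * U') : ∃ c : H20.k M, U' = c • U := by
  obtain ⟨c, hc⟩ := h.exists_scalar (T := V * U') fun a => by
    have e1 : Φ a * V = V * Φ (e a) := by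
      calc Φ a * V = V * U * (Φ a * V) := by rw [h2, Matrix.one_mul]
        _ = V * (U * Φ a) * V := by simp only [Matrix.mul_assoc]
        _ = V * Φ (e a) * (U * V) := by rw [hU]; simp only [Matrix.mul_assoc]
        _ = V * Φ (e a) := by rw [h1, Matrix.mul_one]
    rw [← Matrix.mul_assoc, e1, Matrix.mul_assoc, ← hU', Matrix.mul_assoc]
  refine ⟨c, ?_⟩
  have := congrArg (U * ·) hc
  simpa [← Matrix.mul_assoc, h1] using this

/-- The honest action of a commutative group of exponent `p` fixing the character. -/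
theorem IsKRep.exists_ops (hM : IsPModular p M) {θ : A → ℂ} {n : ℕ} [NeZero n]
    {Φ : A →* Matrix (Fin n) (Fin n) (H20.k M)} (h : IsKRep M θ Φ)
    {Q : Type v} [CommGroup Q] [MulDistribMulAction Q A] (hexp : ∀ q : Q, q ^ p = 1)
    (hθ : ∀ (q : Q) a, θ (q • a) = θ a) :
    ∃ RQ : Q →* Matrix (Fin n) (Fin n) (H20.k M), (∀ q a, RQ q * Φ a = Φ (q • a) * RQ q) ∧
      ∀ q U, (∀ a, U * Φ a = Φ (q • a) * U) → U ^ p = 1 → U = RQ q := by
  classical
  haveI := (uRed_isRed (M := M) hM).charP
  haveI := H23.isAlgClosed_k (M := M) hM.2.1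
  have hp0 := hp.out.pos
  let e : Q → MulAut A := fun q => MulDistribMulAction.toMulEquiv A q
  have hes : ∀ q a, e q a = q • a := fun q a => rfl
  choose U V hUV hVU hU using fun q => h.exists_twist (e q) fun a => by rw [hes, hθ]
  have hpow : ∀ (q : Q) (X : Matrix (Fin n) (Fin n) (H20.k M)),
      (∀ a, X * Φ a = Φ (q • a) * X) → ∀ m a, X ^ m * Φ a = Φ (q ^ m • a) * X ^ m := by
    intro q X hX m
    induction m with
    | zero => intro a; simp
    | succ m ih =>
      intro a
      rw [pow_succ' X, Matrix.mul_assoc, ih, ← Matrix.mul_assoc, hX, Matrix.mul_assoc, smul_smul,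
        ← pow_succ']
  have hUp : ∀ q, ∃ c : H20.k M, c ≠ 0 ∧ U q ^ p = c • 1 := by
    intro q
    obtain ⟨c, hc⟩ := h.exists_scalar (T := U q ^ p) fun a => by
      rw [hpow q (U q) (fun a => hU q a) p a, hexp, one_smul]
    refine ⟨c, fun h0 => ?_, hc⟩
    rw [h0, zero_smul] at hc
    have h1 : (U q * V q) = 1 := hUV q
    have h2 : U q ^ p * V q ^ p = 1 := by
      rw [← Commute.mul_pow, h1, one_pow]
      exact (hUV q).trans (hVU q).symm
    rw [hc, Matrix.zero_mul] at h2
    exact one_ne_zero (α := H20.k M) (congrFun (congrFun h2.symm 0) 0)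
  choose c hc0 hc using hUp
  choose d hd using fun q => IsAlgClosed.exists_pow_nat_eq (c q) hp0
  have hd0 : ∀ q, d q ≠ 0 := fun q h0 => hc0 q (by rw [← hd q, h0, zero_pow hp0.ne'])
  set R : Q → Matrix (Fin n) (Fin n) (H20.k M) := fun q => (d q)⁻¹ • U q
  have hR : ∀ q a, R q * Φ a = Φ (q • a) * R q := fun q a => by
    simp only [R, Matrix.smul_mul, Matrix.mul_smul, hU q a, hes]
  have hRp : ∀ q, R q ^ p = 1 := fun q => by
    simp only [R, smul_pow, hc, smul_smul, inv_pow, hd]
    rw [inv_mul_cancel₀ (hc0 q), one_smul]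
  have huniq : ∀ q X, (∀ a, X * Φ a = Φ (q • a) * X) → X ^ p = 1 → X = R q := by
    intro q X hX hXp
    obtain ⟨r, hr⟩ := h.twist_unique (hUV q) (hVU q) (fun a => hU q a) hX
    have e2 : X = (r * d q) • R q := by
      simp only [R, smul_smul]
      rw [mul_inv_cancel_right₀ (hd0 q), hr]
    rw [e2, smul_pow, hRp] at hXp
    have h2 := congrFun (congrFun hXp 0) 0
    rw [Matrix.smul_apply, Matrix.one_apply_eq, smul_eq_mul, mul_one] at h2
    have h3 : r * d q = 1 := by
      have := sub_pow_char (r * d q) 1 (p := p)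
      rw [h2, one_pow, sub_self, pow_eq_zero_iff hp0.ne', sub_eq_zero] at this
      exact this
    rw [e2, h3, one_smul]
  have h1 : R 1 = 1 := (huniq 1 1 (fun a => by simp) (one_pow p)).symm
  have hRR : ∀ q q', R q * R q' = R q' * R q := by
    intro q q'
    set W := R q * R q' * R q ^ (p - 1) with hW
    have hinv : R q ^ (p - 1) * R q = 1 := by
      rw [← pow_succ, Nat.sub_add_cancel hp0, hRp]
    have hinv' : R q * R q ^ (p - 1) = 1 := by
      rw [← pow_succ', Nat.sub_add_cancel hp0, hRp]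
    have hWi : ∀ a, W * Φ a = Φ (q' • a) * W := by
      intro a
      rw [hW, Matrix.mul_assoc, hpow q (R q) (hR q) (p - 1), ← Matrix.mul_assoc,
        Matrix.mul_assoc (R q), hR q', ← Matrix.mul_assoc, hR q, ← Matrix.mul_assoc,
        ← Matrix.mul_assoc]
      congr 3
      rw [smul_smul, smul_smul, mul_comm q q', mul_assoc, ← pow_succ', Nat.sub_add_cancel hp0,
        hexp, mul_one]
    have hWp : W ^ p = 1 := by
      have : ∀ m, W ^ m = R q * R q' ^ m * R q ^ (p - 1) := by
        intro m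
        induction m with
        | zero => rw [pow_zero, pow_zero, Matrix.mul_one, hinv']
        | succ m ih =>
          rw [pow_succ, ih, hW, pow_succ]
          simp only [Matrix.mul_assoc]
          rw [← Matrix.mul_assoc (R q ^ (p - 1)) (R q), hinv, Matrix.one_mul]
      rw [this, hRp, Matrix.mul_one, hinv']
    have := huniq q' W hWi hWp
    calc R q * R q' = W * R q := by rw [hW, Matrix.mul_assoc, hinv, Matrix.mul_one]
      _ = R q' * R q := by rw [this]
  have hmul : ∀ q q', R (q * q') = R q * R q' := fun q q' => by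
    refine (huniq _ _ (fun a => ?_) ?_).symm
    · rw [Matrix.mul_assoc, hR, ← Matrix.mul_assoc, hR, Matrix.mul_assoc, smul_smul]
    · have hc' : Commute (R q) (R q') := hRR q q'
      rw [hc'.mul_pow, hRp, hRp, Matrix.one_mul]
  exact ⟨{ toFun := R, map_one' := h1, map_mul' := hmul }, hR, huniq⟩

end H23.PSolv

namespace H23.PSolv

universe u v

variable {M : Ideal AlgInt} [hMp : M.IsPrime] {p : ℕ} [hp : Fact p.Prime]
variable {K : Type u} [Group K] [Fintype K] (C : Subgroup K) [Fintype C]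

/-- The averaging projection to the equivariant maps. -/
noncomputable def avgHom {n b : ℕ} (Φ : K →* Matrix (Fin n) (Fin n) (H20.k M))
    (ΦB : C →* Matrix (Fin b) (Fin b) (H20.k M)) :
    Matrix (Fin n) (Fin b) (H20.k M) →ₗ[H20.k M] Matrix (Fin n) (Fin b) (H20.k M) where
  toFun f := ∑ c : C, Φ c * f * ΦB c⁻¹
  map_add' f g := by simp only [Matrix.mul_add, Matrix.add_mul, Finset.sum_add_distrib]
  map_smul' r f := by simp only [Matrix.mul_smul, Matrix.smul_mul, Finset.smul_sum, RingHom.id_apply]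

/-- Two-sided multiplication. -/
def mulLR {R : Type*} [Field R] {n b : ℕ} (X : Matrix (Fin n) (Fin n) R)
    (Y : Matrix (Fin b) (Fin b) R) : Matrix (Fin n) (Fin b) R →ₗ[R] Matrix (Fin n) (Fin b) R where
  toFun f := X * f * Y
  map_add' f g := by rw [Matrix.mul_add, Matrix.add_mul]
  map_smul' r f := by rw [Matrix.mul_smul, Matrix.smul_mul, RingHom.id_apply]

/-- The trace of a two-sided multiplication. -/
theorem trace_mulLR {R : Type*} [Field R] {n b : ℕ} (X : Matrix (Fin n) (Fin n) R)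
    (Y : Matrix (Fin b) (Fin b) R) :
    LinearMap.trace R (Matrix (Fin n) (Fin b) R) (mulLR X Y) = X.trace * Y.trace := by
  classical
  let e : (Fin n × Fin b → R) ≃ₗ[R] Matrix (Fin n) (Fin b) R :=
    { toFun := fun v => Matrix.of fun i j => v (i, j)
      invFun := fun f ij => f ij.1 ij.2
      map_add' := fun _ _ => rfl
      map_smul' := fun _ _ => rfl
      left_inv := fun _ => rfl
      right_inv := fun _ => rfl }
  rw [LinearMap.trace_eq_matrix_trace R ((Pi.basisFun R (Fin n × Fin b)).map e), Matrix.trace,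
    Matrix.trace, Matrix.trace, Finset.sum_mul_sum, Fintype.sum_prod_type]
  refine Finset.sum_congr rfl fun i _ => Finset.sum_congr rfl fun j _ => ?_
  rw [Matrix.diag_apply, LinearMap.toMatrix_apply, Module.Basis.map_apply, Pi.basisFun_apply,
    Module.Basis.map_repr, LinearEquiv.trans_apply, Pi.basisFun_repr]
  show (X * e (Pi.single (i, j) 1) * Y) i j = X.diag i * Y.diag j
  have h1 : e (Pi.single (i, j) 1) = Matrix.single i j 1 := by
    ext a c
    show (Pi.single (i, j) 1 : Fin n × Fin b → R) (a, c) = _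
    simp [Pi.single_apply, Matrix.single_apply, Prod.ext_iff, eq_comm]
  rw [h1, Matrix.mul_apply, Finset.sum_eq_single j]
  · rw [Matrix.mul_single_apply_same, mul_one, Matrix.diag_apply, Matrix.diag_apply]
  · intro c _ hc
    rw [Matrix.mul_single_apply_of_ne _ _ _ _ _ hc, zero_mul]
  · simp

theorem avgHom_equivariant {n b : ℕ} (Φ : K →* Matrix (Fin n) (Fin n) (H20.k M))
    (ΦB : C →* Matrix (Fin b) (Fin b) (H20.k M)) (f : Matrix (Fin n) (Fin b) (H20.k M)) (d : C) :
    Φ d * avgHom C Φ ΦB f = avgHom C Φ ΦB f * ΦB d := by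
  show Φ d * ∑ c : C, Φ c * f * ΦB c⁻¹ = (∑ c : C, Φ c * f * ΦB c⁻¹) * ΦB d
  rw [Matrix.mul_sum, Matrix.sum_mul]
  refine Fintype.sum_equiv (Equiv.mulLeft d) _ _ fun c => ?_
  rw [Equiv.coe_mulLeft, Subgroup.coe_mul, mul_inv_rev, map_mul, map_mul]
  simp only [Matrix.mul_assoc]
  rw [← map_mul ΦB d⁻¹ d, inv_mul_cancel, map_one, Matrix.mul_one]

theorem exists_multData (hM : IsPModular p M) (hK : ¬ p ∣ Nat.card K)
    {Q : Type v} [Fintype Q] [CommGroup Q] [MulDistribMulAction Q K]
    (hfix : ∀ x : K, x ∈ C ↔ ∀ q : Q, q • x = x)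
    {θ : IrrCharacter K} {β : IrrCharacter C} {n b : ℕ} [NeZero n] [NeZero b]
    {Φ : K →* Matrix (Fin n) (Fin n) (H20.k M)} (hΦ : IsKRep M (θ : K → ℂ) Φ)
    {ΦB : C →* Matrix (Fin b) (Fin b) (H20.k M)} (hΦB : IsKRep M (β : C → ℂ) ΦB)
    (m : ℕ) (hm : classInner (fun c : C => (θ : K → ℂ) c) (β : C → ℂ) = m) (hmp : ¬ p ∣ m)
    (RQ : Q →* Matrix (Fin n) (Fin n) (H20.k M)) (hRQ : ∀ q a, RQ q * Φ a = Φ (q • a) * RQ q) :
    ∃ (d : ℕ) (rB : K → Matrix (Fin b) (Fin b) (H20.k M))
      (φ : Fin d → Matrix (Fin n) (Fin b) (H20.k M))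
      (ψ : Fin d → Matrix (Fin b) (Fin n) (H20.k M)),
      (d : H20.k M) ≠ 0 ∧ (∀ c : C, rB c = ΦB c) ∧
      MultData K (fun x => Φ x) RQ rB φ ψ := by
  classical
  have hr := uRed_isRed (M := M) hM
  have hK0 : (Fintype.card K : H20.k M) ≠ 0 := by
    rw [← Nat.card_eq_fintype_card]; exact hr.natCast_ne_zero hK
  have hCdvd : ¬ p ∣ Nat.card C := fun h => hK (h.trans (Subgroup.card_subgroup_dvd_card C))
  have hC0 : (Fintype.card C : H20.k M) ≠ 0 := by
    rw [← Nat.card_eq_fintype_card]; exact hr.natCast_ne_zero hCdvd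
  obtain ⟨hb0, havg⟩ := hΦB.avg_eq hC0
  let rB : K → Matrix (Fin b) (Fin b) (H20.k M) := fun x => if h : x ∈ C then ΦB ⟨x, h⟩ else 0
  have hrB : ∀ c : C, rB c = ΦB c := fun c => by simp [rB]
  let av := avgHom C Φ ΦB
  let H := LinearMap.range av
  have hHmem : ∀ f ∈ H, ∀ c : C, Φ c * f = f * ΦB c := by
    rintro _ ⟨f, rfl⟩ c
    exact avgHom_equivariant C Φ ΦB f c
  have havH : ∀ f, (∀ c : C, Φ c * f = f * ΦB c) → av f = (Fintype.card C : H20.k M) • f := by
    intro f hf
    show ∑ c : C, Φ c * f * ΦB c⁻¹ = _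
    rw [Finset.sum_congr rfl (g := fun _ => f) fun c _ => by
      rw [hf, Matrix.mul_assoc, ← map_mul, mul_inv_cancel, map_one, Matrix.mul_one],
      Finset.sum_const, Finset.card_univ, Nat.cast_smul_eq_nsmul]
  have hmemH : ∀ f, (∀ c : C, Φ c * f = f * ΦB c) → f ∈ H := fun f hf =>
    ⟨(Fintype.card C : H20.k M)⁻¹ • f, by rw [map_smul, havH f hf, inv_smul_smul₀ hC0]⟩
  set d := Module.finrank (H20.k M) H with hd
  let bs := Module.finBasis (H20.k M) H
  let φ : Fin d → Matrix (Fin n) (Fin b) (H20.k M) := fun i => (bs i : Matrix _ _ _)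
  -- the dual family
  have hfun : ∀ l : Matrix (Fin n) (Fin b) (H20.k M) →ₗ[H20.k M] H20.k M,
      ∃ g : Matrix (Fin b) (Fin n) (H20.k M), ∀ f, l f = (g * f).trace := by
    intro l
    refine ⟨Matrix.of fun j i => l (Matrix.single i j 1), fun f => ?_⟩
    conv_lhs => rw [Matrix.matrix_eq_sum_single f]
    simp only [map_sum]
    rw [Finset.sum_comm, Matrix.trace]
    refine Finset.sum_congr rfl fun j _ => ?_
    rw [Matrix.diag_apply, Matrix.mul_apply]
    refine Finset.sum_congr rfl fun i _ => ?_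
    rw [Matrix.of_apply, show Matrix.single i j (f i j) = f i j • Matrix.single i j (1 : H20.k M) by
      rw [Matrix.smul_single, smul_eq_mul, mul_one], map_smul, smul_eq_mul, mul_comm]
  choose lf hlf using fun i => LinearMap.exists_extend (bs.coord i)
  choose g0 hg0 using fun i => hfun (lf i)
  have hg0φ : ∀ i j, (g0 i * φ j).trace = if i = j then 1 else 0 := by
    intro i j
    rw [← hg0]
    show (lf i).comp H.subtype (bs j) = _
    rw [hlf, Module.Basis.coord_apply, Module.Basis.repr_self, Finsupp.single_apply]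
    exact if_congr eq_comm rfl rfl
  let s : H20.k M := (b : H20.k M) / (Fintype.card C : H20.k M)
  let ψ : Fin d → Matrix (Fin b) (Fin n) (H20.k M) := fun i =>
    s • ∑ c : C, ΦB c * g0 i * Φ (c : K)⁻¹
  have hψC : ∀ i, ∀ c : C, ψ i * Φ c = ΦB c * ψ i := by
    intro i c
    simp only [ψ, Matrix.smul_mul, Matrix.mul_smul]
    congr 1
    rw [Matrix.sum_mul, Matrix.mul_sum]
    refine (Fintype.sum_equiv (Equiv.mulLeft c) _ _ fun x => ?_).symm
    rw [Equiv.coe_mulLeft, Subgroup.coe_mul, mul_inv_rev, map_mul, map_mul]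
    simp only [Matrix.mul_assoc]
    rw [← map_mul Φ (c : K)⁻¹ c, inv_mul_cancel, map_one, Matrix.mul_one]
  have hdual : ∀ i j, ψ i * φ j = if i = j then (1 : Matrix _ _ (H20.k M)) else 0 := by
    intro i j
    have e : ψ i * φ j = s • ∑ c : C, ΦB c * (g0 i * φ j) * ΦB c⁻¹ := by
      simp only [ψ, Matrix.smul_mul, Matrix.sum_mul]
      congr 1
      refine Finset.sum_congr rfl fun c _ => ?_
      have h1 : Φ (c : K)⁻¹ * φ j = φ j * ΦB c⁻¹ := hHmem _ (bs j).2 c⁻¹
      simp only [Matrix.mul_assoc, h1]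
    rw [e, havg, hg0φ, smul_smul]
    by_cases hij : i = j
    · rw [if_pos hij, if_pos hij, mul_one, div_mul_div_cancel₀ hC0, div_self hb0, one_smul]
    · rw [if_neg hij, if_neg hij, mul_zero, mul_zero, zero_smul]
  have hdne : (d : H20.k M) ≠ 0 := by
    -- the projection has trace `d`
    let pr := (Fintype.card C : H20.k M)⁻¹ • av
    have hproj : LinearMap.IsProj H pr := by
      constructor
      · intro f
        rw [LinearMap.smul_apply]
        exact H.smul_mem _ ⟨f, rfl⟩
      · intro f hf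
        rw [LinearMap.smul_apply, havH f (hHmem f hf), inv_smul_smul₀ hC0]
    have htr := hproj.trace
    rw [← hd] at htr
    have hsum : LinearMap.trace (H20.k M) _ av =
        ∑ c : C, (Φ c).trace * (ΦB c⁻¹).trace := by
      rw [← Finset.sum_congr rfl fun (c : C) _ => trace_mulLR (Φ c) (ΦB c⁻¹), ← map_sum]
      congr 1
      refine LinearMap.ext fun f => ?_
      rw [LinearMap.sum_apply]
      rfl
    have hval : ∑ c : C, (Φ c).trace * (ΦB c⁻¹).trace =
        (Fintype.card C : H20.k M) * (m : H20.k M) := by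
      have hmem : ∀ c : C, MemLocalRing M ((θ : K → ℂ) c * conj ((β : C → ℂ) c)) := fun c =>
        H20.memRing_mul (H20.memRing_irr θ _) (H20.memRing_of_isIntegral
          ((H20.isIntegral_irr β c).map (starRingEnd ℂ).toIntAlgHom))
      have e : ∑ c : C, (θ : K → ℂ) c * conj ((β : C → ℂ) c) =
          ((Fintype.card C * m : ℕ) : ℂ) := by
        rw [classInner, inv_mul_eq_iff_eq_mul₀ (Nat.cast_ne_zero.2 Nat.card_pos.ne'),
          Nat.card_eq_fintype_card] at hm
        rw [hm, Nat.cast_mul]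
      have e2 := congrArg (H20.redC M) e
      rw [H20.redC_sum _ _ (fun c _ => hmem c), H20.redC_natCast, Nat.cast_mul] at e2
      rw [← e2]
      refine Finset.sum_congr rfl fun c _ => ?_
      rw [hΦ.trace, hΦB.trace, H12.irr_inv]
      exact (H20.redC_mul (H20.memRing_irr θ _) (H20.memRing_of_isIntegral
          ((H20.isIntegral_irr β c).map (starRingEnd ℂ).toIntAlgHom))).symm
    rw [map_smul, hsum, hval, smul_eq_mul, inv_mul_cancel_left₀ hC0] at htr
    rw [← htr]
    exact hr.natCast_ne_zero hmp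
  refine ⟨d, rB, φ, ψ, hdne, hrB, ?_⟩
  constructor
  · exact hRQ
  · exact hΦ.sec hK0
  · exact hdual
  · intro x hx i
    have hxC := (hfix x).2 hx
    rw [hrB ⟨x, hxC⟩]
    exact hHmem _ (bs i).2 ⟨x, hxC⟩
  · intro x hx i
    have hxC := (hfix x).2 hx
    rw [hrB ⟨x, hxC⟩]
    exact hψC i ⟨x, hxC⟩
  · intro f hf
    have hfH : f ∈ H := hmemH f fun c => by
      rw [hf c ((hfix c).1 c.2), hrB]
    refine ⟨fun i => bs.repr ⟨f, hfH⟩ i, ?_⟩
    have := congrArg Subtype.val (bs.sum_repr ⟨f, hfH⟩)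
    rw [AddSubmonoidClass.coe_finsetSum] at this
    exact this.symm
  · intro g hg hzero
    have hkill : ∀ f0, g * av f0 = 0 := by
      intro f0
      have hfH : av f0 ∈ H := ⟨f0, rfl⟩
      have e2 : av f0 = ∑ i, bs.repr ⟨_, hfH⟩ i • φ i := by
        have := congrArg Subtype.val (bs.sum_repr ⟨_, hfH⟩)
        rw [AddSubmonoidClass.coe_finsetSum] at this
        exact this.symm
      rw [e2, Matrix.mul_sum]
      exact Finset.sum_eq_zero fun i _ => by rw [Matrix.mul_smul, hzero, smul_zero]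
    have htr0 : ∀ f0 : Matrix (Fin n) (Fin b) (H20.k M), (g * f0).trace = 0 := by
      intro f0
      have e : g * av f0 = ∑ c : C, ΦB c * (g * f0) * ΦB c⁻¹ := by
        show g * ∑ c : C, Φ c * f0 * ΦB c⁻¹ = _
        rw [Matrix.mul_sum]
        refine Finset.sum_congr rfl fun c _ => ?_
        rw [← Matrix.mul_assoc, ← Matrix.mul_assoc, hg c ((hfix c).1 c.2), hrB]
        simp only [Matrix.mul_assoc]
      rw [hkill, havg] at e
      have h2 := congrFun (congrFun e.symm 0) 0
      rw [Matrix.smul_apply, Matrix.one_apply_eq, smul_eq_mul, mul_one, Matrix.zero_apply,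
        mul_eq_zero, div_eq_zero_iff] at h2
      exact h2.resolve_left fun h => h.elim hC0 hb0
    ext i j
    have := htr0 (Matrix.single j i 1)
    rw [Matrix.trace_mul_single] at this
    simpa using this

end H23.PSolv
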