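import Cfsg.Agent.H23.PSolv.StepK
import Cfsg.Agent.H15.Extension
import Cfsg.Agent.H25.CoprimeExtension
import Cfsg.Agent.H12.Equivalent

/-!
The extension of `θ × β̄` to the diagonal group over arbitrary operators: assembled from the
preimages of the Sylow subgroups.
-/

set_option autoImplicit false
set_option linter.unusedSectionVars false
set_option linter.style.haveILetI false

open Cfsg H87.McKay
open scoped ComplexConjugate

namespace H23.PSolv

universe u

variable {G : Type u} [Group G] [Finite G]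

attribute [local instance high] Fintype.ofFinite

/-- A representation of an overgroup with the right character on the subgroup can be conjugated
to extend a given representation. -/
theorem exists_rep_ext {H A : Type*} [Group H] [Group A] [Finite A] {V W : Type*}
    [AddCommGroup V] [Module ℂ V] [FiniteDimensional ℂ V]
    [AddCommGroup W] [Module ℂ W] [FiniteDimensional ℂ W]
    (ι : A →* H) (ρ : Representation ℂ A V) (σ : Representation ℂ H W)
    (h : ∀ a, σ.character (ι a) = ρ.character a) :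
    ∃ τ : Representation ℂ H V, ∀ a, τ (ι a) = ρ a := by
  obtain ⟨e⟩ := H12.nonempty_equiv_of_character_eq (σ.comp ι) ρ (funext h)
  refine ⟨(e.toLinearEquiv.conjAlgEquiv ℂ : Module.End ℂ W →* Module.End ℂ V).comp σ, fun a => ?_⟩
  refine LinearMap.ext fun v => ?_
  have h' := Representation.IntertwiningMap.isIntertwining _ _ e.toIntertwiningMap a
    (e.toLinearEquiv.symm v)
  show e.toLinearEquiv (σ (ι a) (e.toLinearEquiv.symm v)) = ρ a v
  conv_rhs => rw [← e.toLinearEquiv.apply_symm_apply v]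
  exact h'

variable {M : Ideal AlgInt} [hMp : M.IsPrime] {p : ℕ} [hp : Fact p.Prime]
variable {K C S : Subgroup G}

theorem exists_dExt (hM : IsPModular p M) (hK : ¬ p ∣ Nat.card K)
    (hS : IsPGroup p S) (hSK : S ≤ Subgroup.normalizer (K : Set G))
    (hC : C = K ⊓ Subgroup.centralizer (S : Set G))
    (hcomm : ∀ a ∈ S, ∀ b ∈ S, a * b * a⁻¹ * b⁻¹ ∈ Subgroup.centralizer (K : Set G))
    (hexp : ∀ a ∈ S, a ^ p ∈ Subgroup.centralizer (K : Set G))
    {N : Subgroup G} (hNK : N ≤ Subgroup.normalizer (K : Set G))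
    (hNS : N ≤ Subgroup.normalizer (S : Set G)) (hCN : C ≤ N)
    {θ : IrrCharacter K} (hθS : S ≤ st (θ : K → ℂ)) (hθN : N ≤ st (θ : K → ℂ))
    {β : IrrCharacter C} (hβ : GCor p (θ : K → ℂ) (β : C → ℂ)) : DExt θ β N := by
  classical
  have hCK : C ≤ K := hC ▸ inf_le_left
  have hNC : N ≤ Subgroup.normalizer (C : Set G) := fun x hx =>
    hC ▸ mem_normalizer_inf_centralizer (hNK hx) (hNS hx)
  have hNst : N ≤ st (β : C → ℂ) := fun x hx =>
    (sg_st_iff hSK hC hS hK hθS hβ (hNK hx) (hNS hx)).1 (hθN hx)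
  have hCcard : ¬ p ∣ Nat.card C := fun h => hK (h.trans (Subgroup.card_dvd_of_le hCK))
  set D := dia K N with hD
  set R0 : Subgroup (G × G) := K.prod C
  have hR0 : R0 ≤ D := prod_le_dia hNK hCK hCN
  have hDn : D ≤ Subgroup.normalizer (R0 : Set (G × G)) := by
    intro x hx
    have h1 : x.2 ∈ N := hx.1.1
    have h2 : x.1 ∈ Subgroup.normalizer (K : Set G) := by
      have := mul_mem (Subgroup.le_normalizer hx.2) (hNK h1)
      rwa [inv_mul_cancel_right] at this
    refine Subgroup.mem_normalizer_iff.2 fun y => ?_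
    show (y.1 ∈ K ∧ y.2 ∈ C) ↔ (x.1 * y.1 * x.1⁻¹ ∈ K ∧ x.2 * y.2 * x.2⁻¹ ∈ C)
    exact and_congr (Subgroup.mem_normalizer_iff.1 h2 _)
      (Subgroup.mem_normalizer_iff.1 (hNC h1) _)
  let R : Subgroup D := R0.subgroupOf D
  haveI hRn : R.Normal := normal_of_le hDn
  set τ : IrrCharacter R := lift hR0 (tbar θ β)
  obtain ⟨n, ρ, hρi, hρ⟩ := τ.2
  haveI := hρi
  have hτv : ∀ (y : R), (τ : R → ℂ) y =
      cf (θ : K → ℂ) ((y : D) : G × G).1 * conj (cf (β : C → ℂ) ((y : D) : G × G).2) := fun y => by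
    rw [lift_apply]
    exact cf_tbar θ β y.2.1 y.2.2
  have hinv : ∀ (g : D) (y : R), ρ.character (MulAut.conjNormal g y) = ρ.character y := by
    intro g y
    rw [hρ, hτv, hτv]
    have h1 : (g : G × G).2 ∈ N := g.2.1.1
    have h2 : (g : G × G).1 ∈ st (θ : K → ℂ) := by
      have := mul_mem (H87.McKay.le_st θ g.2.2) (hθN h1)
      rwa [inv_mul_cancel_right] at this
    show cf (θ : K → ℂ) ((g : G × G).1 * ((y : D) : G × G).1 * ((g : G × G).1)⁻¹) *
      conj (cf (β : C → ℂ) ((g : G × G).2 * ((y : D) : G × G).2 * ((g : G × G).2)⁻¹)) = _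
    rw [h2.2 ((y : D) : G × G).1 y.2.1, (hNst h1).2 ((y : D) : G × G).2 y.2.2]
  have hRcard : ¬ p ∣ Nat.card R := by
    rw [Nat.card_congr (Subgroup.subgroupOfEquivOfLe hR0).toEquiv,
      Nat.card_congr (Subgroup.prodEquiv K C).toEquiv, Nat.card_prod, hp.out.dvd_mul]
    exact fun h => h.elim hK hCcard
  have hdim : ¬ p ∣ Module.finrank ℂ (Fin n → ℂ) := by
    have h1 : ρ.character 1 = (τ : R → ℂ) 1 := by rw [hρ]
    rw [Representation.char_one, H12.irr_apply_one] at h1
    rw [Nat.cast_injective h1]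
    exact fun h => hRcard (h.trans (H12.irr_degree_dvd_card τ))
  obtain ⟨χ, hχ, hχR⟩ := H15.extends_of_sylow hinv (fun r hr => by
    haveI := Fact.mk hr
    let P0 : Sylow r (D ⧸ R) := default
    set P : Subgroup D := (P0 : Subgroup (D ⧸ R)).comap (QuotientGroup.mk' R) with hP
    have hRP : R ≤ P := fun y hy => by
      rw [hP, Subgroup.mem_comap, QuotientGroup.mk'_apply, (QuotientGroup.eq_one_iff y).2 hy]
      exact one_mem _
    have hidx : P.index = (P0 : Subgroup (D ⧸ R)).index :=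
      Subgroup.index_comap_of_surjective _ (QuotientGroup.mk'_surjective R)
    have hco : Nat.Coprime P.index r := by
      rw [hidx, Nat.coprime_comm, hr.coprime_iff_not_dvd]
      exact P0.not_dvd_index
    refine ⟨P, hRP, ?_⟩
    obtain ⟨a, ha⟩ := (IsPGroup.iff_card (p := r)).1 P0.isPGroup'
    have hPcard : Nat.card P = Nat.card R * r ^ a := by
      have h1 := Subgroup.card_mul_index P
      have h2 := Subgroup.card_mul_index R
      have h3 := Subgroup.card_mul_index (P0 : Subgroup (D ⧸ R))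
      have h4 : Nat.card (D ⧸ R) = R.index := rfl
      rw [hidx] at h1
      rw [← h4, ← h3, ha, ← mul_assoc, ← h1] at h2
      exact Nat.eq_of_mul_eq_mul_right (Nat.pos_of_ne_zero Subgroup.index_ne_zero_of_finite) h2.symm
    by_cases hrp : r = p
    · subst hrp
      let R1 : Subgroup P := R.subgroupOf P
      let e1 : R1 ≃* R := Subgroup.subgroupOfEquivOfLe hRP
      let ρ1 : Representation ℂ R1 (Fin n → ℂ) := ρ.comp e1.toMonoidHom
      haveI : ρ1.IsIrreducible :=
        H15.isIrreducible_of_res e1.symm.toMonoidHom _ fun x => by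
          show ρ (e1 (e1.symm x)) = ρ x
          rw [e1.apply_symm_apply]
      obtain ⟨σ, -, hσ⟩ := H25.exists_extension_of_pGroup r R1 ⟨a, by
          have h1 := Subgroup.card_mul_index R1
          rw [hPcard, Nat.card_congr e1.toEquiv] at h1
          exact Nat.eq_of_mul_eq_mul_left Nat.card_pos h1⟩
        ρ1
        (fun g y => hinv (g : D) (e1 y)) hdim (Nat.card R) hRcard
        (fun y => by
          show LinearMap.det (ρ (e1 y)) ^ Nat.card R = 1
          rw [← map_pow, ← map_pow, pow_card_eq_one', map_one, map_one])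
      refine ⟨σ, hco, fun y => ?_⟩
      exact hσ ⟨⟨(y : D), hRP y.2⟩, y.2⟩
    · set E : Subgroup G := (P.map D.subtype).map (MonoidHom.snd G G) with hEdef
      have hE : ¬ p ∣ Nat.card E := by
        have hd : Nat.card E ∣ Nat.card P :=
          (Subgroup.card_map_dvd _ _).trans (Subgroup.card_map_dvd _ _)
        intro h
        rcases hp.out.dvd_mul.1 (hPcard ▸ h.trans hd) with h' | h'
        · exact hRcard h'
        · exact hrp ((Nat.prime_dvd_prime_iff_eq hp.out hr).1 (hp.out.dvd_of_dvd_pow h')).symm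
      have hEN : E ≤ N := by
        rintro _ ⟨_, ⟨y, -, rfl⟩, rfl⟩
        exact y.2.1.1
      have hCE : C ≤ E := fun c hc =>
        ⟨((1 : G), c), ⟨⟨((1 : G), c), hR0 ⟨K.one_mem, hc⟩⟩,
          hRP (show ((1 : G), c) ∈ R0 from ⟨K.one_mem, hc⟩), rfl⟩, rfl⟩
      obtain ⟨χ, hχ⟩ := exists_kExt hM hK hE hS hSK hC hcomm hexp (hEN.trans hNK) (hEN.trans hNS)
        hCE hθS (hEN.trans hθN) hβ
      obtain ⟨m, σ, -, hσ⟩ := χ.2
      let ι : P →* dia K E := MonoidHom.codRestrict (D.subtype.comp P.subtype) _ fun y =>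
        ⟨⟨⟨_, ⟨(y : D), y.2, rfl⟩, rfl⟩, (y : D).2.1.2⟩, (y : D).2.2⟩
      obtain ⟨σ', hσ'⟩ := exists_rep_ext (Subgroup.inclusion hRP) ρ (σ.comp ι) (fun y => by
        show σ.character (ι (Subgroup.inclusion hRP y)) = _
        rw [hσ, hρ, hτv, ← hχ ((y : D) : G × G).1 y.2.1 ((y : D) : G × G).2 y.2.2,
          ← cf_coe (χ : dia K E → ℂ) (ι (Subgroup.inclusion hRP y))]
        rfl)
      exact ⟨σ', hco, hσ'⟩)
  refine ⟨⟨χ, hχ⟩, fun k hk c hc => ?_⟩
  have h := hχR ⟨⟨(k, c), hR0 ⟨hk, hc⟩⟩, ⟨hk, hc⟩⟩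
  rw [hρ, hτv] at h
  rw [cf_apply _ (hR0 ⟨hk, hc⟩)]
  exact h

end H23.PSolv
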