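import Cfsg.Agent.H23.PSolv.StepData
import Cfsg.Agent.H13.Linear
import Cfsg.Agent.H87.McKay.Orbit

/-!
The extension of `θ × β̄` to the diagonal group over a group of operators of order prime to `p`.
-/

set_option autoImplicit false
set_option linter.unusedSectionVars false
set_option linter.style.haveILetI false

open Cfsg H87.McKay
open scoped ComplexConjugate Kronecker

namespace H23.PSolv

universe u

variable {G : Type u} [Group G] [Finite G]

attribute [local instance high] Fintype.ofFinite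
attribute [local instance 11000] instFintypeProd Fin.fintype

/-- The pairs `(t, n)` with `n ∈ N` normalizing `K` and `t ≡ n` modulo `K`. -/
def dia (K N : Subgroup G) : Subgroup (G × G) where
  carrier := {x | (x.2 ∈ N ∧ x.2 ∈ Subgroup.normalizer (K : Set G)) ∧ x.1 * x.2⁻¹ ∈ K}
  one_mem' := ⟨⟨one_mem _, one_mem _⟩, by simp⟩
  mul_mem' := by
    rintro ⟨a, b⟩ ⟨a', b'⟩ ⟨⟨hb, hb2⟩, h⟩ ⟨⟨hb', hb2'⟩, h'⟩
    refine ⟨⟨mul_mem hb hb', mul_mem hb2 hb2'⟩, ?_⟩
    show a * a' * (b * b')⁻¹ ∈ K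
    rw [show a * a' * (b * b')⁻¹ = (a * b⁻¹) * (b * (a' * b'⁻¹) * b⁻¹) by group]
    exact mul_mem h ((Subgroup.mem_normalizer_iff.1 hb2 _).1 h')
  inv_mem' := by
    rintro ⟨a, b⟩ ⟨⟨hb, hb2⟩, h⟩
    refine ⟨⟨inv_mem hb, inv_mem hb2⟩, ?_⟩
    show a⁻¹ * b⁻¹⁻¹ ∈ K
    rw [show a⁻¹ * b⁻¹⁻¹ = b⁻¹ * (a * b⁻¹)⁻¹ * b by group]
    exact (Subgroup.mem_normalizer_iff''.1 hb2 _).1 (inv_mem h)

theorem mem_dia {K N : Subgroup G} (hN : N ≤ Subgroup.normalizer (K : Set G)) {x : G × G} :
    x ∈ dia K N ↔ x.2 ∈ N ∧ x.1 * x.2⁻¹ ∈ K :=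
  ⟨fun h => ⟨h.1.1, h.2⟩, fun h => ⟨⟨h.1, hN h.1⟩, h.2⟩⟩

theorem prod_le_dia {K N C : Subgroup G} (hN : N ≤ Subgroup.normalizer (K : Set G)) (hCK : C ≤ K)
    (hCN : C ≤ N) : K.prod C ≤ dia K N := fun x hx =>
  (mem_dia hN).2 ⟨hCN hx.2, mul_mem hx.1 (inv_mem (hCK hx.2))⟩

/-- The character `θ × β̄`. -/
noncomputable def tbar {K C : Subgroup G} (θ : IrrCharacter K) (β : IrrCharacter C) :
    IrrCharacter (K.prod C) :=
  H12.irrCongr (Subgroup.prodEquiv K C)
    ⟨fun x => (θ : K → ℂ) x.1 * (H12.conjIrr β : C → ℂ) x.2,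
      H13.isIrrCharacter_prod θ.2 (H12.conjIrr β).2⟩

theorem cf_tbar {K C : Subgroup G} (θ : IrrCharacter K) (β : IrrCharacter C) {k c : G} (hk : k ∈ K)
    (hc : c ∈ C) :
    cf (tbar θ β : K.prod C → ℂ) (k, c) = cf (θ : K → ℂ) k * conj (cf (β : C → ℂ) c) := by
  rw [cf_apply _ (Subgroup.mem_prod.2 ⟨hk, hc⟩ : (k, c) ∈ K.prod C), cf_apply _ hk, cf_apply _ hc]
  rfl

theorem degree_tbar {K C : Subgroup G} (θ : IrrCharacter K) (β : IrrCharacter C) :
    H12.degree (tbar θ β : K.prod C → ℂ) =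
      H12.degree (θ : K → ℂ) * H12.degree (β : C → ℂ) := by
  have h : (tbar θ β : K.prod C → ℂ) 1 =
      ((H12.degree (θ : K → ℂ) * H12.degree (β : C → ℂ) : ℕ) : ℂ) := by
    have e := cf_tbar θ β K.one_mem C.one_mem
    rw [show ((1 : G), (1 : G)) = ((1 : K.prod C) : G × G) from rfl, cf_coe,
      show (1 : G) = ((1 : K) : G) from rfl, cf_coe, show ((1 : K) : G) = ((1 : C) : G) from rfl,
      cf_coe, H12.irr_apply_one θ, H12.irr_apply_one β, Complex.conj_natCast] at e
    rw [e, Nat.cast_mul]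
  rw [H12.irr_apply_one] at h
  exact_mod_cast h

/-- An extension of `θ × β̄` to the diagonal group. -/
def DExt {K C : Subgroup G} (θ : IrrCharacter K) (β : IrrCharacter C) (N : Subgroup G) : Prop :=
  ∃ χ : IrrCharacter (dia K N), ∀ k ∈ K, ∀ c ∈ C,
    cf (χ : dia K N → ℂ) (k, c) = cf (θ : K → ℂ) k * conj (cf (β : C → ℂ) c)

/-- Kronecker products of spanning sets span. -/
theorem span_kronecker {R : Type*} [CommRing R] {n b : Type*} [Fintype n] [DecidableEq n]
    [Fintype b] [DecidableEq b] {ι κ : Type*} (X : ι → Matrix n n R) (Y : κ → Matrix b b R)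
    (hX : Submodule.span R (Set.range X) = ⊤) (hY : Submodule.span R (Set.range Y) = ⊤) :
    Submodule.span R (Set.range fun ij : ι × κ => X ij.1 ⊗ₖ Y ij.2) = ⊤ := by
  set W := Submodule.span R (Set.range fun ij : ι × κ => X ij.1 ⊗ₖ Y ij.2) with hW
  have h : ∀ A B, A ⊗ₖ B ∈ W := by
    intro A B
    have hA : A ∈ Submodule.span R (Set.range X) := by rw [hX]; exact Submodule.mem_top
    induction hA using Submodule.span_induction with
    | mem A hA =>
      obtain ⟨i, rfl⟩ := hA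
      have hB : B ∈ Submodule.span R (Set.range Y) := by rw [hY]; exact Submodule.mem_top
      induction hB using Submodule.span_induction with
      | mem B hB => obtain ⟨j, rfl⟩ := hB; exact Submodule.subset_span ⟨(i, j), rfl⟩
      | zero => rw [Matrix.kronecker_zero]; exact W.zero_mem
      | add B B' _ _ h1 h2 => rw [Matrix.kronecker_add]; exact W.add_mem h1 h2
      | smul r B _ h1 => rw [Matrix.kronecker_smul]; exact W.smul_mem r h1
    | zero => rw [Matrix.zero_kronecker]; exact W.zero_mem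
    | add A A' _ _ h1 h2 => rw [Matrix.add_kronecker]; exact W.add_mem h1 h2
    | smul r A _ h1 => rw [Matrix.smul_kronecker]; exact W.smul_mem r h1
  refine eq_top_iff.2 fun Z _ => ?_
  rw [Matrix.matrix_eq_sum_single Z]
  refine Submodule.sum_mem _ fun i _ => Submodule.sum_mem _ fun j _ => ?_
  have := h (Matrix.single i.1 j.1 (Z i j)) (Matrix.single i.2 j.2 1)
  rw [Matrix.single_kronecker_single, mul_one] at this
  simpa using this

variable {M : Ideal AlgInt} [hMp : M.IsPrime] {p : ℕ} [hp : Fact p.Prime]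
variable {K C S E : Subgroup G}

set_option maxHeartbeats 2000000 in
theorem exists_kExt (hM : IsPModular p M) (hK : ¬ p ∣ Nat.card K) (hE : ¬ p ∣ Nat.card E)
    (hS : IsPGroup p S) (hSK : S ≤ Subgroup.normalizer (K : Set G))
    (hC : C = K ⊓ Subgroup.centralizer (S : Set G))
    (hcomm : ∀ a ∈ S, ∀ b ∈ S, a * b * a⁻¹ * b⁻¹ ∈ Subgroup.centralizer (K : Set G))
    (hexp : ∀ a ∈ S, a ^ p ∈ Subgroup.centralizer (K : Set G))
    (hEK : E ≤ Subgroup.normalizer (K : Set G)) (hES : E ≤ Subgroup.normalizer (S : Set G))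
    (hCE : C ≤ E) {θ : IrrCharacter K} (hθS : S ≤ st (θ : K → ℂ)) (hθE : E ≤ st (θ : K → ℂ))
    {β : IrrCharacter C} (hβ : GCor p (θ : K → ℂ) (β : C → ℂ)) : DExt θ β E := by
  classical
  have hr := uRed_isRed (M := M) hM
  haveI := hr.charP
  have hCK : C ≤ K := hC ▸ inf_le_left
  have hCcard : ¬ p ∣ Nat.card C := fun h => hK (h.trans (Subgroup.card_dvd_of_le hCK))
  have hEC : E ≤ Subgroup.normalizer (C : Set G) := fun x hx =>
    hC ▸ mem_normalizer_inf_centralizer (hEK hx) (hES hx)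
  have hEst : E ≤ st (β : C → ℂ) := fun x hx =>
    (sg_st_iff hSK hC hS hK hθS hβ (hEK hx) (hES hx)).1 (hθE hx)
  -- the operators
  let Q := (H87.McKay.cj hSK).range
  letI : CommGroup Q :=
    { (inferInstance : Group Q) with
      mul_comm := by
        rintro ⟨_, a, rfl⟩ ⟨_, b, rfl⟩
        refine Subtype.ext (MulEquiv.ext fun x => Subtype.ext ?_)
        show ((H87.McKay.cj hSK a * H87.McKay.cj hSK b) x : G) = ((H87.McKay.cj hSK b * H87.McKay.cj hSK a) x : G)
        rw [← map_mul, ← map_mul, cj_apply, cj_apply]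
        have h := Subgroup.mem_centralizer_iff.1 (hcomm _ (inv_mem b.2) _ (inv_mem a.2)) x x.2
        rw [inv_inv, inv_inv] at h
        push_cast
        calc (a : G) * b * x * ((a : G) * b)⁻¹
            = (a : G) * b * (x * ((b : G)⁻¹ * (a : G)⁻¹ * b * a)) * ((a : G) * b)⁻¹ *
                ((a : G) * b) * ((b : G) * a)⁻¹ := by group
          _ = (a : G) * b * (((b : G)⁻¹ * (a : G)⁻¹ * b * a) * x) * ((b : G) * a)⁻¹ := by
              rw [h]; group
          _ = (b : G) * a * x * ((b : G) * a)⁻¹ := by group }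
  haveI : Finite (MulAut K) :=
    Finite.of_injective (fun f => ⇑f) fun f g h => MulEquiv.ext (congrFun h)
  letI : Fintype Q := Fintype.ofFinite Q
  have hQexp : ∀ q : Q, q ^ p = 1 := by
    rintro ⟨_, a, rfl⟩
    refine Subtype.ext (MulEquiv.ext fun x => Subtype.ext ?_)
    show ((H87.McKay.cj hSK a ^ p) x : G) = x
    rw [← map_pow, cj_apply, SubmonoidClass.coe_pow,
      ← Subgroup.mem_centralizer_iff.1 (hexp a a.2) x x.2, mul_inv_cancel_right]
  let C' := C.subgroupOf K
  have hfix : ∀ x : K, x ∈ C' ↔ ∀ q : Q, q • x = x := by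
    intro x
    rw [Subgroup.mem_subgroupOf, hC, fix_cj hSK]
    exact ⟨fun h q => by obtain ⟨_, s, rfl⟩ := q; exact h s, fun h s => h ⟨_, s, rfl⟩⟩
  have hθQ : ∀ (q : Q) (a : K), (θ : K → ℂ) (q • a) = (θ : K → ℂ) a := by
    rintro ⟨_, s, rfl⟩ a
    exact (inv_cj hSK θ).2 hθS s a
  -- residual representations
  obtain ⟨Φ, hΦ⟩ := exists_krep hM hK θ
  let β' : IrrCharacter C' := H87.McKay.lift hCK β
  have hC'card : ¬ p ∣ Nat.card C' := fun h => hK (h.trans (Subgroup.card_subgroup_dvd_card C'))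
  obtain ⟨ΦB, hΦB⟩ := exists_krep hM hC'card β'
  haveI : NeZero (H12.degree (θ : K → ℂ)) := ⟨(H12.irr_degree_pos θ).ne'⟩
  haveI : NeZero (H12.degree (β' : C' → ℂ)) := ⟨(H12.irr_degree_pos β').ne'⟩
  obtain ⟨RQ, hRQ, hRQu⟩ := hΦ.exists_ops hM hQexp hθQ
  obtain ⟨d, rB, φ, ψ, hd, hrB, hD⟩ := exists_multData C' hM hK hfix hΦ hΦB
    (mlt (θ : K → ℂ) (β : C → ℂ)) (classInner_lift hCK θ β) hβ RQ hRQ
  obtain ⟨ρ, hρ, hρ'⟩ := hD.exists_rho
  -- the automorphisms
  let aK : E →* MulAut K := H87.McKay.cj hEK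
  have haKC : ∀ (e : E) (c : C'), ((aK e c : K) : G) ∈ C := fun e c =>
    (Subgroup.mem_normalizer_iff.1 (hEC e.2) _).1 c.2
  let aC : E → MulAut C' := fun e =>
    { toFun := fun c => ⟨aK e c, haKC e c⟩
      invFun := fun c => ⟨aK e⁻¹ c, haKC e⁻¹ c⟩
      left_inv := fun c => Subtype.ext (by
        show aK e⁻¹ (aK e c) = _
        rw [← MulAut.mul_apply, ← map_mul, inv_mul_cancel, map_one, MulAut.one_apply])
      right_inv := fun c => Subtype.ext (by
        show aK e (aK e⁻¹ c) = _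
        rw [← MulAut.mul_apply, ← map_mul, mul_inv_cancel, map_one, MulAut.one_apply])
      map_mul' := fun a b => Subtype.ext (map_mul (aK e) (a : K) b) }
  have hθe : ∀ (e : E) (a : K), (θ : K → ℂ) (aK e a) = (θ : K → ℂ) a := fun e a => by
    have := (hθE e.2).2 a a.2
    rw [cf_coe, show (e : G) * a * (e : G)⁻¹ = ((aK e a : K) : G) from rfl, cf_coe] at this
    exact this
  have hβe : ∀ (e : E) (c : C'), (β' : C' → ℂ) (aC e c) = (β' : C' → ℂ) c := fun e c => by
    have hb : ∀ x : C', (β' : C' → ℂ) x = cf (β : C → ℂ) ((x : K) : G) := fun x => by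
      rw [lift_apply]
    rw [hb, hb]
    exact (hEst e.2).2 _ c.2
  -- intertwiners
  have hAex : ∀ e : E, ∃ A Ai : Matrix _ _ (H20.k M), A * Ai = 1 ∧ Ai * A = 1 ∧
      (∀ a, A * Φ a = Φ (aK e a) * A) ∧
      ∀ h : (e : G) ∈ C, A = Φ ⟨e, hCK h⟩ := by
    intro e
    by_cases he : (e : G) ∈ C
    · refine ⟨Φ ⟨e, hCK he⟩, Φ ⟨e, hCK he⟩⁻¹, ?_, ?_, fun a => ?_, fun _ => rfl⟩
      · rw [← map_mul, mul_inv_cancel, map_one]
      · rw [← map_mul, inv_mul_cancel, map_one]
      · rw [← map_mul, ← map_mul]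
        congr 1
        apply Subtype.ext
        show (e : G) * a = e * a * (e : G)⁻¹ * e
        rw [inv_mul_cancel_right]
    · obtain ⟨U, V, h1, h2, h3⟩ := hΦ.exists_twist (aK e) (hθe e)
      exact ⟨U, V, h1, h2, h3, fun h => absurd h he⟩
  choose A Ai hAAi hAiA hA hAC using hAex
  have hBex : ∀ e : E, ∃ B Bi : Matrix _ _ (H20.k M), B * Bi = 1 ∧ Bi * B = 1 ∧
      (∀ c, B * ΦB c = ΦB (aC e c) * B) ∧
      ∀ h : (e : G) ∈ C, B = ΦB ⟨⟨e, hCK h⟩, h⟩ ∧ Bi = ΦB ⟨⟨e, hCK h⟩, h⟩⁻¹ := by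
    intro e
    by_cases he : (e : G) ∈ C
    · refine ⟨ΦB ⟨⟨e, hCK he⟩, he⟩, ΦB ⟨⟨e, hCK he⟩, he⟩⁻¹, ?_, ?_, fun a => ?_,
        fun _ => ⟨rfl, rfl⟩⟩
      · rw [← map_mul, mul_inv_cancel, map_one]
      · rw [← map_mul, inv_mul_cancel, map_one]
      · rw [← map_mul, ← map_mul]
        congr 1
        apply Subtype.ext
        apply Subtype.ext
        show (e : G) * ((a : K) : G) = e * ((a : K) : G) * (e : G)⁻¹ * e
        rw [inv_mul_cancel_right]
    · obtain ⟨U, V, h1, h2, h3⟩ := hΦB.exists_twist (aC e) (hβe e)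
      exact ⟨U, V, h1, h2, h3, fun h => absurd h he⟩
  choose B Bi hBBi hBiB hB hBC using hBex
  have hAmul : ∀ e f, ∃ a : H20.k M, A e * A f = a • A (e * f) := fun e f =>
    hΦ.twist_unique (hAAi _) (hAiA _) (hA _) fun x => by
      rw [Matrix.mul_assoc, hA, ← Matrix.mul_assoc, hA, Matrix.mul_assoc, ← MulAut.mul_apply,
        ← map_mul]
  have haC : ∀ e f c, aC (e * f) c = aC e (aC f c) := fun e f c => Subtype.ext (by
    show aK (e * f) c = aK e (aK f c)
    rw [map_mul, MulAut.mul_apply])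
  have hBmul : ∀ e f, ∃ b : H20.k M, B e * B f = b • B (e * f) := fun e f =>
    hΦB.twist_unique (hBBi _) (hBiB _) (hB _) fun x => by
      rw [Matrix.mul_assoc, hB, ← Matrix.mul_assoc, hB, Matrix.mul_assoc, haC]
  choose a ha using hAmul
  choose b hb using hBmul
  have ha0 : ∀ e f, a e f ≠ 0 := fun e f h0 => by
    have h1 : A e * A f * (Ai f * Ai e) = 1 := by
      rw [Matrix.mul_assoc, ← Matrix.mul_assoc (A f), hAAi, Matrix.one_mul, hAAi]
    rw [ha, h0, zero_smul, Matrix.zero_mul] at h1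
    exact one_ne_zero (α := H20.k M) (congrFun (congrFun h1.symm 0) 0)
  have hb0 : ∀ e f, b e f ≠ 0 := fun e f h0 => by
    have h1 : B e * B f * (Bi f * Bi e) = 1 := by
      rw [Matrix.mul_assoc, ← Matrix.mul_assoc (B f), hBBi, Matrix.one_mul, hBBi]
    rw [hb, h0, zero_smul, Matrix.zero_mul] at h1
    exact one_ne_zero (α := H20.k M) (congrFun (congrFun h1.symm 0) 0)
  have hBimul : ∀ e f, Bi f * Bi e = (b e f)⁻¹ • Bi (e * f) := fun e f => by
    calc Bi f * Bi e = (b e f)⁻¹ • ((Bi f * Bi e) * (b e f • B (e * f)) * Bi (e * f)) := by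
          rw [Matrix.mul_smul, Matrix.smul_mul, smul_smul, inv_mul_cancel₀ (hb0 e f), one_smul,
            Matrix.mul_assoc _ (B (e * f)), hBBi, Matrix.mul_one]
      _ = _ := by
          rw [← hb, Matrix.mul_assoc (Bi f), ← Matrix.mul_assoc (Bi e), hBiB, Matrix.one_mul, hBiB,
            Matrix.one_mul]
  -- the matrices on the multiplicity space
  have hPex : ∀ e j, ∃ c : Fin d → H20.k M, A e * φ j * Bi e = ∑ i, c i • φ i := by
    intro e j
    refine hD.full _ fun x hx => ?_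
    have hxC : x ∈ C' := (hfix x).2 hx
    set y : C' := ⟨x, hxC⟩
    set y' : C' := (aC e).symm y
    have hy : aC e y' = y := (aC e).apply_symm_apply y
    have hy' : aK e (y' : K) = x := congrArg Subtype.val hy
    have hyfix : ∀ q : Q, q • (y' : K) = y' := (hfix _).1 y'.2
    have e1 : Bi e * ΦB y = ΦB y' * Bi e := by
      calc Bi e * ΦB y = Bi e * (ΦB (aC e y') * B e) * Bi e := by
            rw [hy]; simp only [Matrix.mul_assoc, hBBi, Matrix.mul_one]
        _ = _ := by rw [← hB, ← Matrix.mul_assoc (Bi e), hBiB, Matrix.one_mul]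
    calc Φ x * (A e * φ j * Bi e) = (Φ (aK e (y' : K)) * A e) * φ j * Bi e := by
          rw [hy']; simp only [Matrix.mul_assoc]
      _ = A e * (Φ (y' : K) * φ j) * Bi e := by rw [← hA]; simp only [Matrix.mul_assoc]
      _ = A e * φ j * (ΦB y' * Bi e) := by
          rw [hD.phiC _ hyfix, hrB]; simp only [Matrix.mul_assoc]
      _ = A e * φ j * Bi e * rB x := by
          rw [← e1, ← hrB y]; simp only [Matrix.mul_assoc]
          rfl
  choose Pc hPc using hPex
  let P : E → Matrix (Fin d) (Fin d) (H20.k M) := fun e => Matrix.of fun i j => Pc e j i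
  have hcoef : ∀ (c : Fin d → H20.k M) i, (ψ i * ∑ j, c j • φ j) 0 0 = c i := by
    intro c i
    rw [Matrix.mul_sum, Matrix.sum_apply, Finset.sum_eq_single i]
    · simp [hD.dual]
    · intro j _ hj; simp [hD.dual, Ne.symm hj]
    · simp
  have huniq : ∀ c c' : Fin d → H20.k M, ∑ j, c j • φ j = ∑ j, c' j • φ j → c = c' :=
    fun c c' h => funext fun i => by rw [← hcoef c i, h, hcoef c' i]
  have hPmul : ∀ e f, P e * P f = (a e f / b e f) • P (e * f) := by
    intro e f
    ext i j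
    refine congrFun (huniq (fun i => (P e * P f) i j)
      (fun i => ((a e f / b e f) • P (e * f)) i j) ?_) i
    calc ∑ i, (P e * P f) i j • φ i = A e * (∑ l, Pc f j l • φ l) * Bi e := by
          rw [Matrix.mul_sum, Matrix.sum_mul]
          simp only [Matrix.mul_smul, Matrix.smul_mul, hPc, Matrix.mul_apply, Finset.sum_smul,
            Finset.smul_sum, smul_smul]
          rw [Finset.sum_comm]
          refine Finset.sum_congr rfl fun l _ => Finset.sum_congr rfl fun i _ => ?_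
          show (Pc e l i * Pc f j l) • φ i = (Pc f j l * Pc e l i) • φ i
          rw [mul_comm]
      _ = A e * A f * φ j * (Bi f * Bi e) := by rw [← hPc]; simp only [Matrix.mul_assoc]
      _ = _ := by
          rw [ha, hBimul, Matrix.smul_mul, Matrix.smul_mul, Matrix.mul_smul, smul_smul, hPc,
            Finset.smul_sum]
          refine Finset.sum_congr rfl fun i _ => ?_
          rw [smul_smul, Matrix.smul_apply, smul_eq_mul, div_eq_mul_inv]
          rfl
  have hone : ∀ e : E, (e : G) ∈ C → P e = 1 := by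
    intro e he
    ext i j
    refine congrFun (huniq (fun i => P e i j) (fun i => (1 : Matrix (Fin d) (Fin d) (H20.k M)) i j)
      ?_) i
    set y : C' := ⟨⟨e, hCK he⟩, he⟩
    calc ∑ i, P e i j • φ i = Φ (y : K) * φ j * Bi e := by
          rw [← hAC e he]; exact (hPc e j).symm
      _ = φ j := by
          rw [hD.phiC _ ((hfix _).1 y.2), hrB, (hBC e he).2, Matrix.mul_assoc, ← map_mul,
            mul_inv_cancel, map_one, Matrix.mul_one]
      _ = _ := by
          rw [Finset.sum_eq_single j]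
          · simp
          · intro i _ hi; simp [hi]
          · simp
  have hP1 : P 1 = 1 := hone 1 C.one_mem
  let act : E →* Equiv.Perm Q := MonoidHom.mk' (fun e =>
    { toFun := fun q => ⟨aK e * q * (aK e)⁻¹, by
        obtain ⟨_, s, rfl⟩ := q
        refine ⟨⟨(e : G) * s * (e : G)⁻¹, (Subgroup.mem_normalizer_iff.1 (hES e.2) _).1 s.2⟩, ?_⟩
        refine MulEquiv.ext fun x => Subtype.ext ?_
        show _ = ((aK e (H87.McKay.cj hSK s ((aK e)⁻¹ x)) : K) : G)
        rw [← map_inv]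
        show (e : G) * s * (e : G)⁻¹ * x * ((e : G) * s * (e : G)⁻¹)⁻¹ = _
        show _ = (e : G) * ((s : G) * ((e : G)⁻¹ * x * (e : G)⁻¹⁻¹) * (s : G)⁻¹) * (e : G)⁻¹
        group⟩
      invFun := fun q => ⟨(aK e)⁻¹ * q * aK e, by
        obtain ⟨_, s, rfl⟩ := q
        refine ⟨⟨(e : G)⁻¹ * s * e, (Subgroup.mem_normalizer_iff''.1 (hES e.2) _).1 s.2⟩, ?_⟩
        refine MulEquiv.ext fun x => Subtype.ext ?_
        show _ = (((aK e)⁻¹ (H87.McKay.cj hSK s (aK e x)) : K) : G)
        rw [← map_inv]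
        show (e : G)⁻¹ * s * e * x * ((e : G)⁻¹ * s * e)⁻¹ = _
        show _ = (e : G)⁻¹ * ((s : G) * ((e : G) * x * (e : G)⁻¹) * (s : G)⁻¹) * (e : G)⁻¹⁻¹
        group⟩
      left_inv := fun q => Subtype.ext (by simp [mul_assoc])
      right_inv := fun q => Subtype.ext (by simp [mul_assoc]) })
    fun e f => Equiv.ext fun q => Subtype.ext (by
      show aK (e * f) * (q : MulAut K) * (aK (e * f))⁻¹ = _
      rw [map_mul, mul_inv_rev]
      simp [mul_assoc])
  have hP : ∀ e q, P e * ρ q = ρ (act e q) * P e := by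
    intro e q
    have hX : A e * RQ q * Ai e = RQ (act e q) := by
      refine hRQu _ _ (fun x => ?_) ?_
      · set y := (aK e)⁻¹ x
        have hy : aK e y = x := MulAut.apply_inv_self K (aK e) x
        calc A e * RQ q * Ai e * Φ x = A e * RQ q * (Ai e * (Φ (aK e y) * A e)) * Ai e := by
              rw [hy]; simp only [Matrix.mul_assoc, hAAi, Matrix.mul_one]
          _ = A e * (RQ q * Φ y) * Ai e := by
              rw [← hA, ← Matrix.mul_assoc (Ai e), hAiA, Matrix.one_mul]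
              simp only [Matrix.mul_assoc]
          _ = (A e * Φ (q • y)) * RQ q * Ai e := by rw [hRQ]; simp only [Matrix.mul_assoc]
          _ = Φ (act e q • x) * (A e * RQ q * Ai e) := by
              rw [hA]; simp only [Matrix.mul_assoc]; rfl
      · have : ∀ m, (A e * RQ q * Ai e) ^ m = A e * RQ q ^ m * Ai e := by
          intro m
          induction m with
          | zero => rw [pow_zero, pow_zero, Matrix.mul_one, hAAi]
          | succ m ih =>
            rw [pow_succ, ih, pow_succ]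
            simp only [Matrix.mul_assoc]
            rw [← Matrix.mul_assoc (Ai e) (A e), hAiA, Matrix.one_mul]
        rw [this, ← map_pow, hQexp, map_one, Matrix.mul_one, hAAi]
    ext i j
    refine congrFun (huniq (fun i => (P e * ρ q) i j) (fun i => (ρ (act e q) * P e) i j) ?_) i
    calc ∑ i, (P e * ρ q) i j • φ i = A e * (RQ q * φ j) * Bi e := by
          rw [hρ, Matrix.mul_sum, Matrix.sum_mul]
          simp only [Matrix.mul_smul, Matrix.smul_mul, hPc, Matrix.mul_apply, Finset.sum_smul,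
            Finset.smul_sum, smul_smul]
          rw [Finset.sum_comm]
          refine Finset.sum_congr rfl fun l _ => Finset.sum_congr rfl fun i _ => ?_
          show (Pc e l i * ρ q l j) • φ i = (ρ q l j * Pc e l i) • φ i
          rw [mul_comm]
      _ = RQ (act e q) * (A e * φ j * Bi e) := by
          rw [← hX]
          simp only [Matrix.mul_assoc]
          rw [← Matrix.mul_assoc (Ai e) (A e), hAiA, Matrix.one_mul]
      _ = _ := by
          rw [hPc, Matrix.mul_sum]
          simp only [Matrix.mul_smul, hρ, Matrix.mul_apply, Finset.sum_smul, Finset.smul_sum,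
            smul_smul]
          rw [Finset.sum_comm]
          refine Finset.sum_congr rfl fun l _ => Finset.sum_congr rfl fun i _ => ?_
          show (Pc e j i * ρ (act e q) l i) • φ l = (ρ (act e q) l i * Pc e j i) • φ l
          rw [mul_comm]
  obtain ⟨ν, hν0, hν, hν1⟩ := hD.exists_normalisation p hQexp
    (by rwa [Fintype.card_fin]) ρ hρ hρ' act P
    (fun e => (a e e⁻¹ / b e e⁻¹)⁻¹ • P e⁻¹) (fun e f => a e f / b e f)
    (fun e => by
      rw [Matrix.mul_smul, hPmul, mul_inv_cancel, hP1, smul_smul,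
        inv_mul_cancel₀ (div_ne_zero (ha0 _ _) (hb0 _ _)), one_smul])
    hPmul hP
  have hνC : ∀ e : E, (e : G) ∈ C → ν e = 1 := by
    intro e he
    refine hν1 e (Equiv.ext fun q => Subtype.ext (MulEquiv.ext fun x => Subtype.ext ?_)) (hone e he)
    obtain ⟨_, s, rfl⟩ := q
    show ((aK e (H87.McKay.cj hSK s ((aK e)⁻¹ x)) : K) : G) = ((H87.McKay.cj hSK s x : K) : G)
    rw [← map_inv]
    show (e : G) * ((s : G) * ((e : G)⁻¹ * x * (e : G)⁻¹⁻¹) * (s : G)⁻¹) * (e : G)⁻¹ =
      (s : G) * x * (s : G)⁻¹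
    have h := (hC ▸ he : (e : G) ∈ K ⊓ Subgroup.centralizer (S : Set G)).2
    have hse : (s : G) * e = e * s := Subgroup.mem_centralizer_iff.1 h s s.2
    have hse' : (e : G)⁻¹ * (s : G)⁻¹ = (s : G)⁻¹ * (e : G)⁻¹ := by
      rw [← mul_inv_rev, ← mul_inv_rev, hse]
    calc (e : G) * ((s : G) * ((e : G)⁻¹ * x * (e : G)⁻¹⁻¹) * (s : G)⁻¹) * (e : G)⁻¹
        = ((e : G) * s) * (e : G)⁻¹ * x * e * ((s : G)⁻¹ * (e : G)⁻¹) := by group
      _ = (s : G) * x * (e * ((e : G)⁻¹ * (s : G)⁻¹)) := by rw [← hse, ← hse']; group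
      _ = _ := by group
  -- the representation of the diagonal group
  have hEN : ∀ x : dia K E, (x : G × G).2 ∈ E := fun x => x.2.1.1
  let ev : dia K E → E := fun x => ⟨(x : G × G).2, hEN x⟩
  let kv : dia K E → K := fun x => ⟨(x : G × G).1 * (x : G × G).2⁻¹, x.2.2⟩
  let T : dia K E → Matrix (Fin (H12.degree (θ : K → ℂ)) × Fin (H12.degree (β' : C' → ℂ)))
      (Fin (H12.degree (θ : K → ℂ)) × Fin (H12.degree (β' : C' → ℂ))) (H20.k M) := fun x =>
    (ν (ev x))⁻¹ • ((Φ (kv x) * A (ev x)) ⊗ₖ (Bi (ev x)).transpose)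
  have hTmul : ∀ x y, T (x * y) = T x * T y := by
    intro x y
    have hev : ev (x * y) = ev x * ev y := rfl
    have hkv : kv (x * y) = kv x * aK (ev x) (kv y) := Subtype.ext (by
      show (x : G × G).1 * (y : G × G).1 * ((x : G × G).2 * (y : G × G).2)⁻¹ =
        (x : G × G).1 * (x : G × G).2⁻¹ *
          ((x : G × G).2 * ((y : G × G).1 * (y : G × G).2⁻¹) * (x : G × G).2⁻¹)
      group)
    simp only [T, hev, hkv]
    rw [Matrix.smul_mul, Matrix.mul_smul, smul_smul, ← Matrix.mul_kronecker_mul,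
      show Φ (kv x) * A (ev x) * (Φ (kv y) * A (ev y)) =
        Φ (kv x) * (A (ev x) * Φ (kv y)) * A (ev y) by simp only [Matrix.mul_assoc],
      hA, show Φ (kv x) * (Φ (aK (ev x) (kv y)) * A (ev x)) * A (ev y) =
        Φ (kv x) * Φ (aK (ev x) (kv y)) * (A (ev x) * A (ev y)) by simp only [Matrix.mul_assoc],
      ha, Matrix.mul_smul, ← map_mul, ← Matrix.transpose_mul, hBimul, Matrix.transpose_smul,
      Matrix.smul_kronecker, Matrix.kronecker_smul, smul_smul, smul_smul]
    congr 1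
    have h := hν (ev x) (ev y)
    have := hν0 (ev x)
    have := hν0 (ev y)
    have := hν0 (ev x * ev y)
    have := hb0 (ev x) (ev y)
    have := ha0 (ev x) (ev y)
    field_simp at h ⊢
    linear_combination -h
  let e := finProdFinEquiv (m := H12.degree (θ : K → ℂ)) (n := H12.degree (β' : C' → ℂ))
  have hT1 : T 1 = 1 := by
    have hev : ev 1 = 1 := rfl
    have hkv : kv 1 = 1 := Subtype.ext (by show (1 : G) * 1⁻¹ = 1; simp)
    simp only [T, hev, hkv]
    rw [hνC 1 C.one_mem, inv_one, one_smul, hAC 1 C.one_mem, (hBC 1 C.one_mem).2,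
      show Φ (⟨((1 : E) : G), hCK C.one_mem⟩ : K) = 1 from map_one Φ,
      show (⟨⟨((1 : E) : G), hCK C.one_mem⟩, C.one_mem⟩ : C')⁻¹ = 1 from inv_one, map_one, map_one,
      Matrix.transpose_one, Matrix.one_mul, Matrix.one_kronecker_one]
  let Φd : dia K E →* Matrix (Fin (H12.degree (θ : K → ℂ) * H12.degree (β' : C' → ℂ)))
      (Fin (H12.degree (θ : K → ℂ) * H12.degree (β' : C' → ℂ))) (H20.k M) :=
    { toFun := fun x => Matrix.reindexAlgEquiv (H20.k M) (H20.k M) e (T x)
      map_one' := by rw [hT1, map_one]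
      map_mul' := fun x y => by rw [hTmul, map_mul] }
  have hRle : K.prod C ≤ dia K E := prod_le_dia hEK hCK hCE
  have hTval : ∀ {k c : G} (hk : k ∈ K) (hc : c ∈ C), T ⟨(k, c), hRle ⟨hk, hc⟩⟩ =
      Φ ⟨k, hk⟩ ⊗ₖ (ΦB ⟨⟨c, hCK hc⟩, hc⟩⁻¹).transpose := by
    intro k c hk hc
    simp only [T]
    rw [hνC _ hc, inv_one, one_smul, hAC _ hc, (hBC _ hc).2, ← map_mul]
    congr 2
    apply Subtype.ext
    show k * c⁻¹ * c = k
    group
  have hspan : Submodule.span (H20.k M) (Set.range Φd) = ⊤ := by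
    have hY : Submodule.span (H20.k M) (Set.range fun c : C' => (ΦB c⁻¹).transpose) = ⊤ := by
      have h1 : Submodule.map (Matrix.transposeLinearEquiv _ _ (H20.k M) (H20.k M)).toLinearMap
          (Submodule.span (H20.k M) (Set.range ΦB)) = ⊤ := by
        rw [hΦB.span, Submodule.map_top, LinearEquiv.range]
      rw [Submodule.map_span, ← Set.range_comp] at h1
      rw [← h1]
      congr 1
      rw [← (Equiv.inv C').surjective.range_comp]
      congr 1
      funext c
      simp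
    have h2 := span_kronecker _ _ hΦ.span hY
    refine eq_top_iff.2 fun X _ => ?_
    obtain ⟨Y, rfl⟩ := (Matrix.reindexAlgEquiv (H20.k M) (H20.k M) e).surjective X
    have hY' : Y ∈ Submodule.span (H20.k M)
        (Set.range fun ij : K × C' => Φ ij.1 ⊗ₖ (ΦB ij.2⁻¹).transpose) := by
      rw [h2]; exact Submodule.mem_top
    induction hY' using Submodule.span_induction with
    | mem Y hY =>
      obtain ⟨⟨⟨k, hk⟩, ⟨c, hcK⟩, hc⟩, rfl⟩ := hY
      refine Submodule.subset_span ⟨⟨(k, c), hRle ⟨hk, hc⟩⟩, ?_⟩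
      show Matrix.reindexAlgEquiv (H20.k M) (H20.k M) e (T _) = _
      exact congrArg _ (hTval (c := c) hk hc)
    | zero => rw [map_zero]; exact Submodule.zero_mem _
    | add Y Y' _ _ h h' => rw [map_add]; exact Submodule.add_mem _ (h Submodule.mem_top) (h' Submodule.mem_top)
    | smul r Y _ h => rw [map_smul]; exact Submodule.smul_mem _ _ (h Submodule.mem_top)
  have hdia : ¬ p ∣ Nat.card (dia K E) := by
    intro hd
    obtain ⟨x, hx⟩ := exists_prime_orderOf_dvd_card' p hd
    have h2 : (x : G × G).2 = 1 := by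
      have h' : (⟨_, hEN x⟩ : E) ^ p = 1 := Subtype.ext (congrArg (fun z : dia K E => (z : G × G).2)
        (show x ^ p = 1 by rw [← hx]; exact pow_orderOf_eq_one x))
      rcases (Nat.dvd_prime hp.out).1 (orderOf_dvd_of_pow_eq_one h') with h'' | h''
      · exact congrArg Subtype.val (orderOf_eq_one_iff.1 h'')
      · exact absurd (h'' ▸ orderOf_dvd_natCard _) hE
    have h1 : (x : G × G).1 ∈ K := by
      have := x.2.2
      rwa [h2, inv_one, mul_one] at this
    have h' : (⟨_, h1⟩ : K) ^ p = 1 := Subtype.ext (congrArg (fun z : dia K E => (z : G × G).1)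
      (show x ^ p = 1 by rw [← hx]; exact pow_orderOf_eq_one x))
    rcases (Nat.dvd_prime hp.out).1 (orderOf_dvd_of_pow_eq_one h') with h'' | h''
    · have hx1 : x = 1 := Subtype.ext (Prod.ext (congrArg Subtype.val (orderOf_eq_one_iff.1 h'')) h2)
      rw [hx1, orderOf_one] at hx
      exact hp.out.one_lt.ne hx
    · exact hK (h'' ▸ orderOf_dvd_natCard _)
  haveI : NeZero (H12.degree (θ : K → ℂ) * H12.degree (β' : C' → ℂ)) :=
    ⟨Nat.mul_ne_zero (H12.irr_degree_pos θ).ne' (H12.irr_degree_pos β').ne'⟩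
  obtain ⟨χ, hdeg, hχ⟩ := exists_char_of_krep hM hdia Φd hspan
  -- the restriction
  set τ := tbar θ β
  have hdegτ : H12.degree (τ : K.prod C → ℂ) = H12.degree (χ : dia K E → ℂ) := by
    rw [hdeg, degree_tbar]
    congr 1
  have hred : ∀ r : K.prod C,
      H20.redC M (cf (χ : dia K E → ℂ) r) = H20.redC M ((τ : K.prod C → ℂ) r) := by
    rintro ⟨⟨k, c⟩, hk, hc⟩
    rw [cf_apply _ (hRle ⟨hk, hc⟩), ← hχ.trace]
    show (Matrix.reindexAlgEquiv (H20.k M) (H20.k M) e (T _)).trace = _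
    have htr : ∀ Z, (Matrix.reindexAlgEquiv (H20.k M) (H20.k M) e Z).trace = Z.trace := fun Z => by
      rw [Matrix.reindexAlgEquiv_apply, Matrix.trace, Matrix.trace]
      exact Fintype.sum_equiv e.symm _ _ fun _ => rfl
    rw [htr, hTval hk hc, Matrix.trace_kronecker, Matrix.trace_transpose, hΦ.trace, hΦB.trace,
      ← H20.redC_mul (H20.memRing_irr θ _) (H20.memRing_irr β' _)]
    congr 1
    rw [← cf_coe (τ : K.prod C → ℂ) ⟨(k, c), Subgroup.mem_prod.2 ⟨hk, hc⟩⟩, cf_tbar θ β hk hc,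
      cf_apply _ hk, cf_apply _ hc, H12.irr_inv, lift_apply]
    exact congrArg _ (congrArg _ (cf_apply _ hc))
  have hne : mlt (χ : dia K E → ℂ) (τ : K.prod C → ℂ) ≠ 0 := by
    intro h0
    have hRcard : ¬ p ∣ Nat.card (K.prod C) := fun h =>
      hdia (h.trans (Subgroup.card_dvd_of_le hRle))
    have hmem : ∀ (φ : IrrCharacter (K.prod C)) r, MemLocalRing M (conj ((φ : K.prod C → ℂ) r)) :=
      fun φ r => H20.memRing_of_isIntegral
        ((H20.isIntegral_irr φ r).map (starRingEnd ℂ).toIntAlgHom)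
    have hmemχ : ∀ r : K.prod C, MemLocalRing M (cf (χ : dia K E → ℂ) r) := fun r => by
      rw [cf_apply _ (hRle r.2)]; exact H20.memRing_irr χ _
    have hs := mlt_spec hRle χ τ
    rw [h0, Nat.cast_zero, ip, classInner, mul_eq_zero, inv_eq_zero, Nat.cast_eq_zero] at hs
    have hs' := congrArg (H20.redC M) (hs.resolve_left Nat.card_pos.ne')
    rw [H20.redC_zero, H20.redC_sum _ _ (fun r _ => H20.memRing_mul (hmemχ r) (by
      rw [cf_coe]; exact hmem τ r))] at hs'
    have h1 : ∑ r : K.prod C, (τ : K.prod C → ℂ) r * conj ((τ : K.prod C → ℂ) r) =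
        ((Nat.card (K.prod C) : ℕ) : ℂ) := by
      have h := H12.classInner_irr_self τ
      rwa [classInner, inv_mul_eq_one₀ (Nat.cast_ne_zero.2 Nat.card_pos.ne'), eq_comm] at h
    have h1' := congrArg (H20.redC M) h1
    rw [H20.redC_natCast, H20.redC_sum _ _ (fun r _ =>
      H20.memRing_mul (H20.memRing_irr τ r) (hmem τ r))] at h1'
    refine hr.natCast_ne_zero hRcard (h1'.symm.trans (Eq.trans ?_ hs'))
    refine Finset.sum_congr rfl fun r _ => ?_
    rw [cf_coe, H20.redC_mul (H20.memRing_irr τ r) (hmem τ r), H20.redC_mul (hmemχ r) (hmem τ r),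
      hred]
  refine ⟨χ, fun k hk c hc => ?_⟩
  rw [← cf_tbar θ β hk hc]
  exact extends_of_degree_eq hRle χ hne hdegτ.symm (k, c) ⟨hk, hc⟩

end H23.PSolv
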