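import Mathlib.LinearAlgebra.Matrix.ToLin
import Mathlib.LinearAlgebra.FiniteDimensional.Lemmas
import Mathlib.RepresentationTheory.Basic
import Mathlib.RingTheory.Noetherian.Nilpotent
import Mathlib.RingTheory.Nilpotent.Lemmas
import Mathlib.RingTheory.Localization.FractionRing
import Mathlib.Algebra.CharP.Lemmas
import Mathlib.Algebra.CharP.Algebra
import Mathlib.RingTheory.Polynomial.Basic
import Mathlib.RingTheory.FiniteType
import Mathlib.Tactic

/-!
The generic element `∑ x_q z_q` of a module over the group algebra of an elementary abelian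
`p`-group: substituting `x_q ↦ x_q f(q)` with group elements `f(q)` does not change the ranks of
its powers.
-/

set_option autoImplicit false
set_option linter.unusedSectionVars false

namespace H23.PSolv

open Module Matrix

universe u v

variable {Q : Type v} {k : Type u} [Field k] {F : Type*} [Field F]
  [Algebra (MvPolynomial Q k) F] [IsFractionRing (MvPolynomial Q k) F]

/-- The generic variable. -/
noncomputable def gx (k : Type u) [Field k] [Algebra (MvPolynomial Q k) F]
    (q : Q) : F :=
  algebraMap (MvPolynomial Q k) F (MvPolynomial.X q)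

/-- Constants in the generic field. -/
noncomputable def gC (Q : Type v) [Algebra (MvPolynomial Q k) F] : k →+* F :=
  (algebraMap (MvPolynomial Q k) F).comp MvPolynomial.C

variable {ι : Type*} [Fintype ι] [DecidableEq ι]

/-- A constant matrix as an endomorphism of the generic space. -/
noncomputable def gEnd (Q : Type v) [Algebra (MvPolynomial Q k) F] (z : Matrix ι ι k) : End F (ι → F) :=
  Matrix.toLin' (z.map (gC (F := F) Q))

theorem gEnd_mul (z w : Matrix ι ι k) : gEnd (F := F) Q (z * w) = gEnd (F := F) Q z * gEnd (F := F) Q w := by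
  rw [gEnd, Matrix.map_mul, Matrix.toLin'_mul]
  rfl

theorem gEnd_one : gEnd (F := F) Q (1 : Matrix ι ι k) = 1 := by
  rw [gEnd, Matrix.map_one _ (map_zero _) (map_one _), Matrix.toLin'_one]
  rfl

variable [Fintype Q]

/-- The generic element of a family of constant matrices. -/
noncomputable def genEl (z : Q → Matrix ι ι k) : End F (ι → F) :=
  ∑ q, gx (F := F) k q • gEnd (F := F) Q (z q)

section Dim

variable {K V : Type*} [Field K] [AddCommGroup V] [Module K V] [FiniteDimensional K V]

omit [Fintype Q] [Fintype ι] [DecidableEq ι] in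
/-- A map congruent to the identity along a filtration does not lose dimensions. -/
theorem finrank_le_of_congr (Vn : ℕ → Submodule K V) (hanti : ∀ n, Vn (n + 1) ≤ Vn n) {N : ℕ}
    (hN : Vn N = ⊥) (h0 : Vn 0 = ⊤) (S : V → V) (hS : ∀ n, ∀ v ∈ Vn n, S v - v ∈ Vn (n + 1))
    (K0 K1 : Submodule K V) (hK : ∀ v ∈ K0, S v ∈ K1) : finrank K K0 ≤ finrank K K1 := by
  have key : ∀ j, ∀ n, n + j = N →
      finrank K (K0 ⊓ Vn n : Submodule K V) ≤ finrank K (K1 ⊓ Vn n : Submodule K V) := by
    intro j
    induction j with
    | zero =>
      intro n hn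
      rw [add_zero] at hn
      subst hn
      rw [hN]
      rw [inf_bot_eq, inf_bot_eq]
    | succ j ih =>
      intro n hn
      have h1 := ih (n + 1) (by omega)
      have e : ∀ L : Submodule K V, finrank K (L ⊓ Vn n : Submodule K V) =
          finrank K (Submodule.map (Vn (n + 1)).mkQ (L ⊓ Vn n)) +
          finrank K (L ⊓ Vn (n + 1) : Submodule K V) := fun L => by
        have h := LinearMap.finrank_range_add_finrank_ker
          ((Vn (n + 1)).mkQ.domRestrict (L ⊓ Vn n))
        rw [LinearMap.range_domRestrict, LinearMap.ker_domRestrict, Submodule.ker_mkQ] at h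
        rw [← h]
        congr 1
        have e2 : Submodule.comap (L ⊓ Vn n).subtype (L ⊓ Vn (n + 1)) =
            Submodule.comap (L ⊓ Vn n).subtype (Vn (n + 1)) := by
          ext x
          simp only [Submodule.mem_comap, Submodule.mem_inf]
          exact ⟨fun h => h.2, fun h => ⟨x.2.1, h⟩⟩
        rw [← LinearEquiv.finrank_eq (Submodule.comapSubtypeEquivOfLe
          (p := L ⊓ Vn (n + 1)) (q := L ⊓ Vn n) (inf_le_inf_left _ (hanti n))), e2]
      rw [e K0, e K1]
      refine Nat.add_le_add (Submodule.finrank_mono ?_) h1
      rintro _ ⟨v, ⟨hv0, hvn⟩, rfl⟩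
      refine ⟨S v, ⟨hK v hv0, ?_⟩, ?_⟩
      · have := (Vn n).add_mem (hanti n (hS n v hvn)) hvn
        rwa [sub_add_cancel] at this
      · rw [Submodule.mkQ_apply, Submodule.mkQ_apply, Submodule.Quotient.eq]
        exact hS n v hvn
  have := key N 0 (zero_add N)
  rwa [h0, inf_top_eq, inf_top_eq] at this

end Dim

section Twist

variable [CommGroup Q] (p : ℕ) [Fact p.Prime] [CharP F p]

/-- The augmentation. -/
noncomputable def eps : MonoidAlgebra F Q →ₐ[F] F :=
  MonoidAlgebra.lift F F Q 1

/-- The augmentation ideal. -/
noncomputable def aug : Ideal (MonoidAlgebra F Q) := RingHom.ker (eps (Q := Q) (F := F))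

theorem eps_single (q : Q) (c : F) : eps (MonoidAlgebra.single q c) = c := by
  simp [eps]

variable (hexp : ∀ q : Q, q ^ p = 1)
include hexp

theorem pow_char_eq (a : MonoidAlgebra F Q) :
    a ^ p = MonoidAlgebra.single 1 (eps a ^ p) := by
  have : CharP (MonoidAlgebra F Q) p :=
    charP_of_injective_algebraMap (algebraMap F (MonoidAlgebra F Q)).injective p
  induction a using MonoidAlgebra.induction_linear with
  | zero => simp [Nat.Prime.ne_zero Fact.out]
  | add x y hx hy => rw [add_pow_char, hx, hy, map_add, add_pow_char, MonoidAlgebra.single_add]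
  | single q c => rw [MonoidAlgebra.single_pow, hexp, eps_single]

theorem aug_nilpotent : ∃ N, aug (Q := Q) (F := F) ^ N = ⊥ := by
  have hle : aug (Q := Q) (F := F) ≤ nilradical _ := fun a ha => by
    rw [mem_nilradical]
    refine ⟨p, ?_⟩
    rw [pow_char_eq p hexp, show eps a = 0 from ha, zero_pow (Nat.Prime.ne_zero Fact.out)]
    exact MonoidAlgebra.single_zero _
  haveI : IsNoetherianRing (MonoidAlgebra F Q) :=
    isNoetherian_of_tower F inferInstance
  obtain ⟨N, hN⟩ := IsNoetherianRing.isNilpotent_nilradical (MonoidAlgebra F Q)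
  exact ⟨N, le_bot_iff.1 ((Ideal.pow_right_mono hle N).trans (le_of_eq hN))⟩

variable (f : Q → Q)

omit hexp in
/-- The substitution on polynomials. -/
noncomputable def subPol : MvPolynomial Q k →+* MonoidAlgebra F Q :=
  MvPolynomial.eval₂Hom ((MonoidAlgebra.singleOneRingHom).comp (gC (F := F) Q))
    fun q => MonoidAlgebra.single (f q) (gx (F := F) k q)

theorem subPol_isUnit {a : MvPolynomial Q k} (ha : a ≠ 0) : IsUnit (subPol (F := F) f a) := by
  have he : eps (subPol f a) = algebraMap (MvPolynomial Q k) F a := by
    have : ((eps (Q := Q) (F := F)).toRingHom.comp (subPol f)) =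
        algebraMap (MvPolynomial Q k) F := by
      refine MvPolynomial.ringHom_ext (fun r => ?_) fun i => ?_
      · simp [subPol, eps, gC]
      · simp [subPol, eps, gx]
    exact RingHom.congr_fun this a
  refine (isUnit_pow_iff (Nat.Prime.ne_zero (Fact.out : p.Prime))).1 ?_
  rw [pow_char_eq p hexp, he]
  exact (isUnit_iff_ne_zero.2 (pow_ne_zero _ ((map_ne_zero_iff _
    (IsFractionRing.injective (MvPolynomial Q k) F)).2 ha))).map
      MonoidAlgebra.singleOneRingHom

/-- The substitution on the generic field. -/
noncomputable def sub : F →+* MonoidAlgebra F Q :=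
  IsLocalization.lift (M := nonZeroDivisors (MvPolynomial Q k)) (g := subPol f)
    fun y => subPol_isUnit p hexp f (nonZeroDivisors.ne_zero y.2)

theorem sub_gx (q : Q) : sub (k := k) p hexp f (gx (F := F) k q) = MonoidAlgebra.single (f q) (gx (F := F) k q) := by
  rw [sub, gx, IsLocalization.lift_eq]
  simp [subPol, gx]

theorem sub_gC (c : k) :
    sub (k := k) p hexp f (gC (F := F) Q c) = MonoidAlgebra.single 1 (gC (F := F) Q c) := by
  rw [sub, gC, RingHom.comp_apply, IsLocalization.lift_eq]
  simp [subPol, gC]

theorem eps_sub (a : F) : eps (sub (k := k) p hexp f a) = a := by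
  have : ((eps (Q := Q) (F := F)).toRingHom.comp (sub (k := k) p hexp f)) = RingHom.id _ := by
    refine IsLocalization.ringHom_ext (nonZeroDivisors (MvPolynomial Q k))
      (MvPolynomial.ringHom_ext (fun r => ?_) fun i => ?_)
    · show eps (sub (k := k) p hexp f (gC (F := F) Q r)) = gC (F := F) Q r
      rw [sub_gC, eps_single]
    · show eps (sub (k := k) p hexp f (gx (F := F) k i)) = gx (F := F) k i
      rw [sub_gx, eps_single]
  exact RingHom.congr_fun this a

/-- The substitution extended to the group algebra. -/
noncomputable def subAlg : MonoidAlgebra F Q →+* MonoidAlgebra F Q :=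
  MonoidAlgebra.liftNCRingHom (sub (k := k) p hexp f) (MonoidAlgebra.of F Q)
    fun _ _ => Commute.all _ _

theorem subAlg_single (q : Q) (c : F) :
    subAlg (k := k) p hexp f (MonoidAlgebra.single q c) = sub (k := k) p hexp f c * MonoidAlgebra.single q 1 :=
  MonoidAlgebra.liftNCRingHom_single _ _ _ _ _

omit hexp in
theorem sub_one_mem (q : Q) :
    MonoidAlgebra.single q (1 : F) - 1 ∈ aug (Q := Q) (F := F) := by
  show eps _ = 0
  rw [map_sub, eps_single, map_one, sub_self]

theorem subAlg_congr : ∀ n, ∀ r ∈ aug (Q := Q) (F := F) ^ n,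
    subAlg (k := k) p hexp f r - r ∈ aug ^ (n + 1) := by
  have h0 : ∀ r, subAlg (k := k) p hexp f r - r ∈ aug (Q := Q) (F := F) := by
    intro r
    show eps _ = 0
    induction r using MonoidAlgebra.induction_linear with
    | zero => simp
    | add x y hx hy => rw [map_add, add_sub_add_comm, map_add, hx, hy, add_zero]
    | single q c =>
      rw [map_sub, subAlg_single, map_mul, eps_sub, eps_single, eps_single, mul_one, sub_self]
  have h1 : ∀ r ∈ aug (Q := Q) (F := F), subAlg (k := k) p hexp f r - r ∈ aug ^ 2 := by
    intro r hr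
    have key : ∀ s, subAlg (k := k) p hexp f s - s -
        (subAlg (k := k) p hexp f (MonoidAlgebra.single 1 (eps s)) - MonoidAlgebra.single 1 (eps s)) ∈
        aug (Q := Q) (F := F) ^ 2 := by
      intro s
      induction s using MonoidAlgebra.induction_linear with
      | zero => simp
      | add x y hx hy =>
        convert Ideal.add_mem _ hx hy using 1
        rw [map_add eps, MonoidAlgebra.single_add, map_add, map_add]
        abel
      | single q c =>
        rw [eps_single, subAlg_single, subAlg_single, ← MonoidAlgebra.one_def, mul_one,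
          show MonoidAlgebra.single q c =
            MonoidAlgebra.single 1 c * MonoidAlgebra.single q (1 : F) by
            rw [MonoidAlgebra.single_mul_single, one_mul, mul_one],
          show ∀ a b s : MonoidAlgebra F Q,
            a * s - b * s - (a - b) = (a - b) * (s - 1) by intros; ring, sq]
        refine Ideal.mul_mem_mul ?_ (sub_one_mem q)
        show eps _ = 0
        rw [map_sub, eps_sub, eps_single, sub_self]
    have := key r
    rwa [show eps r = 0 from hr, MonoidAlgebra.single_zero, map_zero, sub_zero, sub_zero] at this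
  intro n
  induction n with
  | zero =>
    intro r _
    rw [zero_add, pow_one]
    exact h0 r
  | succ n ih =>
    intro r hr
    rw [pow_succ] at hr
    induction hr using Submodule.mul_induction_on' with
    | mem_mul_mem a ha b hb =>
      rw [map_mul, show subAlg (k := k) p hexp f a * subAlg (k := k) p hexp f b - a * b =
        (subAlg (k := k) p hexp f a - a) * subAlg (k := k) p hexp f b + a * (subAlg (k := k) p hexp f b - b) by ring]
      refine Ideal.add_mem _ ?_ ?_
      · have hb' : subAlg (k := k) p hexp f b ∈ aug (Q := Q) (F := F) := by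
          have := Ideal.add_mem _ (h0 b) hb
          rwa [sub_add_cancel] at this
        rw [pow_succ]
        exact Ideal.mul_mem_mul (ih a ha) hb'
      · rw [show n + 1 + 1 = n + 2 by rfl, pow_add]
        exact Ideal.mul_mem_mul ha (h1 b hb)
    | add x _ y _ hx hy =>
      rw [map_add, add_sub_add_comm]
      exact Ideal.add_mem _ hx hy

variable (τ : Q →* Matrix ι ι k)

omit hexp in
/-- The representation over the generic field. -/
noncomputable def genRep : Representation F Q (ι → F) where
  toFun q := gEnd (F := F) Q (τ q)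
  map_one' := by rw [map_one, gEnd_one]
  map_mul' a b := by rw [map_mul, gEnd_mul]

omit hexp in
/-- The action of the group algebra. -/
noncomputable def act : MonoidAlgebra F Q →ₐ[F] End F (ι → F) :=
  (genRep τ).asAlgebraHom

omit hexp in
theorem act_single (q : Q) (c : F) :
    act τ (MonoidAlgebra.single q c) = c • gEnd (F := F) Q (τ q) :=
  Representation.asAlgebraHom_single _ q c

/-- The semilinear map. -/
noncomputable def twS (v : ι → F) : ι → F :=
  ∑ i, act τ (sub (k := k) p hexp f (v i)) (Pi.single i 1)

theorem twS_add (v w : ι → F) :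
    twS p hexp f τ (v + w) = twS p hexp f τ v + twS p hexp f τ w := by
  rw [twS, twS, twS, ← Finset.sum_add_distrib]
  refine Finset.sum_congr rfl fun i _ => ?_
  rw [Pi.add_apply, map_add, map_add, LinearMap.add_apply]

theorem twS_zero : twS p hexp f τ (0 : ι → F) = 0 := by simp [twS]

theorem twS_sum {α : Type*} (s : Finset α) (w : α → ι → F) :
    twS p hexp f τ (∑ a ∈ s, w a) = ∑ a ∈ s, twS p hexp f τ (w a) := by
  classical
  induction s using Finset.induction_on with
  | empty => simp [twS_zero]
  | insert a s ha ih => rw [Finset.sum_insert ha, Finset.sum_insert ha, twS_add, ih]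

theorem twS_smul (c : F) (v : ι → F) :
    twS p hexp f τ (c • v) = act τ (sub (k := k) p hexp f c) (twS p hexp f τ v) := by
  rw [twS, twS, map_sum]
  refine Finset.sum_congr rfl fun i _ => ?_
  rw [Pi.smul_apply, smul_eq_mul, map_mul, map_mul]
  rfl

omit hexp in
theorem commute_gEnd_act {z : Matrix ι ι k} (hz : ∀ q, Commute z (τ q))
    (r : MonoidAlgebra F Q) : Commute (gEnd (F := F) Q z) (act τ r) := by
  induction r using MonoidAlgebra.induction_linear with
  | zero => rw [map_zero]; exact Commute.zero_right _
  | add x y hx hy => rw [map_add]; exact hx.add_right hy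
  | single q c =>
    rw [act_single]
    refine Commute.smul_right ?_ c
    rw [Commute, SemiconjBy, ← gEnd_mul, ← gEnd_mul, (hz q).eq]

theorem twS_gEnd {z : Matrix ι ι k} (hz : ∀ q, Commute z (τ q)) (v : ι → F) :
    twS p hexp f τ (gEnd (F := F) Q z v) = gEnd (F := F) Q z (twS p hexp f τ v) := by
  have h1 : ∀ i, gEnd (F := F) Q z (Pi.single i (1 : F)) =
      ∑ j, gC (F := F) Q (z j i) • Pi.single j (1 : F) := by
    intro i
    funext j
    rw [Finset.sum_apply, Finset.sum_eq_single j]
    · simp [gEnd, Matrix.mulVec_single, Matrix.toLin'_apply]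
    · intro b _ hb; simp [Pi.single_eq_of_ne hb.symm]
    · simp
  have h2 : ∀ i, gEnd (F := F) Q z (act τ (sub (k := k) p hexp f (v i)) (Pi.single i 1)) =
      ∑ j, gC (F := F) Q (z j i) • act τ (sub (k := k) p hexp f (v i)) (Pi.single j 1) := by
    intro i
    rw [← Module.End.mul_apply, (commute_gEnd_act τ hz _).eq, Module.End.mul_apply, h1, map_sum]
    simp only [map_smul]
  conv_rhs => rw [twS, map_sum]
  simp only [h2]
  rw [twS, Finset.sum_comm]
  refine Finset.sum_congr rfl fun j _ => ?_
  rw [gEnd, Matrix.toLin'_apply, Matrix.mulVec, dotProduct, map_sum, map_sum, LinearMap.sum_apply]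
  refine Finset.sum_congr rfl fun i _ => ?_
  rw [Matrix.map_apply, map_mul, map_mul, sub_gC, Module.End.mul_apply, act_single, map_one,
    gEnd_one, LinearMap.smul_apply, Module.End.one_apply]

theorem twS_act (r : MonoidAlgebra F Q) (v : ι → F) :
    twS p hexp f τ (act τ r v) = act τ (subAlg (k := k) p hexp f r) (twS p hexp f τ v) := by
  induction r using MonoidAlgebra.induction_linear generalizing v with
  | zero => simp [twS_zero]
  | add x y hx hy =>
    rw [map_add, LinearMap.add_apply, twS_add, hx, hy, map_add, map_add, LinearMap.add_apply]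
  | single q c =>
    rw [act_single, LinearMap.smul_apply, twS_smul, twS_gEnd p hexp f τ
      (fun q' => (Commute.all q q').map τ), subAlg_single, map_mul, Module.End.mul_apply,
      act_single τ q 1, one_smul]

theorem twS_genEl (z : Q → Matrix ι ι k) (hz : ∀ q q', Commute (z q) (τ q'))
    (v : ι → F) :
    twS p hexp f τ (genEl z v) = genEl (fun q => τ (f q) * z q) (twS p hexp f τ v) := by
  rw [genEl, genEl, LinearMap.sum_apply, LinearMap.sum_apply, twS_sum]
  refine Finset.sum_congr rfl fun q _ => ?_
  rw [LinearMap.smul_apply, twS_smul, twS_gEnd p hexp f τ (hz q), sub_gx, act_single,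
    LinearMap.smul_apply, LinearMap.smul_apply, gEnd_mul, Module.End.mul_apply]

omit hexp in
/-- The filtration by the powers of the augmentation ideal. -/
noncomputable def filt (n : ℕ) : Submodule F (ι → F) :=
  Submodule.span F {w | ∃ r ∈ aug (Q := Q) (F := F) ^ n, ∃ v, act τ r v = w}

omit hexp in
theorem act_mem_filt {a b : ℕ} {r : MonoidAlgebra F Q} (hr : r ∈ aug (Q := Q) (F := F) ^ a)
    {w : ι → F} (hw : w ∈ filt τ b) : act τ r w ∈ filt τ (a + b) := by
  have h : filt τ b ≤ (filt τ (a + b)).comap (act τ r) := by
    refine Submodule.span_le.2 ?_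
    rintro _ ⟨s, hs, v, rfl⟩
    refine Submodule.subset_span ⟨r * s, ?_, v, ?_⟩
    · rw [pow_add]
      exact Ideal.mul_mem_mul hr hs
    · rw [map_mul, Module.End.mul_apply]
  exact h hw

/-- The substitution does not shrink the kernels of the powers. -/
theorem finrank_ker_twist_le (z : Q → Matrix ι ι k) (hz : ∀ q q', Commute (z q) (τ q')) (j : ℕ) :
    finrank F (LinearMap.ker (genEl (F := F) z ^ j)) ≤
      finrank F (LinearMap.ker (genEl (F := F) (fun q => τ (f q) * z q) ^ j)) := by
  obtain ⟨N, hN⟩ := aug_nilpotent (F := F) p hexp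
  let Vn : ℕ → Submodule F (ι → F) := fun n => filt τ n
  have hmem : ∀ n (r : MonoidAlgebra F Q), r ∈ aug (Q := Q) (F := F) ^ n →
      ∀ v, act τ r v ∈ Vn n := fun n r hr v => Submodule.subset_span ⟨r, hr, v, rfl⟩
  have h0 : Vn 0 = ⊤ := by
    refine eq_top_iff.2 fun v _ => ?_
    have := hmem 0 1 (by simp) v
    rwa [map_one, Module.End.one_apply] at this
  refine finrank_le_of_congr Vn (fun n => Submodule.span_mono ?_) (N := N) ?_ h0
    (twS p hexp f τ) ?_ _ _ ?_
  · rintro w ⟨r, hr, v, rfl⟩
    exact ⟨r, Ideal.pow_le_pow_right (Nat.le_succ n) hr, v, rfl⟩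
  · refine Submodule.span_eq_bot.2 ?_
    rintro w ⟨r, hr, v, rfl⟩
    rw [hN, Ideal.mem_bot] at hr
    rw [hr, map_zero, LinearMap.zero_apply]
  · have hcong : ∀ v, twS p hexp f τ v - v ∈ Vn 1 := by
      intro v
      have e : v = ∑ i, act τ (MonoidAlgebra.single (1 : Q) (v i)) (Pi.single i 1) := by
        conv_lhs => rw [← (Pi.basisFun F ι).sum_repr v]
        refine Finset.sum_congr rfl fun i _ => ?_
        rw [act_single, map_one, gEnd_one]
        simp
      rw [twS]
      nth_rw 2 [e]
      rw [← Finset.sum_sub_distrib]
      refine Submodule.sum_mem _ fun i _ => ?_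
      rw [← LinearMap.sub_apply, ← map_sub]
      refine hmem 1 _ ?_ _
      rw [pow_one]
      show eps _ = 0
      rw [map_sub, eps_sub, eps_single, sub_self]
    intro n v hv
    induction hv using Submodule.span_induction with
    | mem w hw =>
      obtain ⟨r, hr, u, rfl⟩ := hw
      rw [twS_act, show act τ (subAlg (k := k) p hexp f r) (twS p hexp f τ u) - act τ r u =
        act τ (subAlg (k := k) p hexp f r - r) (twS p hexp f τ u) + act τ r (twS p hexp f τ u - u) by
          rw [map_sub, LinearMap.sub_apply, map_sub]; abel]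
      refine Submodule.add_mem _ (hmem _ _ (subAlg_congr p hexp f n r hr) _) ?_
      exact act_mem_filt τ hr (hcong u)
    | zero => simp [twS_zero]
    | add x y _ _ hx hy =>
      rw [twS_add, add_sub_add_comm]
      exact Submodule.add_mem _ hx hy
    | smul c x hxm hx =>
      rw [twS_smul, show act τ (sub (k := k) p hexp f c) (twS p hexp f τ x) - c • x =
        act τ (sub (k := k) p hexp f c) (twS p hexp f τ x - x) +
          act τ (sub (k := k) p hexp f c - MonoidAlgebra.single 1 c) x by
          rw [map_sub (act τ (sub (k := k) p hexp f c)), map_sub (act τ), LinearMap.sub_apply,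
            act_single, map_one, gEnd_one, LinearMap.smul_apply, Module.End.one_apply]
          abel]
      refine Submodule.add_mem _ ?_ ?_
      · have := act_mem_filt τ (a := 0) (r := sub (k := k) p hexp f c) (by simp) hx
        rwa [zero_add] at this
      · have := act_mem_filt τ (a := 1)
          (r := sub (k := k) p hexp f c - MonoidAlgebra.single 1 c) (by
            rw [pow_one]
            show eps _ = 0
            rw [map_sub, eps_sub, eps_single, sub_self]) hxm
        rwa [add_comm] at this
  · intro v hv
    rw [LinearMap.mem_ker] at hv ⊢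
    have : ∀ i w, twS p hexp f τ ((genEl (F := F) z ^ i) w) =
        (genEl (F := F) (fun q => τ (f q) * z q) ^ i) (twS p hexp f τ w) := by
      intro i
      induction i with
      | zero => intro w; simp
      | succ i ih =>
        intro w
        rw [pow_succ, pow_succ, Module.End.mul_apply, Module.End.mul_apply, ih,
          twS_genEl p hexp f τ z hz]
    rw [← this, hv, twS_zero]

/-- The substitution keeps the kernels of the powers. -/
theorem finrank_ker_twist (z : Q → Matrix ι ι k) (hz : ∀ q q', Commute (z q) (τ q')) (j : ℕ) :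
    finrank F (LinearMap.ker (genEl (F := F) z ^ j)) =
      finrank F (LinearMap.ker (genEl (F := F) (fun q => τ (f q) * z q) ^ j)) := by
  refine le_antisymm (finrank_ker_twist_le p hexp f τ z hz j) ?_
  have h := finrank_ker_twist_le (F := F) p hexp (fun q => (f q)⁻¹) τ (fun q => τ (f q) * z q)
    (fun q q' => ((Commute.all (f q) q').map τ).mul_left (hz q q')) j
  have e : (fun q => τ ((fun q => (f q)⁻¹) q) * (τ (f q) * z q)) = z := funext fun q => by
    rw [← mul_assoc, ← map_mul, inv_mul_cancel, map_one, one_mul]
  rwa [e] at h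

/-- The substitution keeps the ranks of the powers. -/
theorem finrank_range_twist (z : Q → Matrix ι ι k) (hz : ∀ q q', Commute (z q) (τ q')) (j : ℕ) :
    finrank F (LinearMap.range (genEl (F := F) z ^ j)) =
      finrank F (LinearMap.range (genEl (F := F) (fun q => τ (f q) * z q) ^ j)) := by
  have h1 := LinearMap.finrank_range_add_finrank_ker (genEl (F := F) z ^ j)
  have h2 := LinearMap.finrank_range_add_finrank_ker (genEl (F := F) (fun q => τ (f q) * z q) ^ j)
  rw [finrank_ker_twist p hexp f τ z hz j] at h1
  omega

end Twist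

end H23.PSolv
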